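import Mathlib
import Cfsg.Agent.H996.Eight.Interval
import Cfsg.Agent.H755.Sd.Par
import Cfsg.Agent.H766.PQ.A01_m3
import Cfsg.Agent.H968.PQ.RatOne_m3
import Cfsg.Agent.H990.PQ.Core
import Cfsg.Agent.H934.Eight.RealSix_m3
import Cfsg.Agent.H950.Count
import Cfsg.Agent.H739.PQ.Fix
import Cfsg.Agent.H996.PQ.BigSum_m3
import Cfsg.Agent.H61.PQ.Cd2_m3
import Cfsg.Agent.S1063
import Cfsg.Agent.S1066
import Cfsg.Agent.H996.Eight.Kq
import Cfsg.Agent.S1065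
import Cfsg.Agent.H996.Eight.KqE
import Cfsg.Agent.H594.PQ.LinkE8b
import Cfsg.Agent.H596.Weil.Psu
import Cfsg.Agent.H942.CB.Cell
import Cfsg.Agent.H394.PBTools_m3
import Cfsg.Agent.H129.RealE7_m3
import Cfsg.Agent.H129.DataG2
import Cfsg.Agent.S1092
import Cfsg.Agent.S1059
import Cfsg.Agent.S1067
import Cfsg.Agent.H755.PQ.TorDualT
import Cfsg.Agent.H755.PQ.TorTw
import Cfsg.Agent.H996.PQ.TabE8c3_m3
import Cfsg.Agent.H658.MajorVal
import Cfsg.Agent.Blocks.SectionSum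
import Cfsg.Agent.Blocks.Induced
import Cfsg.Agent.Blocks.PrincipalSection
import Cfsg.Agent.Characters.SchurBound
import Cfsg.Agent.H906.PQ.KqA
import Cfsg.Agent.FastGrp
import Cfsg.Agent.Prune
set_option linter.all false

section
prune_inst 0x7f00000000000000000000000000000000000000000000000000000000000000000000000000000000000000000000000000000000000000000000000000000000000000000000000000000000000000003ffeff77fcfffffffffff7ffffffbeffbde3feffff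

-- part: H423/PQ/Chain_mg
section
prune_inst 0x10088000000000000080000000000001c010000
set_option linter.all false
open scoped Cfsg.Agent.FastGrp

-- part: H423/PQ/Chain
section
/-!
# S4612, row PSL, [PSL-D1a] (helper423): a chain of permutation characters

* `chain_of_orbits` : if `X 0, ..., X N` are finite `G`-sets such that `G` has `j + 1` orbits on `X j × X k` for
  `j ≤ k` and `|X k| < |X (k + 1)|`, then there are different irreducible characters `χ 0, ..., χ N` such that the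
  permutation character on `X k` is `χ 0 + ... + χ k`.
-/

set_option autoImplicit false

namespace Cfsg.Agent.H423.PQ

open Cfsg Module MulAction
open Cfsg.Agent.Characters.Core Cfsg.Agent.H464.PermIrr

universe u v

theorem chain_of_orbits {G : Type u} [Group G] [Finite G] (X : ℕ → Type v) [∀ k, MulAction G (X k)]
    [∀ k, Finite (X k)] (N : ℕ)
    (horb : ∀ j k : ℕ, j ≤ k → k ≤ N → Nat.card (orbitRel.Quotient G (X j × X k)) = j + 1)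
    (hlt : ∀ k < N, Nat.card (X k) < Nat.card (X (k + 1))) :
    ∃ χ : ℕ → IrrCharacter G, (∀ i j, i ≤ N → j ≤ N → χ i = χ j → i = j) ∧
      ∀ k ≤ N, ∀ g : G, (Nat.card (fixedBy (X k) g) : ℂ) = ∑ i ∈ Finset.range (k + 1), (χ i : G → ℂ) g := by
  classical
  have := Fintype.ofFinite G
  -- the inner products
  have hin : ∀ j k : ℕ, j ≤ k → k ≤ N → classInner (pc G (X j)) (pc G (X k)) = j + 1 := by
    intro j k hjk hk
    rw [classInner_pc, horb j k hjk hk]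
    push_cast
    rfl
  have hin' : ∀ j k : ℕ, j ≤ k → k ≤ N → classInner (pc G (X k)) (pc G (X j)) = j + 1 := by
    intro j k hjk hk
    rw [← classInner_conj_symm, hin j k hjk hk, map_add, map_natCast, map_one]
  -- the constituents
  let D : ℕ → G → ℂ := fun k => if k = 0 then pc G (X 0) else pc G (X k) - pc G (X (k - 1))
  have hD0 : D 0 = pc G (X 0) := if_pos rfl
  have hDs : ∀ k, D (k + 1) = pc G (X (k + 1)) - pc G (X k) := fun k => if_neg (Nat.succ_ne_zero k)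
  have hirr : ∀ k, k ≤ N → IsIrrCharacter G (D k) := by
    intro k hk
    rcases k with _ | k
    · rw [hD0]
      refine isIrr_of_classInner_self (isCharacter_pc G (X 0)) ?_
      rw [hin 0 0 le_rfl (Nat.zero_le _)]
      simp
    · rw [hDs]
      have h1 : classInner (pc G (X (k + 1)) - pc G (X k)) (pc G (X (k + 1)) - pc G (X k)) = 1 := by
        simp only [classInner_sub_left, classInner_sub_right]
        rw [hin (k + 1) (k + 1) le_rfl hk, hin' k (k + 1) (Nat.le_succ k) hk, hin k (k + 1) (Nat.le_succ k) hk,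
          hin k k le_rfl (by omega)]
        push_cast
        ring
      rcases isIrr_of_generalized (G := G) ⟨_, _, isCharacter_pc G (X (k + 1)), isCharacter_pc G (X k), rfl⟩ h1
        with h | h
      · exact h
      · exfalso
        obtain ⟨n, hn, hn'⟩ := isIrr_apply_one h
        rw [Pi.neg_apply, Pi.sub_apply, pc_one, pc_one] at hn'
        have h3 : (Nat.card (X k) : ℂ) = Nat.card (X (k + 1)) + n := by linear_combination hn'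
        have h4 : Nat.card (X k) = Nat.card (X (k + 1)) + n := by exact_mod_cast h3
        have := hlt k (by omega)
        omega
  -- orthogonality
  have hort : ∀ i j, i < j → j ≤ N → classInner (D i) (D j) = 0 := by
    intro i j hij hj
    obtain ⟨j, rfl⟩ : ∃ j', j = j' + 1 := ⟨j - 1, by omega⟩
    rcases i with _ | i
    · rw [hD0, hDs, classInner_sub_right, hin 0 (j + 1) (Nat.zero_le _) hj, hin 0 j (Nat.zero_le _) (by omega)]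
      ring
    · rw [hDs, hDs]
      simp only [classInner_sub_left, classInner_sub_right]
      rw [hin (i + 1) (j + 1) (by omega) hj, hin (i + 1) j (by omega) (by omega), hin i (j + 1) (by omega) hj,
        hin i j (by omega) (by omega)]
      push_cast
      ring
  refine ⟨fun k => if h : k ≤ N then ⟨D k, hirr k h⟩ else ⟨D 0, hirr 0 (Nat.zero_le _)⟩, ?_, ?_⟩
  · intro i j hi hj h
    simp only [dif_pos hi, dif_pos hj] at h
    have h1 : D i = D j := congrArg Subtype.val h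
    rcases lt_trichotomy i j with hij | hij | hij
    · exfalso
      have h2 := hort i j hij hj
      rw [h1, classInner_irr_self (hirr j hj)] at h2
      exact one_ne_zero h2
    · exact hij
    · exfalso
      have h2 := hort j i hij hi
      rw [← h1, classInner_irr_self (hirr i hi)] at h2
      exact one_ne_zero h2
  · intro k hk g
    have h1 : ∀ i ∈ Finset.range (k + 1), ((if h : i ≤ N then ⟨D i, hirr i h⟩ else
        ⟨D 0, hirr 0 (Nat.zero_le _)⟩ : IrrCharacter G) : G → ℂ) g = D i g := by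
      intro i hi
      have := Finset.mem_range.1 hi
      rw [dif_pos (show i ≤ N by omega)]
    rw [Finset.sum_congr rfl h1]
    clear h1 hk
    change pc G (X k) g = _
    induction k with
    | zero => rw [Finset.sum_range_one, hD0]
    | succ k ih =>
      rw [Finset.sum_range_succ, ← ih, hDs, Pi.sub_apply]
      ring

end Cfsg.Agent.H423.PQ
end

-- part: H528/PQL/Bd
section
/-!
# S4612, row of `PSL_n`: the block diagonal part of a block triangular matrix (helper528)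

* `bdN b : PB F b ⊓ N →* PB F b ⊓ N` (`N` the kernel of the determinant) and its kernel, an `r`-group;
* `not_dvd_index` : the index of the centraliser in `PB F b ⊓ N` of a block scalar matrix is a power of `r`.
-/

set_option autoImplicit false

namespace Cfsg.Agent.H528.PQL

open Matrix Subgroup Cfsg.Agent.H755.Sd.Par Cfsg.Agent.H755.Sd.Syl
open scoped MatrixGroups

variable {F : Type*} [Field F] {n : ℕ} {b : Fin n → Fin n}

/-- the block diagonal part -/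
def bd (b : Fin n → Fin n) (A : Matrix (Fin n) (Fin n) F) : Matrix (Fin n) (Fin n) F :=
  Matrix.of fun i j => if b i = b j then A i j else 0

theorem bd_apply (A : Matrix (Fin n) (Fin n) F) (i j : Fin n) : bd b A i j = if b i = b j then A i j else 0 := rfl

theorem bd_one : bd b (1 : Matrix (Fin n) (Fin n) F) = 1 := by
  ext i j
  rw [bd_apply]
  by_cases h : i = j
  · subst h; rw [if_pos rfl]
  · rw [Matrix.one_apply_ne h, ite_self]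

theorem bd_mul {A B : Matrix (Fin n) (Fin n) F} (hA : A.BlockTriangular b) (hB : B.BlockTriangular b) :
    bd b (A * B) = bd b A * bd b B := by
  ext i j
  rw [bd_apply, Matrix.mul_apply, Matrix.mul_apply]
  by_cases h : b i = b j
  · rw [if_pos h]
    refine Finset.sum_congr rfl fun l _ => ?_
    rw [bd_apply, bd_apply]
    by_cases h1 : b i = b l
    · rw [if_pos h1, if_pos (h1 ▸ h)]
    · rw [if_neg h1, zero_mul]
      rcases lt_or_gt_of_ne h1 with h2 | h2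
      · rw [hB (show b j < b l by rw [← h]; exact h2), mul_zero]
      · rw [hA h2, zero_mul]
  · rw [if_neg h]
    symm
    refine Finset.sum_eq_zero fun l _ => ?_
    rw [bd_apply, bd_apply]
    by_cases h1 : b i = b l
    · rw [if_neg (fun h2 => h (h1.trans h2)), mul_zero]
    · rw [if_neg h1, zero_mul]

theorem bd_tri (A : Matrix (Fin n) (Fin n) F) : (bd b A).BlockTriangular b := fun i j h => by
  rw [bd_apply, if_neg h.ne']

theorem bd_square (A : Matrix (Fin n) (Fin n) F) (k : Fin n) :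
    (bd b A).toSquareBlock b k = A.toSquareBlock b k := by
  ext i j
  show bd b A i j = A i j
  rw [bd_apply, if_pos (i.2.trans j.2.symm)]

theorem det_bd {A : Matrix (Fin n) (Fin n) F} (hA : A.BlockTriangular b) : (bd b A).det = A.det := by
  rw [(bd_tri A).det_fintype, hA.det_fintype]
  exact Finset.prod_congr rfl fun k _ => by rw [bd_square]

/-- the kernel of the determinant -/
abbrev N (F : Type*) [Field F] (n : ℕ) : Subgroup (GL (Fin n) F) :=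
  (Matrix.GeneralLinearGroup.det : GL (Fin n) F →* Fˣ).ker

theorem mem_N {g : GL (Fin n) F} : g ∈ N F n ↔ (g : Matrix (Fin n) (Fin n) F).det = 1 := by
  rw [MonoidHom.mem_ker, Units.ext_iff]
  rfl

/-- the block diagonal part, for invertible matrices -/
def bdG (b : Fin n → Fin n) : PB F b →* GL (Fin n) F where
  toFun g := ⟨bd b ((g : GL (Fin n) F) : Matrix (Fin n) (Fin n) F),
    bd b (((g⁻¹ : PB F b) : GL (Fin n) F) : Matrix (Fin n) (Fin n) F), by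
      rw [← bd_mul g.2 (g⁻¹).2, ← Units.val_mul, ← Subgroup.coe_mul, mul_inv_cancel, Subgroup.coe_one, Units.val_one,
        bd_one], by
      rw [← bd_mul (g⁻¹).2 g.2, ← Units.val_mul, ← Subgroup.coe_mul, inv_mul_cancel, Subgroup.coe_one, Units.val_one,
        bd_one]⟩
  map_one' := Units.ext bd_one
  map_mul' x y := Units.ext (bd_mul x.2 y.2)

theorem coe_bdG (g : PB F b) : ((bdG b g : GL (Fin n) F) : Matrix (Fin n) (Fin n) F) =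
    bd b ((g : GL (Fin n) F) : Matrix (Fin n) (Fin n) F) := rfl

/-- the block diagonal part on `PB ⊓ N` -/
def bdN (b : Fin n → Fin n) : ↥(PB F b ⊓ N F n) →* ↥(PB F b ⊓ N F n) :=
  ((bdG b).comp (Subgroup.inclusion inf_le_left)).codRestrict _ fun g => by
    refine ⟨bd_tri _, mem_N.2 ?_⟩
    rw [MonoidHom.comp_apply, coe_bdG, det_bd]
    · exact mem_N.1 g.2.2
    · exact g.2.1

theorem coe_bdN (g : ↥(PB F b ⊓ N F n)) : (((bdN b g : ↥(PB F b ⊓ N F n)) : GL (Fin n) F) : Matrix (Fin n) (Fin n) F) =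
    bd b ((g : GL (Fin n) F) : Matrix (Fin n) (Fin n) F) := rfl

/-- strictly block triangular matrices are nilpotent -/
theorem pow_apply_eq_zero {X : Matrix (Fin n) (Fin n) F} (hX : ∀ i j, ¬ b i < b j → X i j = 0) (k : ℕ) (i j : Fin n)
    (h : ¬ (b i : ℕ) + k ≤ b j) : (X ^ k) i j = 0 := by
  induction k generalizing i j with
  | zero =>
    rw [pow_zero, Matrix.one_apply_ne]
    rintro rfl
    exact h (by simp)
  | succ k ih =>
    rw [pow_succ, Matrix.mul_apply]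
    refine Finset.sum_eq_zero fun l _ => ?_
    by_cases h1 : (b i : ℕ) + k ≤ b l
    · rw [hX l j, mul_zero]
      intro h2
      have : (b l : ℕ) < b j := h2
      omega
    · rw [ih i l h1, zero_mul]

theorem pow_eq_zero_of_strict {X : Matrix (Fin n) (Fin n) F} (hX : ∀ i j, ¬ b i < b j → X i j = 0) {k : ℕ}
    (hk : n ≤ k) : X ^ k = 0 := by
  ext i j
  refine pow_apply_eq_zero hX k i j ?_
  have := (b j).2
  omega

/-- the kernel of the block diagonal part is an `r`-group -/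
theorem isPGroup_ker {r : ℕ} [hr : Fact r.Prime] [CharP F r] : IsPGroup r (bdN (F := F) b).ker := by
  rintro ⟨g, hg⟩
  rw [MonoidHom.mem_ker] at hg
  have h1 : bd b ((g : GL (Fin n) F) : Matrix (Fin n) (Fin n) F) = 1 := by
    rw [← coe_bdN, hg]; rfl
  set X : Matrix (Fin n) (Fin n) F := ((g : GL (Fin n) F) : Matrix (Fin n) (Fin n) F) - 1 with hXdef
  have hX : ∀ i j, ¬ b i < b j → X i j = 0 := by
    intro i j hij
    rw [hXdef, Matrix.sub_apply]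
    rcases (not_lt.1 hij).lt_or_eq with h2 | h2
    · rw [g.2.1 h2, Matrix.one_apply_ne (by rintro rfl; exact lt_irrefl _ h2), sub_zero]
    · have h3 := congrFun (congrFun h1 i) j
      rw [bd_apply, if_pos h2.symm] at h3
      rw [h3, sub_self]
  obtain ⟨k, hk⟩ : ∃ k, n ≤ r ^ k := ⟨n, (Nat.lt_pow_self hr.out.one_lt).le⟩
  refine ⟨k, ?_⟩
  apply Subtype.ext
  apply Subtype.ext
  apply Units.ext
  show ((g : GL (Fin n) F) : Matrix (Fin n) (Fin n) F) ^ r ^ k = 1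
  have h4 : ((g : GL (Fin n) F) : Matrix (Fin n) (Fin n) F) = X + 1 := by rw [hXdef, sub_add_cancel]
  rw [h4]
  rcases isEmpty_or_nonempty (Fin n) with hn | hn
  · exact Subsingleton.elim _ _
  · have : CharP (Matrix (Fin n) (Fin n) F) r := Matrix.charP r
    rw [add_pow_char_pow_of_commute r k (Commute.one_right X), one_pow, pow_eq_zero_of_strict hX hk, zero_add]

/-- the index of the centraliser of an element commuting with the block diagonal matrices -/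
theorem not_dvd_index [Finite F] {p r : ℕ} (hp : p.Prime) [hr : Fact r.Prime] [CharP F r] (hpr : p ≠ r)
    (z : ↥(PB F b ⊓ N F n)) (hz : ∀ h : ↥(PB F b ⊓ N F n), z * bdN b h = bdN b h * z) :
    ¬ p ∣ (Subgroup.centralizer ({z} : Set ↥(PB F b ⊓ N F n))).index := by
  intro hd
  have hle : (bdN (F := F) b).range ≤ Subgroup.centralizer ({z} : Set ↥(PB F b ⊓ N F n)) := by
    rintro _ ⟨h, rfl⟩
    rw [Subgroup.mem_centralizer_singleton_iff]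
    exact (hz h).symm
  have h1 := hd.trans (Subgroup.index_dvd_of_le hle)
  have h2 : (bdN (F := F) b).range.index = Nat.card (bdN (F := F) b).ker := by
    have h3 := Subgroup.card_mul_index (bdN (F := F) b).range
    have h4 := Subgroup.card_mul_index (bdN (F := F) b).ker
    rw [Subgroup.index_ker] at h4
    have h5 : 0 < Nat.card (bdN (F := F) b).range := Nat.card_pos
    rw [← h4, mul_comm] at h3
    exact Nat.eq_of_mul_eq_mul_right h5 h3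
  obtain ⟨k, hk⟩ := (IsPGroup.iff_card (p := r)).1 (isPGroup_ker (F := F) (b := b))
  rw [h2, hk] at h1
  exact hpr ((Nat.prime_dvd_prime_iff_eq hp hr.out).1 (hp.dvd_of_dvd_pow h1))

end Cfsg.Agent.H528.PQL
end

-- part: H528/PQL/Lin
section
/-!
# S4612, row of `PSL_n`, [D3]: `q ∣ |F| - 1` (helper528)

`row_lin1` : [D3] (`row_lin1_of` : from [D2]).
-/

set_option autoImplicit false

open Cfsg Module MulAction

namespace Cfsg.Agent.H528.PQL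

open Cfsg.Agent.H317.PQ Cfsg.Agent.H329.PQ Cfsg.Agent.H755.Sd.Par Cfsg.Agent.H755.Sd.Syl
open scoped MatrixGroups

/-- the statement of [D2] for groups in `Type` -/
def CT : Prop := ∀ {Γ S : Type} [Group Γ] [Finite Γ] [Group S] {p q : ℕ} (_ : p.Prime) (_ : q.Prime)
    (_ : p ≠ q) (N : Subgroup Γ) [N.Normal] (π : ↥N →* S) (_ : Function.Surjective π)
    (_ : ∀ x : ↥N, π x = 1 → ∀ g : Γ, g * x = x * g) (H : Subgroup Γ) (θ : ↥H →* ℂˣ)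
    (_ : ∀ h : ↥H, ∃ k : ℕ, θ h ^ q ^ k = 1)
    (_ : ∀ g : Γ, g ∉ H → ∃ (t : ↥H) (hx : g⁻¹ * t * g ∈ H), θ t ≠ θ ⟨g⁻¹ * t * g, hx⟩)
    (_ : ∀ (x : ↥N) (hx : (x : Γ) ∈ H), π x = 1 → θ ⟨x, hx⟩ = 1)
    (z : Γ) (hzH : z ∈ H) (hzN : z ∈ N) (_ : θ ⟨z, hzH⟩ ≠ 1)
    (_ : ¬ p ∣ (Subgroup.centralizer ({⟨z, hzH, hzN⟩} : Set ↥(H ⊓ N))).index), ¬ Same p q S

section

variable {F : Type*} [Field F]

/-- a linear character of `F^*` of `q`-power order whose square is not trivial -/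
theorem exists_lam [Finite F] {q : ℕ} (hq : q.Prime) (h : (q ≠ 2 ∧ q ∣ Nat.card F - 1) ∨ (q = 2 ∧ 4 ∣ Nat.card F - 1)) :
    ∃ (lam : Fˣ →* ℂˣ) (x : Fˣ) (k : ℕ), lam x ^ 2 ≠ 1 ∧ ∀ y, lam y ^ q ^ k = 1 := by
  obtain ⟨d, k, hd, hd2, hdk⟩ : ∃ d k : ℕ, d ∣ Nat.card F - 1 ∧ ¬ d ∣ 2 ∧ d ∣ q ^ k := by
    rcases h with ⟨h1, h2⟩ | ⟨rfl, h2⟩
    · refine ⟨q, 1, h2, fun h3 => h1 ((Nat.prime_dvd_prime_iff_eq hq Nat.prime_two).1 h3), by rw [pow_one]⟩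
    · exact ⟨4, 2, h2, by decide, by decide⟩
  have hd0 : d ≠ 0 := by
    rintro rfl
    exact (pow_ne_zero k hq.ne_zero) (Nat.eq_zero_of_zero_dvd hdk)
  obtain ⟨x, hx⟩ := IsCyclic.exists_generator (α := Fˣ)
  have hη := Complex.isPrimitiveRoot_exp d hd0
  obtain ⟨η, hη⟩ : ∃ η : ℂˣ, IsPrimitiveRoot η d := ⟨(hη.isUnit hd0).unit, hη.isUnit_unit hd0⟩
  have ho : orderOf η = d := hη.eq_orderOf.symm
  have hox : orderOf x = Nat.card F - 1 := by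
    rw [orderOf_eq_card_of_forall_mem_zpowers hx, Nat.card_units]
  refine ⟨monoidHomOfForallMemZpowers hx (g' := η) (by rw [ho, hox]; exact hd), x, k, ?_, fun y => ?_⟩
  · rw [monoidHomOfForallMemZpowers_apply_gen]
    intro h2
    exact hd2 (by rw [← ho]; exact orderOf_dvd_of_pow_eq_one h2)
  · obtain ⟨j, rfl⟩ := hx y
    have : η ^ q ^ k = 1 := orderOf_dvd_iff_pow_eq_one.1 (by rw [ho]; exact hdk)
    rw [← map_pow]
    show monoidHomOfForallMemZpowers hx _ ((x ^ j) ^ q ^ k) = 1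
    rw [← zpow_natCast, zpow_comm, map_zpow, zpow_natCast, map_pow, monoidHomOfForallMemZpowers_apply_gen, this, one_zpow]

/-- the blocks -/
def bb (n : ℕ) (i : Fin n) : Fin n := ⟨min i 2, lt_of_le_of_lt (min_le_left _ _) i.2⟩

/-- the linear characters of the blocks -/
def ss {n : ℕ} (lam : Fˣ →* ℂˣ) (i : Fin n) : Fˣ →* ℂˣ := if (i : ℕ) = 0 then lam else if (i : ℕ) = 1 then lam⁻¹ else 1

theorem ss_bb {n : ℕ} (lam : Fˣ →* ℂˣ) (i : Fin n) : ss lam (bb n i) = ss lam i := by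
  unfold ss bb
  have h0 : min (i : ℕ) 2 = 0 ↔ (i : ℕ) = 0 := by omega
  have h1 : min (i : ℕ) 2 = 1 ↔ (i : ℕ) = 1 := by omega
  simp only [h0, h1]

theorem bb_of_ss {n : ℕ} {lam : Fˣ →* ℂˣ} {x : Fˣ} (hx : lam x ^ 2 ≠ 1) {i j : Fin n} (h : ss lam i x = ss lam j x) :
    bb n i = bb n j := by
  have h1 : lam x ≠ 1 := fun h1 => hx (by rw [h1, one_pow])
  have h2 : lam x ≠ (lam x)⁻¹ := fun h2 => hx (by rw [pow_two]; nth_rw 2 [h2]; exact mul_inv_cancel _)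
  have h3 : (lam x)⁻¹ ≠ 1 := fun h3 => h1 (inv_eq_one.1 h3)
  apply Fin.ext
  show min (i : ℕ) 2 = min (j : ℕ) 2
  unfold ss at h
  split_ifs at h with a1 a2 a3 a4 a5 a6 a7 a8
  all_goals first
    | omega
    | exact absurd h h1
    | exact absurd h h2
    | exact absurd h h3
    | exact absurd h.symm h1
    | exact absurd h.symm h2
    | exact absurd h.symm h3

/-- `SL` as the kernel of the determinant -/
def toSL (F : Type*) [Field F] (n : ℕ) : ↥(N F n) →* Matrix.SpecialLinearGroup (Fin n) F where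
  toFun g := ⟨((g : GL (Fin n) F) : Matrix (Fin n) (Fin n) F), mem_N.1 g.2⟩
  map_one' := rfl
  map_mul' _ _ := rfl

theorem toSL_surjective {n : ℕ} : Function.Surjective (toSL F n) := by
  intro g
  refine ⟨⟨Matrix.SpecialLinearGroup.toGL g, mem_N.2 g.2⟩, ?_⟩
  rfl

/-- the projection to `PSL` -/
def pr (F : Type*) [Field F] (n : ℕ) : ↥(N F n) →* Matrix.ProjectiveSpecialLinearGroup (Fin n) F :=
  (QuotientGroup.mk' _).comp (toSL F n)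

theorem pr_surjective {n : ℕ} : Function.Surjective (pr F n) :=
  (QuotientGroup.mk'_surjective _).comp toSL_surjective

theorem exists_scalar {n : ℕ} (hn : n ≠ 0) {x : ↥(N F n)} (hx : pr F n x = 1) :
    ∃ c : Fˣ, (x : GL (Fin n) F) = dgl (fun _ => c) := by
  have h1 : toSL F n x ∈ Subgroup.center (Matrix.SpecialLinearGroup (Fin n) F) := by
    rw [← QuotientGroup.eq_one_iff]
    exact hx
  obtain ⟨r, hr, hrx⟩ := Matrix.SpecialLinearGroup.mem_center_iff.1 h1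
  have hr0 : r ≠ 0 := by
    rintro rfl
    rw [Fintype.card_fin, zero_pow hn] at hr
    exact zero_ne_one hr
  refine ⟨Units.mk0 r hr0, Units.ext ?_⟩
  exact hrx.symm

theorem prod_two {M : Type*} [CommMonoid M] {m : ℕ} {f : Fin (m + 2) → M} (hf : ∀ i : Fin (m + 2), 2 ≤ (i : ℕ) → f i = 1) :
    ∏ i, f i = f 0 * f 1 := by
  rw [Fin.prod_univ_succ, Fin.prod_univ_succ, Finset.prod_eq_one, mul_one]
  · rfl
  · intro i _
    exact hf _ (by simp)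

theorem ss_zero {m : ℕ} (lam : Fˣ →* ℂˣ) : ss lam (0 : Fin (m + 2)) = lam := if_pos rfl

theorem ss_one {m : ℕ} (lam : Fˣ →* ℂˣ) : ss lam (1 : Fin (m + 2)) = lam⁻¹ := by
  rw [ss, if_neg (by simp), if_pos (by simp)]

theorem ss_ge {n : ℕ} (lam : Fˣ →* ℂˣ) {i : Fin n} (hi : 2 ≤ (i : ℕ)) : ss lam i = 1 := by
  rw [ss, if_neg (by omega), if_neg (by omega)]

/-- the diagonal element -/
def tt {n : ℕ} (x : Fˣ) (i : Fin n) : Fˣ := if (i : ℕ) = 0 then x else if (i : ℕ) = 1 then x⁻¹ else 1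

theorem tt_zero {m : ℕ} (x : Fˣ) : tt x (0 : Fin (m + 2)) = x := if_pos rfl

theorem tt_one {m : ℕ} (x : Fˣ) : tt x (1 : Fin (m + 2)) = x⁻¹ := by
  rw [tt, if_neg (by simp), if_pos (by simp)]

theorem tt_ge {n : ℕ} (x : Fˣ) {i : Fin n} (hi : 2 ≤ (i : ℕ)) : tt x i = 1 := by
  rw [tt, if_neg (by omega), if_neg (by omega)]

theorem tt_eq {n : ℕ} (x : Fˣ) {i j : Fin n} (h : bb n i = bb n j) : tt x i = tt x j := by
  have h1 : min (i : ℕ) 2 = min (j : ℕ) 2 := congrArg Fin.val h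
  have h2 : (i : ℕ) = 0 ↔ (j : ℕ) = 0 := by omega
  have h3 : (i : ℕ) = 1 ↔ (j : ℕ) = 1 := by omega
  unfold tt
  simp only [h2, h3]

end

/-- [D3], [D2] as a hypothesis -/
theorem row_lin1_of (hCT : CT) {F : Type} [Field F] [Finite F] {n : ℕ} (hn : 2 ≤ n) {p q r : ℕ} (hp : p.Prime) (hq : q.Prime)
    (hpq : p ≠ q) [CharP F r] (hpr : p ≠ r) (hqr : q ≠ r)
    (h : (q ≠ 2 ∧ q ∣ Nat.card F - 1) ∨ (q = 2 ∧ 4 ∣ Nat.card F - 1)) :
    ¬ Same p q (Matrix.ProjectiveSpecialLinearGroup (Fin n) F) := by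
  obtain ⟨m, rfl⟩ := Nat.exists_eq_add_of_le' hn
  obtain ⟨lam, x, k, hx, hlk⟩ := exists_lam hq h
  have hr : Fact r.Prime := by
    rcases CharP.char_is_prime_or_zero F r with h1 | h1
    · exact ⟨h1⟩
    · subst h1
      exact absurd (CharP.charP_to_charZero F) (fun h2 => by
        have := h2
        exact (not_injective_infinite_finite (Nat.cast : ℕ → F)) Nat.cast_injective)
  have hzN : dgl (tt x) ∈ N F (m + 2) := by
    rw [mem_N, coe_dgl, Matrix.det_diagonal, ← Units.coe_prod, prod_two (fun i hi => tt_ge x hi), tt_zero, tt_one,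
      mul_inv_cancel, Units.val_one]
  refine hCT hp hq hpq (N F (m + 2)) (pr F (m + 2)) pr_surjective ?_ (PB F (bb (m + 2))) (Lam (ss lam)) ?_ ?_ ?_
    (dgl (tt x)) (dgl_mem _) hzN ?_ ?_
  · -- the kernel is central
    intro y hy g
    obtain ⟨c, hc⟩ := exists_scalar (by omega) hy
    rw [hc]
    apply Units.ext
    rw [Units.val_mul, Units.val_mul, coe_dgl]
    ext i j
    rw [Matrix.mul_diagonal, Matrix.diagonal_mul, mul_comm]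
  · intro y
    refine ⟨k, ?_⟩
    rw [Lam_apply, ← Finset.prod_pow]
    refine Finset.prod_eq_one fun i _ => ?_
    unfold ss
    split_ifs
    · exact hlk _
    · rw [MonoidHom.inv_apply, inv_pow, hlk, inv_one]
    · rw [MonoidHom.one_apply, one_pow]
  · intro g hg
    obtain ⟨σ, h1, h2⟩ := exists_mackey (b := bb (m + 2)) (s := ss lam) (ss_bb lam) g
    obtain ⟨i, hi⟩ : ∃ i, bb (m + 2) (σ i) ≠ bb (m + 2) i := by
      by_contra hcon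
      push Not at hcon
      exact hg (h1 hcon)
    obtain ⟨y, hy, -, h3, h4⟩ := h2 (Pi.mulSingle (σ i) x)
    refine ⟨y, hy, ?_⟩
    rw [h3, h4]
    have e1 : ∏ j, ss lam j (Pi.mulSingle (M := fun _ => Fˣ) (σ i) x j) = ss lam (σ i) x := by
      rw [Finset.prod_eq_single (σ i)]
      · rw [Pi.mulSingle_eq_same]
      · intro j _ hj
        rw [Pi.mulSingle_eq_of_ne hj, map_one]
      · intro h5; exact absurd (Finset.mem_univ _) h5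
    have e2 : ∏ j, ss lam j (Pi.mulSingle (M := fun _ => Fˣ) (σ i) x (σ j)) = ss lam i x := by
      rw [Finset.prod_eq_single i]
      · rw [Pi.mulSingle_eq_same]
      · intro j _ hj
        rw [Pi.mulSingle_eq_of_ne (fun h6 => hj (σ.injective h6)), map_one]
      · intro h5; exact absurd (Finset.mem_univ _) h5
    rw [e1, e2]
    exact fun h6 => hi (bb_of_ss hx h6)
  · intro y hyH hy
    obtain ⟨c, hc⟩ := exists_scalar (by omega) hy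
    have e1 : (⟨(y : GL (Fin (m + 2)) F), hyH⟩ : PB F (bb (m + 2))) = ⟨dgl (fun _ => c), dgl_mem _⟩ := Subtype.ext hc
    rw [e1, Lam_dgl (ss_bb lam), prod_two (fun i hi => by rw [ss_ge lam hi]; rfl), ss_zero, ss_one, MonoidHom.inv_apply,
      mul_inv_cancel]
  · rw [Lam_dgl (ss_bb lam), prod_two (fun i hi => by rw [ss_ge lam hi]; rfl), ss_zero, ss_one, MonoidHom.inv_apply,
      tt_zero, tt_one, map_inv, inv_inv, ← pow_two]
    exact hx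
  · refine not_dvd_index (r := r) hp hpr _ fun g => ?_
    apply Subtype.ext
    apply Units.ext
    show ((dgl (tt x) : GL (Fin (m + 2)) F) : Matrix (Fin (m + 2)) (Fin (m + 2)) F) *
      bd (bb (m + 2)) ((g : GL (Fin (m + 2)) F) : Matrix (Fin (m + 2)) (Fin (m + 2)) F) =
      bd (bb (m + 2)) ((g : GL (Fin (m + 2)) F) : Matrix (Fin (m + 2)) (Fin (m + 2)) F) *
        ((dgl (tt x) : GL (Fin (m + 2)) F) : Matrix (Fin (m + 2)) (Fin (m + 2)) F)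
    rw [coe_dgl]
    ext i j
    rw [Matrix.mul_diagonal, Matrix.diagonal_mul, bd_apply]
    by_cases hij : bb (m + 2) i = bb (m + 2) j
    · rw [if_pos hij, tt_eq x hij, mul_comm]
    · rw [if_neg hij, mul_zero, zero_mul]

/-- [D3] -/
theorem row_lin1 {F : Type} [Field F] [Finite F] {n : ℕ} (hn : 2 ≤ n) {p q r : ℕ} (hp : p.Prime) (hq : q.Prime)
    (hpq : p ≠ q) [CharP F r] (hpr : p ≠ r) (hqr : q ≠ r)
    (h : (q ≠ 2 ∧ q ∣ Nat.card F - 1) ∨ (q = 2 ∧ 4 ∣ Nat.card F - 1)) :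
    ¬ Same p q (Matrix.ProjectiveSpecialLinearGroup (Fin n) F) :=
  row_lin1_of @Cfsg.Agent.H775.PQL.clifford_test.{0} hn hp hq hpq hpr hqr h

end Cfsg.Agent.H528.PQL
end

-- part: H219/PQL/InvEl
section
/-!
# S4612, row of `PSL_n`, [D5b] : invariant subspaces of small dimension (helper219)
-/

set_option autoImplicit false

open Cfsg Module

namespace Cfsg.Agent.H219.PQL

open Cfsg.Agent.H355.PQ

universe u v

variable {F : Type u} [Field F] {K : Type u} [Field K] [Algebra F K] {V : Type v} [AddCommGroup V] [Module F V]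
  {p e w : ℕ} {ζ : Kˣ}

theorem adjoin_eq_top (h : Dat F K p e ζ) : Algebra.adjoin F {(ζ : K)} = ⊤ := by
  have := h.finF
  have := h.finK
  have hfd : FiniteDimensional F K := Module.Finite.of_finite
  set L : IntermediateField F K := IntermediateField.adjoin F {(ζ : K)} with hL
  have hζL : (ζ : K) ∈ L := IntermediateField.mem_adjoin_simple_self F (ζ : K)
  have h1 : L.toSubalgebra = Algebra.adjoin F {(ζ : K)} :=
    IntermediateField.adjoin_simple_toSubalgebra_of_isAlgebraic (Algebra.IsAlgebraic.isAlgebraic (ζ : K))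
  -- the order of `ζ`
  have h2 : p ∣ Nat.card F ^ finrank F L - 1 := by
    have h3 : Nat.card L = Nat.card F ^ finrank F L := Module.natCard_eq_pow_finrank
    have hz0 : (⟨(ζ : K), hζL⟩ : L) ≠ 0 := by
      intro h4
      exact ζ.ne_zero (congrArg Subtype.val h4)
    set z : Lˣ := Units.mk0 (⟨(ζ : K), hζL⟩ : L) hz0 with hz
    have h4 : Units.map (algebraMap L K : L →* K) z = ζ := Units.ext rfl
    have h5 : orderOf z = p := by
      rw [← h.ord, ← h4]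
      exact (orderOf_injective _ (Units.map_injective (algebraMap L K).injective) z).symm
    rw [← h3, ← Nat.card_units, ← h5]
    exact orderOf_dvd_natCard z
  have h3 : e ∣ finrank F L := (h.min _).1 h2
  have h4 : finrank F L * finrank L K = e := by rw [Module.finrank_mul_finrank, h.deg]
  have h5 : 0 < finrank F L := Module.finrank_pos
  have h6 : finrank L K = 1 := by
    obtain ⟨c, hc⟩ := h3
    have h7 : 0 < finrank L K := Module.finrank_pos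
    have he : 0 < e := by rw [← h4]; exact Nat.mul_pos h5 h7
    rw [hc, mul_assoc] at h4
    have h8 : c * finrank L K = 1 := Nat.eq_of_mul_eq_mul_left he (by rw [mul_one]; exact h4)
    exact Nat.eq_one_of_mul_eq_one_left h8
  have h7 : L = ⊤ := IntermediateField.finrank_eq_one_iff_eq_top.1 h6
  rw [← h1, h7]
  rfl

/-- a subspace of `K ^ w` invariant under a generator is a `K`-subspace -/
theorem smul_mem {W : Submodule F (Sp K w V)} (h : Algebra.adjoin F {(ζ : K)} = ⊤)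
    (hW : ∀ x : Fin w → K, ((x, 0) : Sp K w V) ∈ W → ((fun i => (ζ : K) * x i, 0) : Sp K w V) ∈ W)
    {x : Fin w → K} (hx : ((x, 0) : Sp K w V) ∈ W) (c : K) : ((fun i => c * x i, 0) : Sp K w V) ∈ W := by
  have hc : c ∈ Algebra.adjoin F {(ζ : K)} := by rw [h]; exact Algebra.mem_top
  induction hc using Algebra.adjoin_induction generalizing x with
  | mem y hy =>
    rw [Set.mem_singleton_iff] at hy
    rw [hy]
    exact hW x hx
  | algebraMap r =>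
    have h1 : ((fun i => algebraMap F K r * x i, 0) : Sp K w V) = r • ((x, 0) : Sp K w V) := by
      ext
      · simp [Algebra.smul_def]
      · simp
    rw [h1]
    exact W.smul_mem r hx
  | add a b _ _ ha hb =>
    have h1 : ((fun i => (a + b) * x i, 0) : Sp K w V) =
        ((fun i => a * x i, 0) : Sp K w V) + ((fun i => b * x i, 0) : Sp K w V) := by
      ext
      · simp [add_mul]
      · simp
    rw [h1]
    exact W.add_mem (ha hx) (hb hx)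
  | mul a b _ _ ha hb =>
    have h1 := ha (hb hx)
    have h2 : ((fun i => a * b * x i, 0) : Sp K w V) = ((fun i => a * (b * x i), 0) : Sp K w V) := by
      ext <;> simp [mul_assoc]
    rw [h2]
    exact h1

/-- the embedding of `K` on a line -/
def line (x : Fin w → K) (V : Type v) [AddCommGroup V] [Module F V] : K →ₗ[F] Sp K w V where
  toFun c := (fun i => c * x i, 0)
  map_add' a b := by
    ext
    · simp [add_mul]
    · simp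
  map_smul' r c := by
    ext
    · simp
    · simp

theorem line_injective {x : Fin w → K} (hx : x ≠ 0) : Function.Injective (line (F := F) x V) := by
  obtain ⟨i, hi⟩ := Function.ne_iff.1 hx
  intro a b hab
  have h1 := congrFun (congrArg Prod.fst hab) i
  exact mul_right_cancel₀ hi h1

theorem el_pow (c : Kˣ) (A : V ≃ₗ[F] V) (n : ℕ) :
    (el c A : Sp K w V ≃ₗ[F] Sp K w V) ^ n = el (c ^ n) (A ^ n) := by
  induction n with
  | zero =>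
    rw [pow_zero, pow_zero, pow_zero]
    apply LinearEquiv.ext
    intro v
    rw [el_apply]
    simp
  | succ n ih =>
    rw [pow_succ, pow_succ, pow_succ, ih]
    apply LinearEquiv.ext
    intro v
    rw [LinearEquiv.mul_apply, el_apply, el_apply, el_apply]
    ext
    · simp [mul_assoc]
    · simp

theorem mem_of_map_eq {M : Type*} [AddCommGroup M] [Module F M] {g : M ≃ₗ[F] M} {W : Submodule F M}
    (h : W.map (g : M →ₗ[F] M) = W) (n : ℕ) {x : M} (hx : x ∈ W) : (g ^ n) x ∈ W := by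
  induction n with
  | zero => exact hx
  | succ n ih =>
    rw [pow_succ', LinearEquiv.mul_apply]
    rw [← h]
    exact ⟨_, ih, rfl⟩

theorem le_range (h : Dat F K p e ζ) (hpF : ¬ p ∣ Nat.card F) {r : ℕ} [CharP F r] [FiniteDimensional F V]
    (A : V ≃ₗ[F] V) (hA : ∃ m : ℕ, A ^ r ^ m = 1) {k : ℕ} (hk : k < e) {W : Submodule F (Sp K w V)}
    (hWk : finrank F W = k) (hW : W.map ((el ζ A : Sp K w V ≃ₗ[F] Sp K w V) : Sp K w V →ₗ[F] Sp K w V) = W) :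
    W ≤ LinearMap.range (LinearMap.inr F (Fin w → K) V) := by
  have := h.finF
  have := h.finK
  have hfd : FiniteDimensional F K := Module.Finite.of_finite
  obtain ⟨m, hm⟩ := hA
  have hr : r.Prime := CharP.char_is_prime F r
  have hpr : ¬ p ∣ r ^ m := by
    intro h1
    have h2 := h.prime.dvd_of_dvd_pow h1
    have h3 : p = r := (Nat.prime_dvd_prime_iff_eq h.prime hr).1 h2
    apply hpF
    rw [h3]
    have := Fintype.ofFinite F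
    have := Fact.mk hr
    obtain ⟨f, -, hf⟩ := FiniteField.card F r
    rw [Nat.card_eq_fintype_card, hf]
    exact dvd_pow_self r f.pos.ne'
  set ζ' : Kˣ := ζ ^ r ^ m with hζ'
  have hord : orderOf ζ' = p := by
    rw [hζ', orderOf_pow' _ (pow_ne_zero _ hr.ne_zero), h.ord,
      ((Nat.Prime.coprime_iff_not_dvd h.prime).2 hpr).gcd_eq_one, Nat.div_one]
  have h' : Dat F K p e ζ' := ⟨h.finF, h.finK, h.prime, hord, h.deg, h.min⟩
  have hg : ∀ v ∈ W, ((fun i => (ζ' : K) * v.1 i, v.2) : Sp K w V) ∈ W := by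
    intro v hv
    have h1 := mem_of_map_eq hW (r ^ m) hv
    rw [el_pow, hm, el_apply] at h1
    exact h1
  have hadj := adjoin_eq_top h'
  have hzero : ∀ x : Fin w → K, ((x, 0) : Sp K w V) ∈ W → x = 0 := by
    intro x hx
    by_contra hx0
    have h1 : LinearMap.range (line (F := F) x V) ≤ W := by
      rintro _ ⟨c, rfl⟩
      exact smul_mem hadj (fun y hy => hg _ hy) hx c
    have h2 := Submodule.finrank_mono h1
    rw [LinearMap.finrank_range_of_inj (line_injective hx0), h.deg, hWk] at h2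
    omega
  have hne : (ζ' : K) - 1 ≠ 0 := by
    intro h1
    have h2 : ζ' = 1 := Units.ext (sub_eq_zero.1 h1)
    rw [h2, orderOf_one] at hord
    exact h.prime.one_lt.ne hord
  rintro ⟨x, y⟩ hv
  have h1 : ((fun i => ((ζ' : K) - 1) * x i, 0) : Sp K w V) ∈ W := by
    have h2 := W.sub_mem (hg _ hv) hv
    have h3 : (((fun i => (ζ' : K) * x i, y) : Sp K w V) - (x, y)) = (fun i => ((ζ' : K) - 1) * x i, 0) := by
      ext
      · simp [sub_mul]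
      · simp
    rw [← h3]
    exact h2
  have h2 := hzero _ h1
  have h3 : x = 0 := by
    funext i
    have h4 := congrFun h2 i
    exact (mul_eq_zero.1 h4).resolve_left hne
  exact ⟨y, by rw [h3]; rfl⟩

theorem map_inr (A : V ≃ₗ[F] V) (W : Submodule F V) :
    (W.map (LinearMap.inr F (Fin w → K) V)).map
      ((el ζ A : Sp K w V ≃ₗ[F] Sp K w V) : Sp K w V →ₗ[F] Sp K w V) =
      (W.map (A : V →ₗ[F] V)).map (LinearMap.inr F (Fin w → K) V) := by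
  rw [← Submodule.map_comp, ← Submodule.map_comp]
  congr 1
  apply LinearMap.ext
  intro v
  show (el ζ A : Sp K w V ≃ₗ[F] Sp K w V) (0, v) = (0, A v)
  rw [el_apply]
  ext
  · simp
  · simp

theorem inv_el (h : Dat F K p e ζ) (hpF : ¬ p ∣ Nat.card F) {r : ℕ} [CharP F r] [FiniteDimensional F V]
    (A : V ≃ₗ[F] V) (hA : ∃ m : ℕ, A ^ r ^ m = 1) {k : ℕ} (hk : k < e) :
    inv k ((el ζ A : Sp K w V ≃ₗ[F] Sp K w V) : Sp K w V →ₗ[F] Sp K w V) = inv k (A : V →ₗ[F] V) := by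
  have hinj : Function.Injective (LinearMap.inr F (Fin w → K) V) := LinearMap.inr_injective
  have hmap : ∀ W : Submodule F (Sp K w V), finrank F W = k →
      W.map ((el ζ A : Sp K w V ≃ₗ[F] Sp K w V) : Sp K w V →ₗ[F] Sp K w V) = W →
      (W.comap (LinearMap.inr F (Fin w → K) V)).map (LinearMap.inr F (Fin w → K) V) = W := by
    intro W h1 h2
    rw [Submodule.map_comap_eq, inf_eq_right]
    exact le_range h hpF A hA hk h1 h2
  refine Nat.card_congr ⟨fun W => ⟨W.1.comap (LinearMap.inr F (Fin w → K) V), ?_, ?_⟩,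
    fun W => ⟨W.1.map (LinearMap.inr F (Fin w → K) V), ?_, ?_⟩, ?_, ?_⟩
  · have h1 := hmap W.1 W.2.1 W.2.2
    rw [(Submodule.equivMapOfInjective _ hinj (W.1.comap (LinearMap.inr F (Fin w → K) V))).finrank_eq, h1]
    exact W.2.1
  · have h1 := hmap W.1 W.2.1 W.2.2
    apply Submodule.map_injective_of_injective hinj
    rw [← map_inr (ζ := ζ), h1]
    exact W.2.2
  · rw [← (Submodule.equivMapOfInjective _ hinj W.1).finrank_eq]
    exact W.2.1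
  · rw [map_inr, W.2.2]
  · intro W
    exact Subtype.ext (hmap W.1 W.2.1 W.2.2)
  · intro W
    exact Subtype.ext (Submodule.comap_map_eq_of_injective hinj W.1)

theorem exists_inv_el (h : Dat F K p e ζ) (hw : 1 ≤ w) (A : V ≃ₗ[F] V) :
    ∃ W : Submodule F (Sp K w V), finrank F W = e ∧
      W.map ((el ζ A : Sp K w V ≃ₗ[F] Sp K w V) : Sp K w V →ₗ[F] Sp K w V) = W := by
  have hx : (Pi.single ⟨0, hw⟩ 1 : Fin w → K) ≠ 0 := by
    intro h1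
    have h2 := congrFun h1 ⟨0, hw⟩
    rw [Pi.single_eq_same] at h2
    exact one_ne_zero h2
  refine ⟨LinearMap.range (line (F := F) (Pi.single ⟨0, hw⟩ 1 : Fin w → K) V), ?_, ?_⟩
  · rw [LinearMap.finrank_range_of_inj (line_injective hx), h.deg]
  · have h1 : ∀ c : K, (el ζ A : Sp K w V ≃ₗ[F] Sp K w V) (line (F := F) (Pi.single ⟨0, hw⟩ 1 : Fin w → K) V c) =
        line (F := F) (Pi.single ⟨0, hw⟩ 1 : Fin w → K) V (ζ * c) := by
      intro c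
      rw [el_apply]
      ext i
      · show (ζ : K) * (c * _) = ζ * c * _
        ring
      · show A 0 = 0
        exact map_zero A
    apply le_antisymm
    · rintro _ ⟨_, ⟨c, rfl⟩, rfl⟩
      exact ⟨_, (h1 c).symm⟩
    · rintro _ ⟨c, rfl⟩
      refine ⟨_, ⟨((ζ⁻¹ : Kˣ) : K) * c, rfl⟩, ?_⟩
      refine (h1 _).trans ?_
      rw [← mul_assoc, Units.mul_inv, one_mul]

end Cfsg.Agent.H219.PQL
end

private theorem dce_eb3b6e5d0be6 : _root_.True := by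
  try have : _root_.True := by simp only [_root_.Cfsg.Agent.H528.PQL.tt.eq_1]
  try have : _root_.True := by simp only [_root_.Cfsg.Agent.H528.PQL.ss.eq_1]
  exact _root_.True.intro
end

-- part: H154/PQL/Lin2
section
prune_inst 0x10088030000000000080000000000001c010000
set_option linter.all false
open scoped Cfsg.Agent.FastGrp

-- part: H154/PQL/Block
section
/-!
# S4612 [PSL-D4]: two diagonal blocks (helper154)

`bd a b : GL a × GL b →* GL (a + b)`, the parabolic subgroup `PB F (bb a b)` of the block triangular matrices with two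
blocks, its projection `pr` on the Levi factor, whose kernel has no element of prime order `p ≠ char F`.
-/

set_option autoImplicit false

namespace Cfsg.Agent.H154.PQL

open Matrix
open Cfsg.Agent.H755.Sd.Par Cfsg.Agent.H755.Sd.Syl
open scoped MatrixGroups

variable {F : Type*} [Field F] {a b : ℕ}

/-- block diagonal matrices -/
def bdM (F : Type*) [Field F] (a b : ℕ) :
    Matrix (Fin a) (Fin a) F × Matrix (Fin b) (Fin b) F →* Matrix (Fin (a + b)) (Fin (a + b)) F where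
  toFun X := (fromBlocks X.1 0 0 X.2).submatrix finSumFinEquiv.symm finSumFinEquiv.symm
  map_one' := by
    show (fromBlocks (1 : Matrix (Fin a) (Fin a) F) 0 0 (1 : Matrix (Fin b) (Fin b) F)).submatrix _ _ = 1
    rw [fromBlocks_one, submatrix_one_equiv]
  map_mul' X Y := by
    show (fromBlocks (X.1 * Y.1) 0 0 (X.2 * Y.2)).submatrix _ _ = _
    rw [submatrix_mul_equiv, fromBlocks_multiply]
    simp only [_root_.Matrix.mul_zero, _root_.add_zero, _root_.Matrix.zero_mul, _root_.zero_add]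

/-- block diagonal matrices -/
def bd (F : Type*) [Field F] (a b : ℕ) : GL (Fin a) F × GL (Fin b) F →* GL (Fin (a + b)) F :=
  (Units.map (bdM F a b)).comp MulEquiv.prodUnits.symm.toMonoidHom

theorem coe_bd (X : GL (Fin a) F × GL (Fin b) F) : (bd F a b X).val =
    (fromBlocks (X.1 : Matrix (Fin a) (Fin a) F) 0 0 (X.2 : Matrix (Fin b) (Fin b) F)).submatrix
      finSumFinEquiv.symm finSumFinEquiv.symm := rfl

theorem bd_injective : Function.Injective (bd F a b) := by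
  intro X Y h
  have h1 := congrArg (fun g : GL (Fin (a + b)) F => g.val.submatrix finSumFinEquiv finSumFinEquiv) h
  simp only [coe_bd, submatrix_submatrix, Equiv.symm_comp_self, submatrix_id_id] at h1
  rw [fromBlocks_inj] at h1
  exact Prod.ext (Units.ext h1.1) (Units.ext h1.2.2.2)

theorem det_bd (X : GL (Fin a) F × GL (Fin b) F) : (bd F a b X).val.det =
    (X.1 : Matrix (Fin a) (Fin a) F).det * (X.2 : Matrix (Fin b) (Fin b) F).det := by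
  rw [coe_bd, det_submatrix_equiv_self, det_fromBlocks_zero₂₁]

theorem bd_dgl (t : Fin a → Fˣ) (u : Fin b → Fˣ) : bd F a b (dgl t, dgl u) = dgl (Fin.append t u) := by
  apply Units.ext
  rw [coe_bd, coe_dgl, coe_dgl, coe_dgl, fromBlocks_diagonal, submatrix_diagonal_equiv]
  congr 1
  funext i
  refine Fin.addCases (fun i => ?_) (fun i => ?_) i
  · simp
  · simp

/-- the block map -/
def bb (a b : ℕ) : Fin (a + 1 + (b + 1)) → Fin (a + 1 + (b + 1)) :=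
  Fin.append (fun _ => Fin.castAdd (b + 1) 0) (fun _ => Fin.natAdd (a + 1) 0)

theorem bb_left (i : Fin (a + 1)) : bb a b (Fin.castAdd (b + 1) i) = Fin.castAdd (b + 1) 0 := by
  rw [bb, Fin.append_left]

theorem bb_right (i : Fin (b + 1)) : bb a b (Fin.natAdd (a + 1) i) = Fin.natAdd (a + 1) 0 := by
  rw [bb, Fin.append_right]

theorem bb_lt (i : Fin (a + 1)) (j : Fin (b + 1)) :
    bb a b (Fin.castAdd (b + 1) i) < bb a b (Fin.natAdd (a + 1) j) := by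
  rw [bb_left, bb_right, Fin.lt_def]
  simp

theorem low {g : GL (Fin (a + 1 + (b + 1))) F} (hg : g ∈ PB F (bb a b)) (i : Fin (a + 1)) (j : Fin (b + 1)) :
    g.val (Fin.natAdd (a + 1) j) (Fin.castAdd (b + 1) i) = 0 := hg (bb_lt i j)

theorem mem_PB_iff {g : GL (Fin (a + 1 + (b + 1))) F} : g ∈ PB F (bb a b) ↔
    ∀ (i : Fin (a + 1)) (j : Fin (b + 1)),
      g.val (Fin.natAdd (a + 1) j) (Fin.castAdd (b + 1) i) = 0 := by
  refine ⟨low, fun h => ?_⟩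
  rw [mem_PB]
  intro i j
  refine Fin.addCases (fun i => ?_) (fun i => ?_) i <;> refine Fin.addCases (fun j => ?_) (fun j => ?_) j
  · intro hij
    rw [bb_left, bb_left] at hij
    exact absurd hij (lt_irrefl _)
  · intro hij
    exact absurd (bb_lt i j) (not_lt.2 hij.le)
  · intro _
    exact h j i
  · intro hij
    rw [bb_right, bb_right] at hij
    exact absurd hij (lt_irrefl _)

theorem bd_mem (X : GL (Fin (a + 1)) F × GL (Fin (b + 1)) F) : bd F (a + 1) (b + 1) X ∈ PB F (bb a b) := by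
  rw [mem_PB_iff]
  intro i j
  rw [coe_bd, submatrix_apply, finSumFinEquiv_symm_apply_castAdd, finSumFinEquiv_symm_apply_natAdd]
  rfl

/-- the first diagonal block -/
def prA (F : Type*) [Field F] (a b : ℕ) : PB F (bb a b) →* Matrix (Fin (a + 1)) (Fin (a + 1)) F where
  toFun g := g.1.val.submatrix (Fin.castAdd (b + 1)) (Fin.castAdd (b + 1))
  map_one' := by
    ext i j
    simp only [Matrix.one_apply, _root_.OneMemClass.coe_one, _root_.Units.val_one, _root_.Matrix.submatrix_apply, _root_.Fin.castAdd_inj]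
  map_mul' x y := by
    ext i j
    rw [submatrix_apply]
    show (x.1.val * y.1.val) _ _ = _
    have h0 : ∑ l : Fin (b + 1), x.1.val (Fin.castAdd (b + 1) i) (Fin.natAdd (a + 1) l) *
        y.1.val (Fin.natAdd (a + 1) l) (Fin.castAdd (b + 1) j) = 0 :=
      Finset.sum_eq_zero fun l _ => by rw [low y.2, mul_zero]
    rw [Matrix.mul_apply, Fin.sum_univ_add, h0, add_zero, Matrix.mul_apply]
    rfl

/-- the second diagonal block -/
def prB (F : Type*) [Field F] (a b : ℕ) : PB F (bb a b) →* Matrix (Fin (b + 1)) (Fin (b + 1)) F where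
  toFun g := g.1.val.submatrix (Fin.natAdd (a + 1)) (Fin.natAdd (a + 1))
  map_one' := by
    ext i j
    simp only [Matrix.one_apply, _root_.OneMemClass.coe_one, _root_.Units.val_one, _root_.Matrix.submatrix_apply, _root_.Fin.natAdd_inj]
  map_mul' x y := by
    ext i j
    rw [submatrix_apply]
    show (x.1.val * y.1.val) _ _ = _
    have h0 : ∑ l : Fin (a + 1), x.1.val (Fin.natAdd (a + 1) i) (Fin.castAdd (b + 1) l) *
        y.1.val (Fin.castAdd (b + 1) l) (Fin.natAdd (a + 1) j) = 0 := Finset.sum_eq_zero fun l _ => by rw [low x.2, zero_mul]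
    rw [Matrix.mul_apply, Fin.sum_univ_add, h0, zero_add, Matrix.mul_apply]
    rfl

/-- the projection on the Levi factor -/
noncomputable def pr (F : Type*) [Field F] (a b : ℕ) :
    PB F (bb a b) →* GL (Fin (a + 1)) F × GL (Fin (b + 1)) F :=
  (prA F a b).toHomUnits.prod (prB F a b).toHomUnits

/-- The kernel of the projection on the Levi factor has no elements of order `p ≠ char F`. -/
theorem ker_pr {p : ℕ} (hp : (p : F) ≠ 0) {g : PB F (bb a b)} (hg : g ∈ (pr F a b).ker) (hgp : g ^ p = 1) :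
    g = 1 := by
  have hgA : prA F a b g = 1 := congrArg Units.val (congrArg Prod.fst hg)
  have hgB : prB F a b g = 1 := congrArg Units.val (congrArg Prod.snd hg)
  set M : Matrix (Fin (a + 1 + (b + 1))) (Fin (a + 1 + (b + 1))) F := g.1.val with hM
  obtain ⟨X, hX⟩ : ∃ X, M = 1 + X := ⟨M - 1, by abel⟩
  have hX' : X = M - 1 := by rw [hX]; abel
  have h1 : ∀ i j, X (Fin.castAdd (b + 1) i) (Fin.castAdd (b + 1) j) = 0 := by
    intro i j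
    have := congrFun (congrFun hgA i) j
    change M (Fin.castAdd (b + 1) i) (Fin.castAdd (b + 1) j) = _ at this
    rw [hX', Matrix.sub_apply, this, Matrix.one_apply, Matrix.one_apply]
    simp
  have h2 : ∀ i j, X (Fin.natAdd (a + 1) i) (Fin.natAdd (a + 1) j) = 0 := by
    intro i j
    have := congrFun (congrFun hgB i) j
    change M (Fin.natAdd (a + 1) i) (Fin.natAdd (a + 1) j) = _ at this
    rw [hX', Matrix.sub_apply, this, Matrix.one_apply, Matrix.one_apply]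
    simp
  have h3 : ∀ i j, X (Fin.natAdd (a + 1) i) (Fin.castAdd (b + 1) j) = 0 := by
    intro i j
    rw [hX', Matrix.sub_apply, hM, low g.2, Matrix.one_apply, if_neg, sub_zero]
    intro h
    have := congrArg Fin.val h
    simp at this
    omega
  have hXX : X * X = 0 := by
    ext i j
    rw [Matrix.mul_apply, Fin.sum_univ_add, Matrix.zero_apply]
    refine Fin.addCases (fun i => ?_) (fun i => ?_) i
    · rw [Finset.sum_eq_zero (fun l _ => by rw [h1, zero_mul] : ∀ l ∈ _, _ = (0 : F)), zero_add]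
      refine Finset.sum_eq_zero fun l _ => ?_
      refine Fin.addCases (fun j => ?_) (fun j => ?_) j
      · rw [h3, mul_zero]
      · rw [h2, mul_zero]
    · rw [Finset.sum_eq_zero (fun l _ => by rw [h3, zero_mul] : ∀ l ∈ _, _ = (0 : F)), zero_add]
      refine Finset.sum_eq_zero fun l _ => ?_
      rw [h2, zero_mul]
  have hpow : ∀ k : ℕ, (1 + X) ^ k = 1 + (k : F) • X := by
    intro k
    induction k with
    | zero => simp only [_root_.pow_zero, _root_.Nat.cast_zero, _root_.zero_smul, _root_.add_zero]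
    | succ k ih =>
      rw [pow_succ, ih, mul_add, mul_one, add_mul, one_mul, Matrix.smul_mul, hXX, smul_zero, add_zero, Nat.cast_succ,
        add_smul, one_smul]
      abel
  have h4 : M ^ p = 1 := by
    have := congrArg (fun g : PB F (bb a b) => g.1.val) hgp
    simpa only [_root_.SubmonoidClass.coe_pow, _root_.Units.val_pow_eq_pow_val, _root_.OneMemClass.coe_one, _root_.Units.val_one] using this
  rw [hX, hpow] at h4
  have h5 : (p : F) • X = 0 := by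
    have := congrArg (fun Y => Y - 1) h4
    simpa only [_root_.smul_eq_zero, _root_.add_sub_cancel_left, _root_.sub_self] using this
  have h6 : X = 0 := (smul_eq_zero.1 h5).resolve_left hp
  apply Subtype.ext
  apply Units.ext
  show M = 1
  rw [hX, h6, add_zero]

/-- `A ↦ diag(A, (det A)⁻¹)` -/
noncomputable def jj (F : Type*) [Field F] (a : ℕ) : GL (Fin a) F →* GL (Fin (a + 1)) F :=
  (bd F a 1).comp ((MonoidHom.id _).prod ((dgl (F := F) (n := 1)).comp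
    (MonoidHom.pi fun _ => (Matrix.GeneralLinearGroup.det (n := Fin a) (R := F))⁻¹)))

theorem jj_apply (A : GL (Fin a) F) :
    jj F a A = bd F a 1 (A, dgl fun _ => (Matrix.GeneralLinearGroup.det A)⁻¹) := rfl

theorem jj_injective : Function.Injective (jj F a) := by
  intro A B h
  rw [jj_apply, jj_apply] at h
  exact congrArg Prod.fst (bd_injective h)

theorem det_jj (A : GL (Fin a) F) : (jj F a A).val.det = 1 := by
  rw [jj_apply, det_bd]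
  show _ * (dgl _ : GL (Fin 1) F).val.det = 1
  rw [coe_dgl, det_diagonal, Fin.prod_univ_one, ← Matrix.GeneralLinearGroup.val_det_apply, ← Units.val_mul,
    mul_inv_cancel, Units.val_one]

/-- the diagonal element `(1, …, 1, -1)` -/
def tt (F : Type*) [Field F] (a : ℕ) : Fin (a + 1) → Fˣ := Fin.append (fun _ => 1) (fun _ => -1)

theorem tt_comm (A : GL (Fin a) F) : jj F a A * dgl (tt F a) = dgl (tt F a) * jj F a A := by
  have h1 : dgl (tt F a) = bd F a 1 (1, dgl fun _ => -1) := by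
    rw [tt, ← bd_dgl]
    exact congrArg (bd F a 1) (Prod.ext (map_one (dgl (F := F) (n := a))) rfl)
  rw [h1, jj_apply, ← map_mul, ← map_mul]
  congr 1
  refine Prod.ext ?_ ?_
  · show A * 1 = 1 * A
    rw [mul_one, one_mul]
  · show dgl _ * dgl _ = dgl _ * dgl _
    rw [← map_mul, ← map_mul, mul_comm]

/-- the embedding of `GL a × GL b` in the centralizer of `z` -/
noncomputable def ii (F : Type*) [Field F] (a b : ℕ) :
    GL (Fin a) F × GL (Fin b) F →* GL (Fin (a + 1 + (b + 1))) F :=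
  (bd F (a + 1) (b + 1)).comp ((jj F a).prodMap (jj F b))

theorem ii_injective : Function.Injective (ii F a b) := by
  intro X Y h
  have h1 := bd_injective (show bd F (a + 1) (b + 1) (jj F a X.1, jj F b X.2) =
    bd F (a + 1) (b + 1) (jj F a Y.1, jj F b Y.2) from h)
  rw [Prod.mk.injEq] at h1
  exact Prod.ext (jj_injective h1.1) (jj_injective h1.2)

theorem ii_mem (X : GL (Fin a) F × GL (Fin b) F) : ii F a b X ∈ PB F (bb a b) := bd_mem _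

theorem det_ii (X : GL (Fin a) F × GL (Fin b) F) :
    (ii F a b X).val.det = 1 := by
  show (bd F (a + 1) (b + 1) (jj F a X.1, jj F b X.2)).val.det = 1
  rw [det_bd, det_jj, det_jj, mul_one]

theorem ii_comm (X : GL (Fin a) F × GL (Fin b) F) :
    ii F a b X * dgl (Fin.append (tt F a) (tt F b)) = dgl (Fin.append (tt F a) (tt F b)) * ii F a b X := by
  rw [← bd_dgl]
  show bd F (a + 1) (b + 1) (jj F a X.1, jj F b X.2) * _ = _ * bd F (a + 1) (b + 1) (jj F a X.1, jj F b X.2)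
  rw [← map_mul, ← map_mul]
  congr 1
  exact Prod.ext (tt_comm _) (tt_comm _)

end Cfsg.Agent.H154.PQL
end

-- part: H154/PQL/Lin2
section
/-!
# S4612 [PSL-D4]: `row_lin2` (helper154)

The principal `p`-block and the principal 2-block of `PSL_n(F)` are different, `|F| ≡ 3 mod 4`, if the order `e` of `|F|`
modulo `p` is odd and at least 3. The test character is induced from the parabolic subgroup of `GL_n(F)` with two
diagonal blocks of sizes `a + 1` (even) and `b + 1`, not divisible by `e`.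
-/

set_option autoImplicit false

namespace Cfsg.Agent.H154.PQL

open Matrix
open Cfsg.Agent.H755.Sd.Par Cfsg.Agent.H755.Sd.Syl Cfsg.Agent.H317.PQ Cfsg.Agent.H775.PQL
open scoped MatrixGroups

variable {F : Type} [Field F]

/-- `|GL_{k+1}| = (Q^{k+1} - 1) Q^k |GL_k|` -/
theorem card_GL_succ [Finite F] (k : ℕ) : Nat.card (GL (Fin (k + 1)) F) =
    (Nat.card F ^ (k + 1) - 1) * Nat.card F ^ k * Nat.card (GL (Fin k) F) := by
  classical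
  have := Fintype.ofFinite F
  rw [Matrix.card_GL_field, Matrix.card_GL_field, Nat.card_eq_fintype_card, Fin.prod_univ_succ]
  rw [Fin.val_zero, pow_zero, mul_assoc]
  congr 1
  have h : ∀ i : Fin k, Fintype.card F ^ (k + 1) - Fintype.card F ^ ((Fin.succ i : Fin (k + 1)) : ℕ) =
      Fintype.card F * (Fintype.card F ^ k - Fintype.card F ^ (i : ℕ)) := by
    intro i
    rw [Fin.val_succ, Nat.mul_sub, pow_succ', pow_succ']
  rw [Finset.prod_congr rfl fun i _ => h i, Finset.prod_mul_distrib, Finset.prod_const, Finset.card_univ,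
    Fintype.card_fin]

/-- the quadratic character -/
noncomputable def lam (F : Type) [Field F] [Fintype F] [DecidableEq F] : Fˣ →* ℂˣ :=
  (Units.map (Int.castRingHom ℂ).toMonoidHom).comp (quadraticChar F).toUnitHom

theorem lam_sq [Fintype F] [DecidableEq F] (x : Fˣ) : lam F x ^ 2 = 1 := by
  show (Units.map (Int.castRingHom ℂ).toMonoidHom ((quadraticChar F).toUnitHom x)) ^ 2 = 1
  rw [← map_pow, Int.units_sq, map_one]

theorem lam_neg_one [Fintype F] [DecidableEq F] (hF : Fintype.card F % 4 = 3) : lam F (-1) = -1 := by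
  have h2 : ringChar F ≠ 2 := by
    intro h
    have := FiniteField.even_card_of_char_two h
    omega
  have h1 : (quadraticChar F).toUnitHom (-1) = -1 := by
    apply Units.ext
    rw [MulChar.coe_toUnitHom, Units.val_neg, Units.val_one, quadraticChar_neg_one h2,
      ZMod.χ₄_nat_three_mod_four hF]
    rfl
  show Units.map (Int.castRingHom ℂ).toMonoidHom ((quadraticChar F).toUnitHom (-1)) = -1
  rw [h1]
  apply Units.ext
  simp only [_root_.RingHom.toMonoidHom_eq_coe, _root_.Units.map_neg, _root_.map_one, _root_.Units.val_neg, _root_.Units.val_one]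

/-- the labels of the linear character of the parabolic -/
noncomputable def ss (l : Fˣ →* ℂˣ) (a b : ℕ) : Fin (a + 1 + (b + 1)) → (Fˣ →* ℂˣ) :=
  Fin.append (fun _ => l) (fun _ => 1)

theorem ss_bb (l : Fˣ →* ℂˣ) (a b : ℕ) (i : Fin (a + 1 + (b + 1))) : ss l a b (bb a b i) = ss l a b i := by
  refine Fin.addCases (fun i => ?_) (fun i => ?_) i
  · rw [bb_left, ss, Fin.append_left, Fin.append_left]
  · rw [bb_right, ss, Fin.append_right, Fin.append_right]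

theorem ss_left (l : Fˣ →* ℂˣ) (a b : ℕ) (i : Fin (a + 1)) : ss l a b (Fin.castAdd (b + 1) i) = l := by
  rw [ss, Fin.append_left]

theorem ss_right (l : Fˣ →* ℂˣ) (a b : ℕ) (i : Fin (b + 1)) : ss l a b (Fin.natAdd (a + 1) i) = 1 := by
  rw [ss, Fin.append_right]

theorem prod_ss (l : Fˣ →* ℂˣ) (a b : ℕ) (t : Fin (a + 1 + (b + 1)) → Fˣ) :
    ∏ i, ss l a b i (t i) = ∏ i : Fin (a + 1), l (t (Fin.castAdd (b + 1) i)) := by
  rw [Fin.prod_univ_add]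
  simp only [ss_left, ss_right, MonoidHom.one_apply, Finset.prod_const_one, mul_one]

/-- Mackey's criterion -/
theorem irr_ss [Fintype F] [DecidableEq F] (hF : Fintype.card F % 4 = 3) (a b : ℕ)
    (g : GL (Fin (a + 1 + (b + 1))) F) (hg : g ∉ PB F (bb a b)) :
    ∃ (t : PB F (bb a b)) (hx : g⁻¹ * t * g ∈ PB F (bb a b)),
      Lam (ss (lam F) a b) t ≠ Lam (ss (lam F) a b) (⟨g⁻¹ * t * g, hx⟩ : PB F (bb a b)) := by
  obtain ⟨σ, h1, h2⟩ := exists_mackey (ss_bb (lam F) a b) g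
  have h3 : ∃ i, bb a b (σ i) ≠ bb a b i := by
    by_contra hcon
    push Not at hcon
    exact hg (h1 hcon)
  obtain ⟨i, hi⟩ := h3
  obtain ⟨y, hy, -, h4, h5⟩ := h2 (Pi.mulSingle (σ i) (-1))
  refine ⟨y, hy, ?_⟩
  rw [h4, h5]
  have h6 : ∏ j, ss (lam F) a b j ((Pi.mulSingle (σ i) (-1) : Fin (a + 1 + (b + 1)) → Fˣ) j) =
      ss (lam F) a b (σ i) (-1) := by
    rw [Finset.prod_eq_single (σ i)]
    · rw [Pi.mulSingle_eq_same]
    · intro j _ hj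
      rw [Pi.mulSingle_eq_of_ne hj, map_one]
    · intro h
      exact absurd (Finset.mem_univ _) h
  have h7 : ∏ j, ss (lam F) a b j ((Pi.mulSingle (σ i) (-1) : Fin (a + 1 + (b + 1)) → Fˣ) (σ j)) =
      ss (lam F) a b i (-1) := by
    rw [Finset.prod_eq_single i]
    · rw [Pi.mulSingle_eq_same]
    · intro j _ hj
      rw [Pi.mulSingle_eq_of_ne (fun h => hj (σ.injective h)), map_one]
    · intro h
      exact absurd (Finset.mem_univ _) h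
  rw [h6, h7]
  have h8 : lam F (-1) ≠ 1 := by
    rw [lam_neg_one hF]
    intro h
    have := congrArg Units.val h
    rw [Units.val_neg, Units.val_one] at this
    norm_num at this
  generalize σ i = j at hi
  revert hi
  refine Fin.addCases (fun i => ?_) (fun i => ?_) i <;> refine Fin.addCases (fun j => ?_) (fun j => ?_) j
  · intro h
    rw [bb_left, bb_left] at h
    exact absurd rfl h
  · intro _
    rw [ss_left, ss_right]
    exact fun h => h8 h.symm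
  · intro _
    rw [ss_left, ss_right]
    exact h8
  · intro h
    rw [bb_right, bb_right] at h
    exact absurd rfl h

/-- the elements of determinant one -/
def toSL (F : Type) [Field F] (n : ℕ) :
    ↥(Matrix.GeneralLinearGroup.det (n := Fin n) (R := F)).ker →* Matrix.SpecialLinearGroup (Fin n) F where
  toFun x := ⟨x.1.val, congrArg Units.val (show Matrix.GeneralLinearGroup.det x.1 = 1 from x.2)⟩
  map_one' := rfl
  map_mul' _ _ := rfl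

/-- the projection of the elements of determinant one -/
def ppi (F : Type) [Field F] (n : ℕ) :
    ↥(Matrix.GeneralLinearGroup.det (n := Fin n) (R := F)).ker →* Matrix.ProjectiveSpecialLinearGroup (Fin n) F :=
  (QuotientGroup.mk' _).comp (toSL F n)

theorem ppi_surjective (n : ℕ) : Function.Surjective (ppi F n) := by
  intro y
  obtain ⟨g, rfl⟩ := QuotientGroup.mk'_surjective _ y
  refine ⟨⟨Matrix.SpecialLinearGroup.toGL g, ?_⟩, ?_⟩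
  · rw [MonoidHom.mem_ker]
    apply Units.ext
    exact g.2
  · rfl

theorem ppi_eq_one {n : ℕ} (x : ↥(Matrix.GeneralLinearGroup.det (n := Fin n) (R := F)).ker) (hn : 0 < n)
    (h : ppi F n x = 1) : ∃ u : Fˣ, (x : GL (Fin n) F) = dgl fun _ => u := by
  have h1 : toSL F n x ∈ Subgroup.center (Matrix.SpecialLinearGroup (Fin n) F) :=
    (QuotientGroup.eq_one_iff _).1 h
  rw [Matrix.SpecialLinearGroup.mem_center_iff] at h1
  obtain ⟨r, hr, h2⟩ := h1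
  have hr0 : r ≠ 0 := by
    rintro rfl
    rw [Fintype.card_fin, zero_pow hn.ne'] at hr
    exact zero_ne_one hr
  refine ⟨Units.mk0 r hr0, Units.ext ?_⟩
  rw [coe_dgl]
  exact h2.symm

/-- The index of the centralizer of `z` in the parabolic subgroup (elements of determinant one) is prime to `p`. -/
theorem index_pp [Finite F] (a b : ℕ) {p : ℕ} (hp : p.Prime) (hpF : (p : F) ≠ 0) (hpQ : ¬ p ∣ Nat.card F)
    (ha : ¬ p ∣ Nat.card F ^ (a + 1) - 1) (hb : ¬ p ∣ Nat.card F ^ (b + 1) - 1)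
    (N : Subgroup (GL (Fin (a + 1 + (b + 1))) F)) (hN : N = Matrix.GeneralLinearGroup.det.ker)
    (z : GL (Fin (a + 1 + (b + 1))) F) (hz : z = dgl (Fin.append (tt F a) (tt F b)))
    (hzH : z ∈ PB F (bb a b)) (hzN : z ∈ N) :
    ¬ p ∣ (Subgroup.centralizer ({⟨z, hzH, hzN⟩} : Set ↥(PB F (bb a b) ⊓ N))).index := by
  classical
  have := Fintype.ofFinite F
  intro hidx
  set R := PB F (bb a b) ⊓ N with hR
  set C := Subgroup.centralizer ({⟨z, hzH, hzN⟩} : Set ↥R) with hC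
  -- the projection on the Levi factor
  let φ : ↥R →* GL (Fin (a + 1)) F × GL (Fin (b + 1)) F := (pr F a b).comp (Subgroup.inclusion inf_le_left)
  have h1 : Nat.card φ.ker * Nat.card φ.range = Nat.card ↥R := by
    rw [← Subgroup.index_ker φ, Subgroup.card_mul_index]
  have hker : ¬ p ∣ Nat.card φ.ker := by
    intro h
    have : Fact p.Prime := ⟨hp⟩
    obtain ⟨g, hg⟩ := exists_prime_orderOf_dvd_card' p h
    have h2 : Subgroup.inclusion (inf_le_left : R ≤ PB F (bb a b)) g.1 ∈ (pr F a b).ker := g.2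
    have h3 : Subgroup.inclusion (inf_le_left : R ≤ PB F (bb a b)) g.1 ^ p = 1 := by
      rw [← map_pow, ← Subgroup.coe_pow, ← hg, pow_orderOf_eq_one, Subgroup.coe_one, map_one]
    have h4 := ker_pr hpF h2 h3
    have h5 : g.1 = 1 := Subgroup.inclusion_injective _ (h4.trans (map_one _).symm)
    have h6 : g = 1 := Subtype.ext h5
    rw [h6, orderOf_one] at hg
    exact hp.one_lt.ne hg
  have hran : Nat.card φ.range ∣ Nat.card (GL (Fin (a + 1)) F) * Nat.card (GL (Fin (b + 1)) F) := by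
    rw [← Nat.card_prod]
    exact Subgroup.card_subgroup_dvd_card _
  -- the subgroup of the centralizer
  have hmR : ∀ X, ii F a b X ∈ R := by
    intro X
    refine Subgroup.mem_inf.2 ⟨ii_mem X, ?_⟩
    rw [hN, MonoidHom.mem_ker]
    apply Units.ext
    exact det_ii X
  let ψ : GL (Fin a) F × GL (Fin b) F →* ↥C :=
    ((ii F a b).codRestrict R hmR).codRestrict C (by
      intro X
      rw [hC, Subgroup.mem_centralizer_singleton_iff]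
      apply Subtype.ext
      show ii F a b X * z = z * ii F a b X
      rw [hz]
      exact ii_comm X)
  have hψ : Function.Injective ψ := by
    intro X Y h
    exact ii_injective (congrArg (fun x : ↥C => (x.1 : GL (Fin (a + 1 + (b + 1))) F)) h)
  have hdvd : Nat.card (GL (Fin a) F) * Nat.card (GL (Fin b) F) ∣ Nat.card ↥C := by
    rw [← Nat.card_prod]
    exact Subgroup.card_dvd_of_injective ψ hψ
  set A := Nat.card (GL (Fin a) F) * Nat.card (GL (Fin b) F) with hA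
  have hA0 : 0 < A := Nat.mul_pos Nat.card_pos Nat.card_pos
  have h7 : p * A ∣ Nat.card φ.ker * (((Nat.card F ^ (a + 1) - 1) * Nat.card F ^ a) *
      ((Nat.card F ^ (b + 1) - 1) * Nat.card F ^ b)) * A := by
    have h8 : p * A ∣ Nat.card ↥R := by
      rw [← Subgroup.card_mul_index C, mul_comm (Nat.card ↥C)]
      exact Nat.mul_dvd_mul hidx hdvd
    rw [← h1] at h8
    refine h8.trans ?_
    have h9 := Nat.mul_dvd_mul_left (Nat.card φ.ker) hran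
    rw [card_GL_succ, card_GL_succ] at h9
    have h11 : Nat.card φ.ker * (((Nat.card F ^ (a + 1) - 1) * Nat.card F ^ a) *
        ((Nat.card F ^ (b + 1) - 1) * Nat.card F ^ b)) * A = Nat.card φ.ker *
        ((Nat.card F ^ (a + 1) - 1) * Nat.card F ^ a * Nat.card (GL (Fin a) F) *
          ((Nat.card F ^ (b + 1) - 1) * Nat.card F ^ b * Nat.card (GL (Fin b) F))) := by
      rw [hA]
      ring
    rw [h11]
    exact h9
  have h10 := Nat.dvd_of_mul_dvd_mul_right hA0 h7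
  rcases hp.dvd_mul.1 h10 with h | h
  · exact hker h
  rcases hp.dvd_mul.1 h with h | h
  · rcases hp.dvd_mul.1 h with h | h
    · exact ha h
    · exact hpQ (hp.dvd_of_dvd_pow h)
  · rcases hp.dvd_mul.1 h with h | h
    · exact hb h
    · exact hpQ (hp.dvd_of_dvd_pow h)

/-- The main step. -/
theorem main_step [Finite F] (a b : ℕ) {p : ℕ} (hp : p.Prime) (hp2 : p ≠ 2) (hF : Nat.card F % 4 = 3)
    (hpF : (p : F) ≠ 0) (hpQ : ¬ p ∣ Nat.card F) (ha2 : Even (a + 1))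
    (ha : ¬ p ∣ Nat.card F ^ (a + 1) - 1) (hb : ¬ p ∣ Nat.card F ^ (b + 1) - 1) :
    ¬ Same p 2 (Matrix.ProjectiveSpecialLinearGroup (Fin (a + 1 + (b + 1))) F) := by
  classical
  have := Fintype.ofFinite F
  rw [Nat.card_eq_fintype_card] at hF
  have hzH : (dgl (Fin.append (tt F a) (tt F b)) : GL (Fin (a + 1 + (b + 1))) F) ∈ PB F (bb a b) := dgl_mem _
  have hzN : (dgl (Fin.append (tt F a) (tt F b)) : GL (Fin (a + 1 + (b + 1))) F) ∈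
      (Matrix.GeneralLinearGroup.det (n := Fin (a + 1 + (b + 1))) (R := F)).ker := by
    rw [MonoidHom.mem_ker]
    apply Units.ext
    rw [Matrix.GeneralLinearGroup.val_det_apply, coe_dgl, det_diagonal, Fin.prod_univ_add]
    simp only [tt, Fin.prod_univ_add, _root_.Fin.append_left, _root_.Units.val_one, _root_.Finset.prod_const_one, _root_.Finset.univ_unique, _root_.Fin.default_eq_zero, _root_.Fin.isValue, _root_.Fin.append_right, _root_.Units.val_neg, _root_.Finset.prod_const, _root_.Finset.card_singleton, _root_.pow_one, _root_.mul_neg, _root_.mul_one, _root_.neg_neg]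
  refine clifford_test hp Nat.prime_two hp2 (Matrix.GeneralLinearGroup.det (n := Fin (a + 1 + (b + 1))) (R := F)).ker
    (ppi F _) (ppi_surjective _) ?_ (PB F (bb a b)) (Lam (ss (lam F) a b)) ?_ (irr_ss hF a b) ?_
    (dgl (Fin.append (tt F a) (tt F b))) hzH hzN ?_ (index_pp a b hp hpF hpQ ha hb _ rfl _ rfl hzH hzN)
  · intro x hx g
    obtain ⟨u, hu⟩ := ppi_eq_one x (by omega) hx
    rw [hu]
    apply Units.ext
    rw [Units.val_mul, Units.val_mul, coe_dgl]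
    show _ * Matrix.scalar _ (u : F) = Matrix.scalar _ (u : F) * _
    exact (Matrix.scalar_commute (u : F) (fun _ => Commute.all _ _) _).symm
  · intro h
    refine ⟨1, ?_⟩
    rw [pow_one, Lam_apply, ← Finset.prod_pow]
    refine Finset.prod_eq_one fun i _ => ?_
    refine Fin.addCases (fun i => ?_) (fun i => ?_) i
    · rw [ss_left, lam_sq]
    · rw [ss_right, MonoidHom.one_apply, one_pow]
  · intro x hx h
    obtain ⟨u, hu⟩ := ppi_eq_one x (by omega) h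
    have h1 : (⟨(x : GL (Fin (a + 1 + (b + 1))) F), hx⟩ : PB F (bb a b)) = ⟨dgl fun _ => u, dgl_mem _⟩ :=
      Subtype.ext hu
    rw [h1, Lam_dgl (ss_bb _ a b), prod_ss, Finset.prod_const, Finset.card_univ, Fintype.card_fin]
    obtain ⟨c, hc⟩ := ha2
    rw [hc, ← two_mul, pow_mul, lam_sq, one_pow]
  · rw [Lam_dgl (ss_bb _ a b), prod_ss]
    simp only [Fin.append_left, tt]
    rw [Fin.prod_univ_add]
    simp only [Fin.append_left, Fin.append_right, map_one, Finset.prod_const_one, one_mul, Fin.prod_univ_one]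
    rw [lam_neg_one hF]
    intro h
    have := congrArg Units.val h
    rw [Units.val_neg, Units.val_one] at this
    norm_num at this

theorem row_lin2 {F : Type} [Field F] [Finite F] {n : ℕ} (hn : 3 ≤ n) {p r e : ℕ} (hp : p.Prime) (hp2 : p ≠ 2)
    [CharP F r] (hpr : p ≠ r) (hF : Nat.card F % 4 = 3) (he : ∀ d : ℕ, p ∣ Nat.card F ^ d - 1 ↔ e ∣ d)
    (he3 : 3 ≤ e) (hodd : Odd e) : ¬ Same p 2 (Matrix.ProjectiveSpecialLinearGroup (Fin n) F) := by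
  classical
  have := Fintype.ofFinite F
  have hr : r.Prime := CharP.char_is_prime F r
  have hpF : (p : F) ≠ 0 := by
    intro h
    rw [CharP.cast_eq_zero_iff F r] at h
    exact hpr ((Nat.prime_dvd_prime_iff_eq hr hp).1 h).symm
  have hpQ : ¬ p ∣ Nat.card F := by
    intro h
    obtain ⟨f, -, hf⟩ := FiniteField.card F r
    rw [Nat.card_eq_fintype_card, hf] at h
    exact hpr ((Nat.prime_dvd_prime_iff_eq hp hr).1 (hp.dvd_of_dvd_pow h))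
  obtain ⟨c, hc⟩ := hodd
  by_cases h : e ∣ n - 2
  · have h3 : e ≤ n - 2 := Nat.le_of_dvd (by omega) h
    obtain ⟨b, rfl⟩ : ∃ b, n = 3 + 1 + (b + 1) := ⟨n - 5, by omega⟩
    refine main_step 3 b hp hp2 hF hpF hpQ (by decide) ?_ ?_
    · rw [he]
      intro h4
      have h5 : e ≤ 4 := Nat.le_of_dvd (by norm_num) h4
      have h6 : e = 3 := by omega
      rw [h6] at h4
      omega
    · rw [he]
      intro h4
      have h5 : e ∣ (3 + 1 + (b + 1) - 2) - (b + 1) := Nat.dvd_sub h h4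
      have h6 := Nat.le_of_dvd (by omega) h5
      omega
  · obtain ⟨b, rfl⟩ : ∃ b, n = 1 + 1 + (b + 1) := ⟨n - 3, by omega⟩
    refine main_step 1 b hp hp2 hF hpF hpQ (by decide) ?_ ?_
    · rw [he]
      intro h4
      have h5 := Nat.le_of_dvd (by norm_num) h4
      omega
    · rw [he]
      have h7 : 1 + 1 + (b + 1) - 2 = b + 1 := by omega
      rw [h7] at h
      exact h

end Cfsg.Agent.H154.PQL
end

private theorem dce_b022363b0b17 : _root_.True := by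
  try have : _root_.True := by simp only [_root_.Cfsg.Agent.H154.PQL.ss.eq_1]
  try have : _root_.True := by simp only [_root_.Cfsg.Agent.H154.PQL.bb.eq_1]
  try have : _root_.True := by simp only [_root_.Cfsg.Agent.H154.PQL.tt.eq_1]
  exact _root_.True.intro
end

section
prune_inst 0xbceaf8aaa889dfdfff7e2fa698cff810808fffa6dff943ffe0639f2b9f230009c16b8d09e010fc0e42c21410b87803f97eceffe26bd87ffffd17b01ffbee0fe5f7b5001190802406200ffe03f0770e6f000000000300000000000000000000000200000000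

-- part: H355/PQ/CoreUse
section
prune_inst 0x420107004214000000001000240005e2290000400000b8000008004040d010c0009000620020000080002008000040000000000000000000000844400000501000080840070810091c20010000008000000100880000000000000800000000000018000000
set_option linter.all false
open scoped Cfsg.Agent.FastGrp

-- part: H355/PQ/Basic
section
/-!
# S4612, the row of `PSL_n`: basic facts (helper355)
-/

set_option autoImplicit false
set_option linter.unusedSectionVars false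

open Cfsg Module

namespace Cfsg.Agent.H355.PQ

open Cfsg.Agent.H317.PQ Cfsg.Agent.H329.PQ

universe u v w

/-! ### the order of `Q` modulo `p` -/

theorem exists_ord {Q p : ℕ} (hp : p.Prime) (hQ0 : 0 < Q) (hQ : ¬ p ∣ Q) :
    ∃ e : ℕ, 0 < e ∧ ∀ d : ℕ, p ∣ Q ^ d - 1 ↔ e ∣ d := by
  have : Fact p.Prime := ⟨hp⟩
  have h0 : (Q : ZMod p) ≠ 0 := by rwa [Ne, ZMod.natCast_eq_zero_iff]
  refine ⟨orderOf (Q : ZMod p), ?_, fun d => ?_⟩
  · have h1 : IsOfFinOrder (Units.mk0 (Q : ZMod p) h0) := isOfFinOrder_of_finite _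
    have h2 := h1.orderOf_pos
    rwa [← orderOf_units, Units.val_mk0] at h2
  · rw [orderOf_dvd_iff_pow_eq_one, ← ZMod.natCast_eq_zero_iff, Nat.cast_sub (Nat.one_le_pow _ _ hQ0), Nat.cast_pow,
      Nat.cast_one, sub_eq_zero]

theorem exists_dat (F : Type) [Field F] [Finite F] {p e : ℕ} (hp : p.Prime) (he0 : 0 < e)
    (he : ∀ d : ℕ, p ∣ Nat.card F ^ d - 1 ↔ e ∣ d) :
    ∃ (K : Type) (_ : Field K) (_ : Algebra F K) (ζ : Kˣ), Dat F K p e ζ := by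
  obtain ⟨r, hr⟩ := CharP.exists F
  have : Fact r.Prime := ⟨CharP.char_is_prime F r⟩
  have : NeZero e := ⟨he0.ne'⟩
  have : Fact p.Prime := ⟨hp⟩
  have hc : Nat.card (FiniteField.Extension F r e)ˣ = Nat.card F ^ e - 1 := by
    rw [Nat.card_units, FiniteField.natCard_extension]
  obtain ⟨ζ, hζ⟩ := exists_prime_orderOf_dvd_card' (G := (FiniteField.Extension F r e)ˣ) p
    (by rw [hc]; exact (he e).2 dvd_rfl)
  exact ⟨FiniteField.Extension F r e, inferInstance, inferInstance, ζ, inferInstance, inferInstance, hp, hζ,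
    FiniteField.finrank_extension F r e, he⟩

/-! ### invariant subspaces -/

section inv

variable {F : Type u} [Field F] {V : Type v} [AddCommGroup V] [Module F V] {V' : Type w} [AddCommGroup V'] [Module F V']

theorem inv_zero [FiniteDimensional F V] (g : V →ₗ[F] V) : inv 0 g = 1 := by
  unfold inv
  rw [Nat.card_eq_one_iff_unique]
  refine ⟨⟨fun A B => ?_⟩, ⟨⟨⊥, finrank_bot F V, Submodule.map_bot g⟩⟩⟩
  apply Subtype.ext
  rw [Submodule.finrank_eq_zero.1 A.2.1, Submodule.finrank_eq_zero.1 B.2.1]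

theorem inv_eq_zero_of_lt [FiniteDimensional F V] (g : V →ₗ[F] V) {k : ℕ} (hk : finrank F V < k) : inv k g = 0 := by
  unfold inv
  have : IsEmpty {W : Submodule F V // finrank F W = k ∧ W.map g = W} := by
    refine ⟨fun A => ?_⟩
    have := Submodule.finrank_le A.1
    have h2 := A.2.1
    omega
  exact Nat.card_of_isEmpty

theorem inv_finrank [FiniteDimensional F V] (g : V ≃ₗ[F] V) : inv (finrank F V) (g : V →ₗ[F] V) = 1 := by
  unfold inv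
  rw [Nat.card_eq_one_iff_unique]
  refine ⟨⟨fun A B => ?_⟩, ⟨⟨⊤, finrank_top F V, ?_⟩⟩⟩
  · apply Subtype.ext
    rw [Submodule.eq_top_of_finrank_eq A.2.1, Submodule.eq_top_of_finrank_eq B.2.1]
  · rw [Submodule.map_top]
    exact LinearMap.range_eq_top.2 g.surjective

/-- transport of the invariant subspaces -/
theorem inv_conj (E : V ≃ₗ[F] V') (k : ℕ) (g : V ≃ₗ[F] V) :
    inv k ((E.symm ≪≫ₗ g ≪≫ₗ E : V' ≃ₗ[F] V') : V' →ₗ[F] V') = inv k (g : V →ₗ[F] V) := by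
  have key : ∀ W : Submodule F V, (W.map (E : V →ₗ[F] V')).map
      ((E.symm ≪≫ₗ g ≪≫ₗ E : V' ≃ₗ[F] V') : V' →ₗ[F] V') = (W.map (g : V →ₗ[F] V)).map (E : V →ₗ[F] V') := by
    intro W
    rw [← Submodule.map_comp, ← Submodule.map_comp]
    congr 1
    ext x
    simp
  have hinj : Function.Injective (Submodule.map (E : V →ₗ[F] V')) :=
    Submodule.map_injective_of_injective E.injective
  refine Nat.card_congr (Equiv.symm ?_)
  refine Equiv.ofBijective (fun W => ⟨W.1.map (E : V →ₗ[F] V'), ?_, ?_⟩) ⟨?_, ?_⟩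
  · exact (LinearEquiv.finrank_map_eq E W.1).trans W.2.1
  · rw [key, W.2.2]
  · intro A B hAB
    exact Subtype.ext (hinj (congrArg Subtype.val hAB))
  · intro B
    have h1 : (B.1.map (E.symm : V' →ₗ[F] V)).map (E : V →ₗ[F] V') = B.1 := by
      rw [← Submodule.map_comp]
      have : ((E : V →ₗ[F] V') ∘ₗ (E.symm : V' →ₗ[F] V)) = LinearMap.id := by
        ext x
        simp
      rw [this, Submodule.map_id]
    refine ⟨⟨B.1.map (E.symm : V' →ₗ[F] V), ?_, ?_⟩, Subtype.ext h1⟩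
    · exact (LinearEquiv.finrank_map_eq E.symm B.1).trans B.2.1
    · apply hinj
      rw [← key, h1, B.2.2]

end inv

/-! ### the chain -/

section chain

variable {F : Type u} [Field F] {V : Type v} [AddCommGroup V] [Module F V] [FiniteDimensional F V]
  {χ : ℕ → IrrCharacter (SpecialLinearGroup F V)}

theorem Chain.zero (h : Chain F V χ) (g : SpecialLinearGroup F V) : (χ 0 : SpecialLinearGroup F V → ℂ) g = 1 := by
  have h1 := h.sum 0 (by omega) g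
  rw [inv_zero, zero_add, Finset.sum_range_one, Nat.cast_one] at h1
  exact h1.symm

theorem Chain.succ (h : Chain F V χ) {k : ℕ} (hk : 2 * (k + 1) ≤ finrank F V) (g : SpecialLinearGroup F V) :
    (χ (k + 1) : SpecialLinearGroup F V → ℂ) g =
      (inv (k + 1) (g.1 : V →ₗ[F] V) : ℂ) - (inv k (g.1 : V →ₗ[F] V) : ℂ) := by
  rw [h.sum (k + 1) hk g, h.sum k (by omega) g, Finset.sum_range_succ _ (k + 1)]
  ring

end chain

end Cfsg.Agent.H355.PQ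
end

-- part: H355/PQ/Trans
section
/-!
# S4612, the row of `PSL_n`: `SL(V)` and `PSL_n(F)` (helper355)
-/

set_option autoImplicit false
set_option linter.unusedSectionVars false

open Cfsg Module

namespace Cfsg.Agent.H355.PQ

open Cfsg.Agent.H317.PQ Cfsg.Agent.H329.PQ

universe u v w

variable {F : Type u} [Field F] {V : Type v} [AddCommGroup V] [Module F V] [FiniteDimensional F V]

theorem finite_SL [Finite F] : Finite (SpecialLinearGroup F V) := by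
  have : Finite V := Module.finite_of_finite F
  exact Finite.of_injective (fun g : SpecialLinearGroup F V => fun v : V => g.1 v) fun g h hgh =>
    Subtype.ext (LinearEquiv.ext fun v => congrFun hgh v)

/-- the map onto `PSL_n` -/
noncomputable def toPSL {n : ℕ} (hn : finrank F V = n) :
    SpecialLinearGroup F V →* Matrix.ProjectiveSpecialLinearGroup (Fin n) F :=
  (QuotientGroup.mk' (Subgroup.center (Matrix.SpecialLinearGroup (Fin n) F))).comp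
    (Matrix.SpecialLinearGroup.toLin_equiv (finBasisOfFinrankEq F V hn)).symm.toMonoidHom

theorem toPSL_surjective {n : ℕ} (hn : finrank F V = n) : Function.Surjective (toPSL hn) :=
  (QuotientGroup.mk'_surjective _).comp
    (Matrix.SpecialLinearGroup.toLin_equiv (finBasisOfFinrankEq F V hn)).symm.surjective

theorem ker_toPSL {n : ℕ} (hn : finrank F V = n) : (toPSL hn).ker ≤ Subgroup.center (SpecialLinearGroup F V) := by
  intro x hx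
  have h1 : (Matrix.SpecialLinearGroup.toLin_equiv (finBasisOfFinrankEq F V hn)).symm x ∈
      Subgroup.center (Matrix.SpecialLinearGroup (Fin n) F) := (QuotientGroup.eq_one_iff _).1 hx
  exact (MulEquivClass.apply_mem_center_iff
    (Matrix.SpecialLinearGroup.toLin_equiv (finBasisOfFinrankEq F V hn)).symm).1 h1

/-- the central elements are scalars -/
theorem exists_scalar {x : SpecialLinearGroup F V} (hx : x ∈ Subgroup.center (SpecialLinearGroup F V)) :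
    ∃ r : F, ∀ v : V, x.1 v = r • v := by
  obtain ⟨r, -, hr⟩ := SpecialLinearGroup.mem_center_iff.1 hx
  exact ⟨r, fun v => by simpa only [_root_.LinearEquiv.coe_coe, _root_.LinearMap.smul_apply, _root_.LinearMap.id_coe, _root_.id_eq] using LinearMap.congr_fun hr v⟩

theorem exists_unit [Nontrivial V] {x : SpecialLinearGroup F V} (hx : x ∈ Subgroup.center (SpecialLinearGroup F V)) :
    ∃ r : Fˣ, ∀ v : V, x.1 v = r • v := by
  obtain ⟨r, hr⟩ := exists_scalar hx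
  have h0 : r ≠ 0 := by
    rintro rfl
    obtain ⟨v, hv⟩ := exists_ne (0 : V)
    have h1 := hr v
    rw [zero_smul] at h1
    exact hv (x.1.injective (by rw [h1, map_zero]))
  exact ⟨Units.mk0 r h0, hr⟩

theorem not_dvd_card_of_le_center [Finite F] {p : ℕ} (hp : p.Prime) (hpF : ¬ p ∣ Nat.card F - 1)
    {Z : Subgroup (SpecialLinearGroup F V)} (hZ : Z ≤ Subgroup.center _) : ¬ p ∣ Nat.card Z := by
  intro hdvd
  have : Fact p.Prime := ⟨hp⟩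
  have : Finite (SpecialLinearGroup F V) := finite_SL
  obtain ⟨x, hx⟩ := exists_prime_orderOf_dvd_card' (G := Z) p hdvd
  have hx1 : x ≠ 1 := by
    rintro rfl
    rw [orderOf_one] at hx
    exact hp.one_lt.ne hx
  have hntV : Nontrivial V := by
    by_contra h
    rw [not_nontrivial_iff_subsingleton] at h
    apply hx1
    apply Subtype.ext
    apply Subtype.ext
    exact LinearEquiv.ext fun v => Subsingleton.elim _ _
  obtain ⟨r, hr⟩ := exists_unit (hZ x.2)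
  apply hpF
  have hpow : ∀ (k : ℕ) (v : V), ((x : SpecialLinearGroup F V) ^ k).1 v = r ^ k • v := by
    intro k
    induction k with
    | zero =>
      intro v
      rw [pow_zero, pow_zero, one_smul]
      rfl
    | succ k ih =>
      intro v
      rw [pow_succ, pow_succ]
      change ((x : SpecialLinearGroup F V) ^ k).1 ((x : SpecialLinearGroup F V).1 v) = _
      rw [ih, hr, smul_smul]
  have h1 : r ^ p = 1 := by
    obtain ⟨v, hv⟩ := exists_ne (0 : V)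
    have h2 := hpow p v
    have h3 : (x : SpecialLinearGroup F V) ^ p = 1 := by
      rw [← hx, ← Subgroup.coe_pow, pow_orderOf_eq_one]
      rfl
    rw [h3] at h2
    have h4 : v = r ^ p • v := h2
    have h5 : (((r ^ p : Fˣ) : F) - 1) • v = 0 := by
      rw [sub_smul, one_smul]
      exact sub_eq_zero.2 h4.symm
    rcases smul_eq_zero.1 h5 with h6 | h6
    · exact Units.ext (sub_eq_zero.1 h6)
    · exact absurd h6 hv
  have h2 : r ≠ 1 := by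
    rintro rfl
    apply hx1
    apply Subtype.ext
    apply Subtype.ext
    exact LinearEquiv.ext fun v => (hr v).trans (one_smul _ _)
  have h3 := orderOf_eq_prime h1 h2
  have h4 := orderOf_dvd_natCard r
  rwa [h3, Nat.card_units] at h4

end Cfsg.Agent.H355.PQ
end

-- part: H729/PQD0
section
/-!
# S4612, [PSL-D0]: principal blocks and surjections (helper729)

* `mem_B0_comp_iff` : inflation along a surjection with central kernel;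
* `same_of_surjective` : kernels of order prime to `p` and `q`.
-/

set_option autoImplicit false

open Cfsg

namespace Cfsg.Agent.H729.PQD0

open Cfsg.Agent.H317.PQ Cfsg.Agent.H766.PQ Cfsg.Agent.H358.A3

universe u v

section lifts

variable {G : Type u} [Group G] [Finite G] {S : Type v} [Group S] {p : ℕ}

theorem dvd_mul' (hp : p.Prime) {a b : G} (h : Commute a b) (ha : ¬ p ∣ orderOf a) (hb : ¬ p ∣ orderOf b) :
    ¬ p ∣ orderOf (a * b) := by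
  intro h1
  rcases hp.dvd_mul.1 (h1.trans h.orderOf_mul_dvd_mul_orderOf) with h2 | h2
  · exact ha h2
  · exact hb h2

/-- `p`-regular lifts -/
theorem exists_lift (hp : p.Prime) {f : G →* S} (hf : Function.Surjective f) {s : S} (hs : ¬ p ∣ orderOf s) :
    ∃ g : G, f g = s ∧ ¬ p ∣ orderOf g := by
  obtain ⟨g, rfl⟩ := hf s
  have hpos := orderOf_pos g
  obtain ⟨a, m, hm, ham⟩ := Nat.exists_eq_pow_mul_and_not_dvd hpos.ne' p hp.ne_one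
  have hcop : Nat.Coprime (p ^ a) (orderOf (f g)) := Nat.Coprime.pow_left a ((Nat.Prime.coprime_iff_not_dvd hp).2 hs)
  obtain ⟨t, ht1, ht2⟩ := Nat.chineseRemainder hcop 0 1
  refine ⟨g ^ t, ?_, ?_⟩
  · rw [map_pow]
    conv_rhs => rw [← pow_one (f g)]
    exact pow_eq_pow_iff_modEq.2 ht2
  · intro h
    have h1 : orderOf (g ^ t) ∣ m := by
      rw [orderOf_dvd_iff_pow_eq_one, ← pow_mul, ← orderOf_dvd_iff_pow_eq_one, ham]
      exact mul_dvd_mul_right ((Nat.modEq_zero_iff_dvd).1 ht1) m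
    exact hm (h.trans h1)

open Classical in
theorem card_fiber [Fintype G] (hp : p.Prime) {f : G →* S} (hf : Function.Surjective f)
    (hk : f.ker ≤ Subgroup.center G) {s : S} (hs : ¬ p ∣ orderOf s) :
    (Finset.univ.filter fun g : G => ¬ p ∣ orderOf g ∧ f g = s).card =
      (Finset.univ.filter fun g : G => ¬ p ∣ orderOf g ∧ f g = 1).card := by
  obtain ⟨g₀, h1, h2⟩ := exists_lift hp hf hs
  symm
  refine Finset.card_bij (fun z _ => g₀ * z) ?_ ?_ ?_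
  · intro z hz
    rw [Finset.mem_filter] at hz ⊢
    have hc : Commute g₀ z := Subgroup.mem_center_iff.1 (hk hz.2.2) g₀
    exact ⟨Finset.mem_univ _, dvd_mul' hp hc h2 hz.2.1, by rw [map_mul, h1, hz.2.2, mul_one]⟩
  · intro z _ z' _ h
    exact mul_left_cancel h
  · intro g hg
    rw [Finset.mem_filter] at hg
    have hz : f (g₀⁻¹ * g) = 1 := by rw [map_mul, map_inv, h1, hg.2.2, inv_mul_cancel]
    have hc : Commute g₀ (g₀⁻¹ * g) := Subgroup.mem_center_iff.1 (hk hz) g₀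
    have hc' : Commute g₀⁻¹ g := by
      have h3 : Commute g₀ (g₀ * (g₀⁻¹ * g)) := (Commute.refl g₀).mul_right hc
      rw [mul_inv_cancel_left] at h3
      exact h3.inv_left
    refine ⟨g₀⁻¹ * g, ?_, mul_inv_cancel_left _ _⟩
    rw [Finset.mem_filter]
    exact ⟨Finset.mem_univ _, dvd_mul' hp hc' (by rwa [orderOf_inv]) hg.2.1, hz⟩

end lifts

/-- **[D0]** inflation along a surjection with central kernel -/
theorem mem_B0_comp_iff {G S : Type u} [Group G] [Finite G] [Group S] {p : ℕ} (hp : p.Prime) {f : G →* S}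
    (hf : Function.Surjective f) (hk : f.ker ≤ Subgroup.center G) (χ : IrrCharacter S) (ψ : IrrCharacter G)
    (h : (ψ : G → ℂ) = (χ : S → ℂ) ∘ f) : ψ ∈ B0 p G ↔ χ ∈ B0 p S := by
  classical
  have := Fintype.ofFinite G
  have hS : Finite S := Finite.of_surjective f hf
  have := Fintype.ofFinite S
  rw [mem_B0_iff hp ψ, mem_B0_iff hp χ]
  set c := (Finset.univ.filter fun g : G => ¬ p ∣ orderOf g ∧ f g = 1).card with hc
  have hc0 : (c : ℂ) ≠ 0 := by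
    rw [Nat.cast_ne_zero]
    refine (Finset.card_pos.2 ⟨1, ?_⟩).ne'
    rw [Finset.mem_filter]
    exact ⟨Finset.mem_univ _, by rw [orderOf_one]; exact fun h => hp.one_lt.ne' (Nat.dvd_one.1 h), map_one f⟩
  have key : ∑ g : G with ¬ p ∣ orderOf g, (ψ : G → ℂ) g = c * ∑ s : S with ¬ p ∣ orderOf s, (χ : S → ℂ) s := by
    have h1 : ∀ g ∈ (Finset.univ.filter fun g : G => ¬ p ∣ orderOf g),
        f g ∈ (Finset.univ.filter fun s : S => ¬ p ∣ orderOf s) := by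
      intro g hg
      rw [Finset.mem_filter] at hg ⊢
      exact ⟨Finset.mem_univ _, fun h2 => hg.2 (h2.trans (orderOf_map_dvd f g))⟩
    rw [← Finset.sum_fiberwise_of_maps_to h1, Finset.mul_sum]
    refine Finset.sum_congr rfl fun s hs => ?_
    rw [Finset.mem_filter] at hs
    rw [Finset.filter_filter, Finset.sum_congr rfl (g := fun _ => (χ : S → ℂ) s), Finset.sum_const, nsmul_eq_mul,
      card_fiber hp hf hk hs.2]
    intro g hg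
    rw [Finset.mem_filter] at hg
    rw [h, Function.comp_apply, hg.2.2]
  rw [key]
  exact ⟨fun h1 h2 => h1 (by rw [h2, mul_zero]), fun h1 => mul_ne_zero hc0 h1⟩

theorem B0_sub {G : Type u} [Group G] [Finite G] {p q : ℕ} (hp : p.Prime) (hq : q.Prime) (N : Subgroup G) [N.Normal]
    (hN : ¬ p ∣ Nat.card N) (h : Same p q (G ⧸ N)) : B0 p G ⊆ B0 q G := by
  intro χ hχ
  have : Fact p.Prime := ⟨hp⟩
  obtain ⟨M, hM⟩ := Blocks.ExistsModular.exists_isPModular hp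
  have hMp := Cfsg.Agent.Blocks.Local.isPrime_of_isPModular hM
  rw [B0_eq hp hM] at hχ
  obtain ⟨ψ', h1, h2⟩ := S0967.result p M hM N hN (oneC (G ⧸ N)) χ hχ
  have h3 : ψ' ∈ B0 p (G ⧸ N) := by
    rw [B0_eq hp hM]
    exact h2
  have h4 : ψ' ∈ B0 q (G ⧸ N) := by
    have h5 : B0 p (G ⧸ N) = B0 q (G ⧸ N) := h
    rwa [← h5]
  have h5 := infl_mem hq N h4
  have h6 : χ = infl N ψ' := by
    apply Subtype.ext
    rw [infl_apply]
    exact h1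
  rw [h6]
  exact h5

/-- **[D0]** kernels of order prime to `p` and `q` -/
theorem same_of_surjective {G S : Type u} [Group G] [Finite G] [Group S] {p q : ℕ} (hp : p.Prime) (hq : q.Prime)
    {f : G →* S} (hf : Function.Surjective f) (h1 : ¬ p ∣ Nat.card f.ker) (h2 : ¬ q ∣ Nat.card f.ker)
    (h : Same p q S) : Same p q G := by
  have e := QuotientGroup.quotientKerEquivOfSurjective f hf
  have h3 : Same p q (G ⧸ f.ker) := Same.of_equiv e.symm h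
  exact Set.Subset.antisymm (B0_sub hp hq f.ker h1 h3) (B0_sub hq hp f.ker h2 h3.symm)

end Cfsg.Agent.H729.PQD0
end

-- part: H16/PQL/Orb
section
/-!
# S4612, row of `PSL_n`: orbits on pairs of subspaces (helper16, task 5183)

`card_orbits_Gr` : `SL(V)` has `j + 1` orbits on the pairs of subspaces of dimensions `j ≤ k`, `2 k ≤ dim V`.
-/

set_option autoImplicit false
set_option linter.unusedSectionVars false
set_option linter.unusedVariables false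

open Cfsg Module MulAction

namespace Cfsg.Agent.H16.PQL

open Cfsg.Agent.H355.PQ

universe u v

/-- counting orbits by an invariant -/
theorem card_orbits_of {G X : Type*} [Group G] [MulAction G X] {k : ℕ} (F : X → Fin k) (r : Fin k → X)
    (hinv : ∀ (g : G) x, F (g • x) = F x) (hr : ∀ i, F (r i) = i)
    (hex : ∀ x y, F x = F y → ∃ g : G, g • x = y) : Nat.card (orbitRel.Quotient G X) = k := by
  let f : orbitRel.Quotient G X → Fin k := Quotient.lift F (by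
    rintro a b ⟨g, hg⟩
    rw [← hg]
    exact hinv g b)
  have hf : Function.Bijective f := by
    constructor
    · intro a b
      refine Quotient.inductionOn₂ a b fun x y hxy => ?_
      obtain ⟨g, hg⟩ := hex y x (show F y = F x from (show F x = F y from hxy).symm)
      exact Quotient.sound ⟨g, hg⟩
    · intro i
      exact ⟨Quotient.mk _ (r i), hr i⟩
  rw [Nat.card_congr (Equiv.ofBijective f hf), Nat.card_eq_fintype_card, Fintype.card_fin]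

variable {F : Type u} [Field F] {V : Type v} [AddCommGroup V] [Module F V] [FiniteDimensional F V]

theorem span_scaled {ι : Type*} {u v : ι → V} (h : ∀ i, ∃ c : F, c ≠ 0 ∧ u i = c • v i) :
    Submodule.span F (Set.range u) = Submodule.span F (Set.range v) := by
  apply le_antisymm
  · rw [Submodule.span_le]
    rintro _ ⟨i, rfl⟩
    obtain ⟨c, -, hc⟩ := h i
    rw [hc]
    exact Submodule.smul_mem _ _ (Submodule.subset_span ⟨i, rfl⟩)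
  · rw [Submodule.span_le]
    rintro _ ⟨i, rfl⟩
    obtain ⟨c, hc0, hc⟩ := h i
    have : v i = c⁻¹ • u i := by rw [hc, smul_smul, inv_mul_cancel₀ hc0, one_smul]
    rw [this]
    exact Submodule.smul_mem _ _ (Submodule.subset_span ⟨i, rfl⟩)

/-- `SL(V)` is transitive on independent families up to scalars -/
theorem exists_sl_scaled {ι : Type*} [Finite ι] {u v : ι → V} (hu : LinearIndependent F u)
    (hv : LinearIndependent F v) :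
    ∃ g : SpecialLinearGroup F V, ∀ i, ∃ c : F, c ≠ 0 ∧ g.1 (u i) = c • v i := by
  rcases isEmpty_or_nonempty ι with h | ⟨⟨i0⟩⟩
  · exact ⟨1, fun i => h.elim i⟩
  · obtain ⟨g, c, h0, h1⟩ := Cfsg.Agent.H105.exists_sl hu hv i0
    refine ⟨g, fun i => ?_⟩
    by_cases hi : i = i0
    · subst hi
      exact ⟨c, c.ne_zero, h0⟩
    · exact ⟨1, one_ne_zero, by rw [h1 i hi, one_smul]⟩

/-- **transitivity on pairs of subspaces** -/
theorem exists_pair_sl {W U W' U' : Submodule F V} (h1 : finrank F W = finrank F W') (h2 : finrank F U = finrank F U')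
    (h3 : finrank F ↥(W ⊓ U) = finrank F ↥(W' ⊓ U')) :
    ∃ g : SpecialLinearGroup F V, W.map (g.1 : V →ₗ[F] V) = W' ∧ U.map (g.1 : V →ₗ[F] V) = U' := by
  have ha := Submodule.finrank_mono (R := F) (inf_le_left : W ⊓ U ≤ W)
  have hc := Submodule.finrank_mono (R := F) (inf_le_right : W ⊓ U ≤ U)
  obtain ⟨u, hu, e1, e2⟩ := Cfsg.Agent.H289.Eight.exists_adapted W U (a := finrank F ↥(W ⊓ U))
    (b := finrank F W - finrank F ↥(W ⊓ U)) (c := finrank F U - finrank F ↥(W ⊓ U)) rfl (by omega) (by omega)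
  obtain ⟨v, hv, e3, e4⟩ := Cfsg.Agent.H289.Eight.exists_adapted W' U' (a := finrank F ↥(W ⊓ U))
    (b := finrank F W - finrank F ↥(W ⊓ U)) (c := finrank F U - finrank F ↥(W ⊓ U)) h3.symm (by omega) (by omega)
  obtain ⟨g, hg⟩ := exists_sl_scaled hu hv
  refine ⟨g, ?_, ?_⟩
  · rw [e3]
    conv_lhs => rw [e1]
    rw [Submodule.map_span, ← Set.range_comp]
    exact span_scaled fun i => hg _
  · rw [e4]
    conv_lhs => rw [e2]
    rw [Submodule.map_span, ← Set.range_comp]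
    exact span_scaled fun i => hg _

/-- pairs with a given intersection -/
theorem exists_inf {j k i : ℕ} (hi : i ≤ j) (hjk : j ≤ k) (hk : 2 * k ≤ finrank F V) :
    ∃ U W : Submodule F V, finrank F U = j ∧ finrank F W = k ∧ finrank F ↥(U ⊓ W) = i := by
  let b := Module.finBasis F V
  have hb : ∀ {m : ℕ} (f : Fin m → Fin (finrank F V)), Function.Injective f →
      finrank F (Submodule.span F (Set.range fun x => b (f x))) = m := by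
    intro m f hf
    have h := finrank_span_eq_card (b.linearIndependent.comp f hf)
    rw [Fintype.card_fin] at h
    exact h
  let f1 : Fin j → Fin (finrank F V) := fun x => ⟨x.1, by omega⟩
  let f2 : Fin k → Fin (finrank F V) := fun x => ⟨j - i + x.1, by omega⟩
  let f3 : Fin (j - i + k) → Fin (finrank F V) := fun x => ⟨x.1, by omega⟩
  have h1 : Function.Injective f1 := fun x y h => Fin.ext (Fin.mk.inj_iff.1 h)
  have h2 : Function.Injective f2 := fun x y h => Fin.ext (by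
    have := congrArg Fin.val h
    simp only [f2] at this
    omega)
  have h3 : Function.Injective f3 := fun x y h => Fin.ext (Fin.mk.inj_iff.1 h)
  refine ⟨Submodule.span F (Set.range fun x => b (f1 x)), Submodule.span F (Set.range fun x => b (f2 x)), hb f1 h1,
    hb f2 h2, ?_⟩
  have h4 : Submodule.span F (Set.range fun x => b (f1 x)) ⊔ Submodule.span F (Set.range fun x => b (f2 x)) =
      Submodule.span F (Set.range fun x => b (f3 x)) := by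
    rw [← Submodule.span_union]
    congr 1
    ext v
    constructor
    · rintro (⟨x, rfl⟩ | ⟨x, rfl⟩)
      · exact ⟨⟨x.1, by omega⟩, rfl⟩
      · exact ⟨⟨j - i + x.1, by omega⟩, rfl⟩
    · rintro ⟨x, rfl⟩
      by_cases hx : x.1 < j
      · exact Or.inl ⟨⟨x.1, hx⟩, rfl⟩
      · refine Or.inr ⟨⟨x.1 - (j - i), by omega⟩, ?_⟩
        simp only [f2, f3]
        congr 2
        omega
  have h5 := Submodule.finrank_sup_add_finrank_inf_eq (Submodule.span F (Set.range fun x => b (f1 x)))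
    (Submodule.span F (Set.range fun x => b (f2 x)))
  rw [h4, hb f1 h1, hb f2 h2, hb f3 h3] at h5
  omega

/-- **orbits on pairs of subspaces** -/
theorem card_orbits_Gr {F : Type u} [Field F] [Finite F] {V : Type v} [AddCommGroup V] [Module F V]
    [FiniteDimensional F V] {j k : ℕ} (hjk : j ≤ k) (hk : 2 * k ≤ finrank F V) (hV : 2 ≤ finrank F V) :
    Nat.card (orbitRel.Quotient (SpecialLinearGroup F V) (Gr F V j × Gr F V k)) = j + 1 := by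
  have hlt : ∀ x : Gr F V j × Gr F V k, finrank F ↥(x.1.1 ⊓ x.2.1) < j + 1 := by
    intro x
    have h1 := Submodule.finrank_mono (R := F) (inf_le_left : x.1.1 ⊓ x.2.1 ≤ x.1.1)
    have h2 := x.1.2
    omega
  choose U W hU hW hUW using fun i : Fin (j + 1) =>
    exists_inf (F := F) (V := V) (i := i.1) (Nat.lt_succ_iff.1 i.2) hjk hk
  refine card_orbits_of (fun x => ⟨finrank F ↥(x.1.1 ⊓ x.2.1), hlt x⟩) (fun i => (⟨U i, hU i⟩, ⟨W i, hW i⟩)) ?_ ?_ ?_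
  · intro g x
    apply Fin.ext
    change finrank F ↥((x.1.1.map (g.1 : V →ₗ[F] V)) ⊓ (x.2.1.map (g.1 : V →ₗ[F] V))) = finrank F ↥(x.1.1 ⊓ x.2.1)
    rw [← Submodule.map_inf _ g.1.injective]
    exact LinearEquiv.finrank_map_eq g.1 _
  · intro i
    exact Fin.ext (hUW i)
  · intro x y hxy
    obtain ⟨g, h1, h2⟩ := exists_pair_sl (W := x.1.1) (U := x.2.1) (W' := y.1.1) (U' := y.2.1)
      (x.1.2.trans y.1.2.symm) (x.2.2.trans y.2.2.symm) (congrArg Fin.val hxy)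
    exact ⟨g, Prod.ext (Subtype.ext h1) (Subtype.ext h2)⟩

end Cfsg.Agent.H16.PQL
end

-- part: H29/PQL/CardGr
section
/-!
# The numbers of the subspaces grow (S4612, [PSL-D1c]; helper29)
-/

set_option autoImplicit false

open Cfsg Module

namespace Cfsg.Agent.H29.PQL

open Cfsg.Agent.H355.PQ

universe u v

/-- `∏_{0<i≤N} (q^i - 1)` -/
def fac (q N : ℕ) : ℕ := ∏ i ∈ Finset.range N, (q ^ (i + 1) - 1)

theorem fac_succ (q N : ℕ) : fac q (N + 1) = fac q N * (q ^ (N + 1) - 1) := Finset.prod_range_succ _ _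

theorem fac_pos {q : ℕ} (hq : 1 < q) (N : ℕ) : 0 < fac q N := by
  apply Finset.prod_pos
  intro i _
  have : 1 < q ^ (i + 1) := Nat.one_lt_pow (by omega) hq
  omega

theorem fall_mul (q : ℕ) {N l : ℕ} (hl : l ≤ N) : (∏ j : Fin l, (q ^ (N - j.val) - 1)) * fac q (N - l) = fac q N := by
  rw [Fin.prod_univ_eq_prod_range (fun j => q ^ (N - j) - 1) l]
  induction l with
  | zero => simp only [_root_.Finset.range_zero, _root_.Finset.prod_empty, _root_.tsub_zero, _root_.one_mul]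
  | succ l ih =>
    rw [Finset.prod_range_succ, ← ih (by omega)]
    obtain ⟨k, hk⟩ : ∃ k, N - l = k + 1 := ⟨N - l - 1, by omega⟩
    have h1 : N - (l + 1) = k := by omega
    rw [h1, hk, fac_succ]
    ring

variable {F : Type u} [Field F] [Finite F] {V : Type v} [AddCommGroup V] [Module F V] [FiniteDimensional F V]

theorem card_Gr_mul {k : ℕ} (hk : k ≤ finrank F V) :
    Nat.card (Gr F V k) * fac (Nat.card F) k * fac (Nat.card F) (finrank F V - k) = fac (Nat.card F) (finrank F V) := by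
  have : Fintype F := Fintype.ofFinite F
  rw [Nat.card_eq_fintype_card (α := F)]
  have h1 := H950.card_subspaces_eq (F := F) (V := V) rfl hk rfl
  have h2 := fall_mul (Fintype.card F) (le_refl k)
  rw [Nat.sub_self] at h2
  have h3 : fac (Fintype.card F) 0 = 1 := rfl
  rw [h3, mul_one] at h2
  rw [h2] at h1
  rw [show Nat.card (Gr F V k) = Nat.card {W : Submodule F V // finrank F W = k} from rfl, h1,
    fall_mul (Fintype.card F) hk]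

theorem card_Gr_succ {k : ℕ} (hk : k + 1 ≤ finrank F V) :
    Nat.card (Gr F V (k + 1)) * (Nat.card F ^ (k + 1) - 1) =
      Nat.card (Gr F V k) * (Nat.card F ^ (finrank F V - k) - 1) := by
  have hq : 1 < Nat.card F := Finite.one_lt_card
  have h1 := card_Gr_mul (F := F) (V := V) (k := k) (by omega)
  have h2 := card_Gr_mul (F := F) (V := V) (k := k + 1) hk
  obtain ⟨l, hl⟩ : ∃ l, finrank F V - k = l + 1 := ⟨finrank F V - k - 1, by omega⟩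
  have hl' : finrank F V - (k + 1) = l := by omega
  rw [hl, fac_succ, ← h2, hl', fac_succ] at h1
  rw [hl]
  have h3 : 0 < fac (Nat.card F) k * fac (Nat.card F) l := Nat.mul_pos (fac_pos hq _) (fac_pos hq _)
  refine Nat.eq_of_mul_eq_mul_right h3 ?_
  linarith only [h1]

/-- **D1c** -/
theorem card_Gr_lt {k : ℕ} (hk : 2 * (k + 1) ≤ finrank F V) :
    Nat.card (Gr F V k) < Nat.card (Gr F V (k + 1)) := by
  have hq : 1 < Nat.card F := Finite.one_lt_card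
  have h1 := card_Gr_succ (F := F) (V := V) (k := k) (by omega)
  have h0 : 0 < Nat.card (Gr F V k) := by
    have h := card_Gr_mul (F := F) (V := V) (k := k) (by omega)
    have h' := fac_pos hq (finrank F V)
    rw [← h] at h'
    exact Nat.pos_of_ne_zero fun h0 => by rw [h0] at h'; simp only [_root_.MulZeroClass.zero_mul, _root_.lt_self_iff_false] at h'
  have h2 : Nat.card F ^ (k + 1) < Nat.card F ^ (finrank F V - k) := Nat.pow_lt_pow_right hq (by omega)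
  have h3 : 1 < Nat.card F ^ (k + 1) := Nat.one_lt_pow (by omega) hq
  by_contra h4
  rw [not_lt] at h4
  have h5 : Nat.card (Gr F V (k + 1)) * (Nat.card F ^ (k + 1) - 1) ≤ Nat.card (Gr F V k) * (Nat.card F ^ (k + 1) - 1) :=
    Nat.mul_le_mul_right _ h4
  rw [h1] at h5
  have h6 := Nat.le_of_mul_le_mul_left h5 h0
  omega

end Cfsg.Agent.H29.PQL
end

-- part: H618/PQL/Reg
section
/-!
# S4612, PSL-D5a: regular unipotent elements (helper618)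
-/

set_option autoImplicit false

open Cfsg Module

namespace Cfsg.Agent.H618.PQL

open Cfsg.Agent.H355.PQ

universe u

/-- the shift -/
def shf (F : Type u) [Field F] (a : ℕ) : (Fin a → F) →ₗ[F] (Fin a → F) where
  toFun x i := if h : i.1 + 1 < a then x ⟨i.1 + 1, h⟩ else 0
  map_add' x y := by
    funext i
    rw [Pi.add_apply]
    split_ifs
    · rfl
    · rw [add_zero]
  map_smul' c x := by
    funext i
    rw [Pi.smul_apply, RingHom.id_apply]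
    split_ifs
    · rfl
    · rw [smul_zero]

variable {F : Type u} [Field F] {a : ℕ}

theorem shf_apply (x : Fin a → F) (i : Fin a) : shf F a x i = if h : i.1 + 1 < a then x ⟨i.1 + 1, h⟩ else 0 := rfl

theorem shf_pow_apply (k : ℕ) (x : Fin a → F) (i : Fin a) :
    (shf F a ^ k) x i = if h : i.1 + k < a then x ⟨i.1 + k, h⟩ else 0 := by
  induction k generalizing i with
  | zero =>
    rw [pow_zero, Module.End.one_apply, dif_pos (by rw [add_zero]; exact i.2)]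
    rfl
  | succ k ih =>
    rw [pow_succ', Module.End.mul_apply, shf_apply]
    by_cases h : i.1 + 1 < a
    · rw [dif_pos h, ih]
      have e : i.1 + 1 + k = i.1 + (k + 1) := by omega
      by_cases h2 : i.1 + (k + 1) < a
      · rw [dif_pos h2, dif_pos (by rw [e]; exact h2)]
        congr 1
        exact Fin.ext e
      · rw [dif_neg h2, dif_neg (by rw [e]; exact h2)]
    · rw [dif_neg h, dif_neg (by omega)]

theorem shf_pow_eq_zero {k : ℕ} (hk : a ≤ k) : shf F a ^ k = 0 := by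
  apply LinearMap.ext
  intro x
  funext i
  rw [shf_pow_apply, dif_neg (by omega)]
  rfl

theorem mem_ker_iff {k : ℕ} {x : Fin a → F} : x ∈ LinearMap.ker (shf F a ^ k) ↔ ∀ i : Fin a, k ≤ i.1 → x i = 0 := by
  rw [LinearMap.mem_ker]
  constructor
  · intro h i hi
    have h1 := congrFun h (⟨i.1 - k, by have := i.2; omega⟩ : Fin a)
    rw [shf_pow_apply, dif_pos (by change i.1 - k + k < a; have := i.2; omega)] at h1
    have e : (⟨(i.1 - k) + k, by have := i.2; omega⟩ : Fin a) = i := Fin.ext (by change i.1 - k + k = i.1; omega)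
    rw [← e]
    exact h1
  · intro h
    funext i
    rw [shf_pow_apply]
    split_ifs with h1
    · exact h _ (by change k ≤ i.1 + k; omega)
    · rfl

theorem finrank_ker {k : ℕ} (hk : k ≤ a) : finrank F (LinearMap.ker (shf F a ^ k)) = k := by
  let e : LinearMap.ker (shf F a ^ k) ≃ₗ[F] (Fin k → F) :=
    { toFun := fun x j => x.1 (Fin.castLE hk j)
      map_add' := fun x y => rfl
      map_smul' := fun c x => rfl
      invFun := fun y => ⟨fun i => if h : i.1 < k then y ⟨i.1, h⟩ else 0, mem_ker_iff.2 fun i hi => dif_neg (by omega)⟩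
      left_inv := fun x => by
        apply Subtype.ext
        funext i
        change (if h : i.1 < k then x.1 (Fin.castLE hk ⟨i.1, h⟩) else 0) = x.1 i
        split_ifs with h
        · rfl
        · exact (mem_ker_iff.1 x.2 i (by omega)).symm
      right_inv := fun y => by
        funext j
        change (if h : (Fin.castLE hk j).1 < k then y ⟨(Fin.castLE hk j).1, h⟩ else 0) = y j
        rw [dif_pos (by rw [Fin.val_castLE]; exact j.2)]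
        rfl }
  rw [e.finrank_eq, finrank_fin_fun]

theorem exists_reg (F : Type u) [Field F] [Finite F] {r : ℕ} [CharP F r] (a : ℕ) :
    ∃ J : (Fin a → F) ≃ₗ[F] (Fin a → F), (∃ m : ℕ, J ^ r ^ m = 1) ∧ LinearEquiv.det J = 1 ∧
      ∀ k ≤ a, inv k (J : (Fin a → F) →ₗ[F] (Fin a → F)) = 1 := by
  classical
  have hr : Fact r.Prime := ⟨CharP.char_is_prime F r⟩
  have hr1 : 1 < r := hr.out.one_lt
  set N : Module.End F (Fin a → F) := shf F a with hN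
  have hC : CharP (Module.End F (Fin a → F)) r ∨ a = 0 := by
    rcases Nat.eq_zero_or_pos a with h0 | h0
    · exact Or.inr h0
    · have : Nonempty (Fin a) := ⟨⟨0, h0⟩⟩
      exact Or.inl (charP_of_injective_algebraMap (algebraMap F (Module.End F (Fin a → F))).injective r)
  have hpow : (1 + N) ^ r ^ a = 1 := by
    rcases hC with hC | h0
    · have h1 : ((1 : Module.End F (Fin a → F)) + N) ^ r ^ a = 1 ^ r ^ a + N ^ r ^ a :=
        add_pow_char_pow_of_commute (p := r) a (Commute.one_left N)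
      rw [h1, one_pow, shf_pow_eq_zero (Nat.lt_pow_self hr1).le, add_zero]
    · subst h0
      exact Subsingleton.elim _ _
  have hinj : Function.Injective ((1 + N : Module.End F (Fin a → F)) : (Fin a → F) → (Fin a → F)) := by
    rw [← LinearMap.ker_eq_bot, LinearMap.ker_eq_bot']
    intro x hx
    have h1 : ((1 + N) ^ r ^ a) x = x := by rw [hpow]; rfl
    have h2 : 0 < r ^ a := by positivity
    obtain ⟨t, ht⟩ : ∃ t, r ^ a = t + 1 := ⟨r ^ a - 1, by omega⟩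
    rw [ht, pow_succ, Module.End.mul_apply, hx, map_zero] at h1
    exact h1.symm
  let J : (Fin a → F) ≃ₗ[F] (Fin a → F) := LinearEquiv.ofInjectiveEndo (1 + N) hinj
  have hJ : (J : (Fin a → F) →ₗ[F] (Fin a → F)) = 1 + N := rfl
  have hJx : ∀ x, J x = x + N x := fun x => by
    have := LinearMap.congr_fun hJ x
    exact this
  have hJp : J ^ r ^ a = 1 := by
    apply LinearEquiv.toLinearMap_injective
    have h1 := map_pow (LinearEquiv.automorphismGroup.toLinearMapMonoidHom (R := F) (M := Fin a → F)) J (r ^ a)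
    have h2 : LinearEquiv.automorphismGroup.toLinearMapMonoidHom J = 1 + N := hJ
    rw [h2, hpow] at h1
    exact h1
  refine ⟨J, ⟨a, hJp⟩, ?_, fun k hk => ?_⟩
  · have h1 : LinearEquiv.det J ^ r ^ a = 1 := by rw [← map_pow, hJp, map_one]
    apply Units.ext
    have h2 := congrArg Units.val h1
    rw [Units.val_pow_eq_pow_val, Units.val_one, ← mul_one (r ^ a), ExpChar.pow_prime_pow_mul_eq_one_iff, pow_one] at h2
    exact h2
  · have hcomm : ∀ (j : ℕ) x, (N ^ j) (J x) = J ((N ^ j) x) := by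
      intro j x
      rw [hJx, hJx, map_add]
      congr 1
      rw [← Module.End.mul_apply, ← Module.End.mul_apply, ← pow_succ, ← pow_succ']
    have huniq : ∀ W : Submodule F (Fin a → F), finrank F W = k → W.map (J : (Fin a → F) →ₗ[F] (Fin a → F)) = W →
        W = LinearMap.ker (N ^ k) := by
      intro W hW hJW
      have hNW : ∀ x ∈ W, N x ∈ W := by
        intro x hx
        have h1 : J x ∈ W := by
          rw [← hJW]
          exact Submodule.mem_map_of_mem hx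
        have h2 : N x = J x - x := by rw [hJx]; abel
        rw [h2]
        exact W.sub_mem h1 hx
      have hle : W ≤ LinearMap.ker (N ^ k) := by
        intro x hx
        have h1 : ∀ (j : ℕ) (y : W), (((N.restrict hNW) ^ j) y : Fin a → F) = (N ^ j) y := by
          intro j
          induction j with
          | zero => intro y; rfl
          | succ j ih =>
            intro y
            rw [pow_succ, pow_succ, Module.End.mul_apply, Module.End.mul_apply, ih]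
            rfl
        have h2 := Module.End.ker_pow_le_ker_pow_finrank (N.restrict hNW) a
          (show (⟨x, hx⟩ : W) ∈ LinearMap.ker ((N.restrict hNW) ^ a) by
            rw [LinearMap.mem_ker]
            apply Subtype.ext
            rw [h1, hN, shf_pow_eq_zero le_rfl]
            rfl)
        rw [LinearMap.mem_ker, hW] at h2
        rw [LinearMap.mem_ker, ← h1 k ⟨x, hx⟩, h2]
        rfl
      exact Submodule.eq_of_le_of_finrank_eq hle (by rw [hW, hN, finrank_ker hk])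
    have hinv : (LinearMap.ker (N ^ k)).map (J : (Fin a → F) →ₗ[F] (Fin a → F)) = LinearMap.ker (N ^ k) := by
      apply le_antisymm
      · rintro _ ⟨x, hx, rfl⟩
        rw [LinearMap.mem_ker]
        change (N ^ k) (J x) = 0
        rw [hcomm, LinearMap.mem_ker.1 hx, map_zero]
      · intro y hy
        refine ⟨J.symm y, ?_, J.apply_symm_apply y⟩
        rw [SetLike.mem_coe, LinearMap.mem_ker]
        apply J.injective
        rw [← hcomm, LinearEquiv.apply_symm_apply, LinearMap.mem_ker.1 hy, map_zero]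
    unfold inv
    rw [Nat.card_eq_one_iff_unique]
    exact ⟨⟨fun W W' => Subtype.ext ((huniq _ W.2.1 W.2.2).trans (huniq _ W'.2.1 W'.2.2).symm)⟩,
      ⟨⟨LinearMap.ker (N ^ k), by rw [hN, finrank_ker hk], hinv⟩⟩⟩

end Cfsg.Agent.H618.PQL
end

-- part: H417/PSLD/CoreEl
section
/-!
# S4612, row of `PSL_n`, [D7] the core test (helper417)

`core_el` : `u = el ζ 1` of order `p`; the elements whose images commute with `f u` commute with `u` (the kernel of `f` is scalar,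
`p` does not divide `|F| - 1`), hence with `g = el c 1` (`K = F[ζ]`): `⟨f g⟩` is a central `q`-subgroup of the centralizer of `f u`.
-/

set_option autoImplicit false

open Cfsg Module

namespace Cfsg.Agent.H417.PSLD

open Cfsg.Agent.H317.PQ Cfsg.Agent.H355.PQ

universe u v

variable {F : Type u} [Field F] {K : Type u} [Field K] [Algebra F K] {V : Type v} [AddCommGroup V] [Module F V]
  {p e w : ℕ} {ζ : Kˣ}

theorem not_dvd_sub_one (h : Dat F K p e ζ) (he : 2 ≤ e) : ¬ p ∣ Nat.card F - 1 := by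
  intro h1
  have h2 := (h.min 1).1 (by rwa [pow_one])
  have h3 := Nat.le_of_dvd one_pos h2
  omega

/-- an element of `F` whose `p`-th power is `1` is `1` -/
theorem eq_one_of_pow (h : Dat F K p e ζ) (he : 2 ≤ e) {r : Fˣ} (hr : r ^ p = 1) : r = 1 := by
  have := h.finF
  rcases (Nat.dvd_prime h.prime).1 (orderOf_dvd_of_pow_eq_one hr) with h2 | h2
  · exact orderOf_eq_one_iff.1 h2
  · exfalso
    have h3 := orderOf_dvd_natCard r
    rw [h2, Nat.card_units] at h3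
    exact not_dvd_sub_one h he h3

theorem adjoin_top (h : Dat F K p e ζ) : Algebra.adjoin F {(ζ : K)} = ⊤ := by
  have hF := h.finF
  have hK := h.finK
  have hfd : FiniteDimensional F K := Module.Finite.of_finite
  set E : IntermediateField F K := IntermediateField.adjoin F {(ζ : K)} with hE
  have hζ : (ζ : K) ∈ E := IntermediateField.mem_adjoin_simple_self F _
  have h1 : p ∣ Nat.card E - 1 := by
    let ζ' : Eˣ := Units.mk0 ⟨ζ, hζ⟩ (fun h0 => ζ.ne_zero (congrArg Subtype.val h0))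
    have h2 : orderOf ζ' = p := by
      rw [← h.ord, ← orderOf_units (y := ζ), ← orderOf_units (y := ζ')]
      have h3 := orderOf_injective (E.val : E →* K) E.val.injective (ζ' : E)
      rw [← h3]
      rfl
    have h3 := orderOf_dvd_natCard ζ'
    rwa [h2, Nat.card_units] at h3
  have h2 : Nat.card E = Nat.card F ^ finrank F E := Module.natCard_eq_pow_finrank
  rw [h2] at h1
  have h3 := (h.min _).1 h1
  have h4 : finrank F E ≤ finrank F K := Submodule.finrank_le (Subalgebra.toSubmodule E.toSubalgebra)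
  have h5 : 0 < finrank F E := finrank_pos
  have h6 : finrank F E = finrank F K := by
    refine le_antisymm h4 ?_
    rw [h.deg]
    exact Nat.le_of_dvd h5 h3
  have h7 : E = ⊤ := IntermediateField.eq_of_le_of_finrank_eq le_top (by rw [IntermediateField.finrank_top', h6])
  have h8 : E.toSubalgebra = Algebra.adjoin F {(ζ : K)} :=
    IntermediateField.adjoin_simple_toSubalgebra_of_isAlgebraic (Algebra.IsAlgebraic.isAlgebraic _)
  rw [← h8, h7]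
  exact IntermediateField.top_toSubalgebra

/-! ### the elements `el c 1` -/

theorem el_mul' (a b : Kˣ) : (el (a * b) (LinearEquiv.refl F V) : Sp K w V ≃ₗ[F] Sp K w V) =
    el a (LinearEquiv.refl F V) * el b (LinearEquiv.refl F V) := by
  refine LinearEquiv.ext fun v => ?_
  rw [LinearEquiv.mul_apply, el_apply, el_apply, el_apply]
  refine Prod.ext (funext fun i => ?_) rfl
  simp [mul_assoc]

/-- `c ↦ el c 1` -/
def elHom (F : Type u) [Field F] (K : Type u) [Field K] [Algebra F K] (V : Type v) [AddCommGroup V] [Module F V]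
    (w : ℕ) : Kˣ →* (Sp K w V ≃ₗ[F] Sp K w V) :=
  MonoidHom.mk' (fun c => el c (LinearEquiv.refl F V)) fun a b => el_mul' a b

theorem elHom_apply (c : Kˣ) : elHom F K V w c = el c (LinearEquiv.refl F V) := rfl

/-- `v ↦ (a v₁, 0)` -/
def mm (a : K) (v : Sp K w V) : Sp K w V := (fun i => a * v.1 i, 0)

theorem mm_mm (a b : K) (v : Sp K w V) : mm a (mm b v) = mm (a * b) v := by
  refine Prod.ext (funext fun i => ?_) rfl
  simp [mm, mul_assoc]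

theorem mm_add (a b : K) (v : Sp K w V) : mm (a + b) v = mm a v + mm b v := by
  refine Prod.ext (funext fun i => ?_) (by simp [mm])
  simp only [mm, add_mul, _root_.Prod.mk_add_mk, _root_.add_zero, _root_.Pi.add_apply]

theorem mm_smul (r : F) (v : Sp K w V) : mm (algebraMap F K r) v = r • mm 1 v := by
  refine Prod.ext (funext fun i => ?_) (by simp [mm])
  simp [mm, Algebra.smul_def]

theorem el_eq (c : Kˣ) (v : Sp K w V) : el c (LinearEquiv.refl F V) v = mm (c : K) v + (v - mm 1 v) := by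
  rw [el_apply]
  refine Prod.ext (funext fun i => ?_) ?_
  · simp [mm]
  · simp [mm]

theorem mm_sub_one (c : Kˣ) (v : Sp K w V) : mm ((c : K) - 1) v = el c (LinearEquiv.refl F V) v - v := by
  rw [el_apply]
  refine Prod.ext (funext fun i => ?_) ?_
  · simp [mm, sub_mul]
  · simp [mm]

/-- a map commuting with `el ζ 1` commutes with all `el c 1` -/
theorem comm_el (h : Dat F K p e ζ) (X : Sp K w V ≃ₗ[F] Sp K w V)
    (hX : ∀ v, X (el ζ (LinearEquiv.refl F V) v) = el ζ (LinearEquiv.refl F V) (X v)) (c : Kˣ) (v : Sp K w V) :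
    X (el c (LinearEquiv.refl F V) v) = el c (LinearEquiv.refl F V) (X v) := by
  have hK := h.finK
  have h1 : ∀ v, X (mm ((ζ : K) - 1) v) = mm ((ζ : K) - 1) (X v) := fun v => by
    rw [mm_sub_one (F := F), mm_sub_one (F := F), map_sub, hX]
  have h2 : ∀ (n : ℕ) (v : Sp K w V), X (mm (((ζ : K) - 1) ^ (n + 1)) v) = mm (((ζ : K) - 1) ^ (n + 1)) (X v) := by
    intro n
    induction n with
    | zero => intro v; rw [zero_add, pow_one]; exact h1 v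
    | succ n ih =>
      intro v
      rw [pow_succ, ← mm_mm, ← mm_mm, ih, h1]
  have hζ : (ζ : K) - 1 ≠ 0 := by
    intro h0
    have h3 : ζ = 1 := Units.ext (sub_eq_zero.1 h0)
    have h4 := h.ord
    rw [h3, orderOf_one] at h4
    exact h.prime.one_lt.ne h4
  have h3 : ((ζ : K) - 1) ^ (Nat.card Kˣ - 1 + 1) = 1 := by
    have h4 : 0 < Nat.card Kˣ := Nat.card_pos
    rw [Nat.sub_add_cancel h4]
    have h5 := pow_card_eq_one' (G := Kˣ) (x := Units.mk0 _ hζ)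
    exact congrArg Units.val h5
  have hone : ∀ v, X (mm 1 v) = mm 1 (X v) := fun v => by
    have := h2 (Nat.card Kˣ - 1) v
    rwa [h3] at this
  let T : Subalgebra F K :=
    { carrier := {a | ∀ v, X (mm a v) = mm a (X v)}
      mul_mem' := fun {a b} ha hb v => by rw [← mm_mm, ← mm_mm, ha, hb]
      add_mem' := fun {a b} ha hb v => by rw [mm_add, mm_add, map_add, ha, hb]
      algebraMap_mem' := fun r v => by rw [mm_smul, mm_smul, map_smul, hone] }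
  have hζT : (ζ : K) ∈ T := by
    have e1 : (ζ : K) = ((ζ : K) - 1) + 1 := by ring
    rw [e1]
    exact T.add_mem h1 hone
  have hT : T = ⊤ := by
    rw [← top_le_iff, ← adjoin_top h]
    exact Algebra.adjoin_le (Set.singleton_subset_iff.2 hζT)
  have hc : ∀ v, X (mm (c : K) v) = mm (c : K) (X v) := by
    have : (c : K) ∈ T := by rw [hT]; exact Algebra.mem_top
    exact this
  rw [el_eq, el_eq, map_add, map_sub, hc, hone]

/-! ### the test -/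

/-- **[D7]** -/
theorem core_el {q : ℕ} [FiniteDimensional F V] (h : Dat F K p e ζ) (he : 2 ≤ e) (hq : q.Prime) (hpq : p ≠ q)
    {S : Type (max u v)} [Group S] {f : SpecialLinearGroup F (Sp K w V) →* S} (hf : Function.Surjective f)
    (hker : f.ker ≤ Subgroup.center _) (c : Kˣ) (hc : ∃ m : ℕ, orderOf c = q ^ m)
    (g : SpecialLinearGroup F (Sp K w V)) (hg : g.1 = el c (LinearEquiv.refl F V)) (hns : f g ≠ 1) :
    ¬ Same p q S := by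
  intro hS
  have hF := h.finF
  have hK := h.finK
  have hfd : FiniteDimensional F K := Module.Finite.of_finite
  have hV : Finite V := Module.finite_of_finite F
  have hW : Finite (Sp K w V) := inferInstance
  have hGL : Finite (Sp K w V ≃ₗ[F] Sp K w V) := Finite.of_injective (fun g => (g : Sp K w V → Sp K w V)) DFunLike.coe_injective
  have hSL : Finite (SpecialLinearGroup F (Sp K w V)) := inferInstance
  have hSf : Finite S := Finite.of_surjective f hf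
  -- the space is not zero
  have hnt : Nontrivial (Sp K w V) := by
    by_contra hcon
    rw [not_nontrivial_iff_subsingleton] at hcon
    apply hns
    have : g = 1 := Subtype.ext (LinearEquiv.ext fun v => Subsingleton.elim _ _)
    rw [this, map_one]
  -- the element `u`
  have hUp : (el ζ (LinearEquiv.refl F V) : Sp K w V ≃ₗ[F] Sp K w V) ^ p = 1 := by
    rw [← elHom_apply, ← map_pow, ← h.ord, pow_orderOf_eq_one, map_one]
  have hdet : LinearEquiv.det (el ζ (LinearEquiv.refl F V) : Sp K w V ≃ₗ[F] Sp K w V) = 1 := by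
    apply eq_one_of_pow h he
    rw [← map_pow, hUp, map_one]
  let u : SpecialLinearGroup F (Sp K w V) := ⟨el ζ (LinearEquiv.refl F V), hdet⟩
  have hup : u ^ p = 1 := Subtype.ext hUp
  -- elements commuting with `f u`
  have key : ∀ x : SpecialLinearGroup F (Sp K w V), f x * f u = f u * f x → x * g = g * x := by
    intro x hx
    set z := x * u * x⁻¹ * u⁻¹ with hz
    have hzk : z ∈ f.ker := by
      rw [MonoidHom.mem_ker, hz, map_mul, map_mul, map_mul, hx, map_inv, map_inv]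
      group
    have hzc := hker hzk
    have hzu : z * u = x * u * x⁻¹ := by rw [hz]; group
    have hzp : z ^ p = 1 := by
      have h0 : Commute z u := (Subgroup.mem_center_iff.1 hzc u).symm
      have h1 : (z * u) ^ p = z ^ p * u ^ p := h0.mul_pow p
      rw [hzu, conj_pow, hup, mul_one, mul_one, mul_inv_cancel] at h1
      exact h1.symm
    obtain ⟨r, -, hr⟩ := SpecialLinearGroup.mem_center_iff.1 hzc
    have hra : ∀ v : Sp K w V, z.1 v = r • v := fun v => by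
      have := LinearMap.congr_fun hr v
      simpa only [_root_.LinearEquiv.coe_coe, _root_.LinearMap.smul_apply, _root_.LinearMap.id_coe, _root_.id_eq] using this
    have hrp : r ^ p = 1 := by
      obtain ⟨v, hv⟩ := exists_ne (0 : Sp K w V)
      have h1 : ∀ n : ℕ, (z ^ n).1 v = r ^ n • v := by
        intro n
        induction n with
        | zero => simp only [_root_.pow_zero, _root_.SpecialLinearGroup.coe_one, _root_.LinearEquiv.coe_one, _root_.id_eq, _root_.one_smul]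
        | succ n ih =>
          rw [pow_succ', SpecialLinearGroup.coe_mul, LinearEquiv.mul_apply, ih, hra, smul_smul, ← pow_succ']
      have h2 := h1 p
      rw [hzp] at h2
      have h3 : (r ^ p - 1) • v = 0 := by
        rw [sub_smul, one_smul, ← h2]
        exact sub_self _
      rcases smul_eq_zero.1 h3 with h4 | h4
      · exact sub_eq_zero.1 h4
      · exact absurd h4 hv
    have hr0 : r ≠ 0 := by
      intro h0
      rw [h0, zero_pow h.prime.ne_zero] at hrp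
      exact zero_ne_one hrp
    have hr1 : r = 1 := by
      have h1 := eq_one_of_pow h he (r := Units.mk0 r hr0) (Units.ext hrp)
      exact congrArg Units.val h1
    have hz1 : z = 1 := by
      apply Subtype.ext
      refine LinearEquiv.ext fun v => ?_
      rw [hra, hr1, one_smul]
      rfl
    have hxu : x * u = u * x := by
      rw [hz1, one_mul] at hzu
      rw [eq_mul_inv_iff_mul_eq] at hzu
      exact hzu.symm
    have hxu' : ∀ v, x.1 (el ζ (LinearEquiv.refl F V) v) = el ζ (LinearEquiv.refl F V) (x.1 v) := fun v => by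
      have h1 := congrArg (fun y : SpecialLinearGroup F (Sp K w V) => y.1 v) hxu
      exact h1
    apply Subtype.ext
    refine LinearEquiv.ext fun v => ?_
    show x.1 (g.1 v) = g.1 (x.1 v)
    rw [hg]
    exact comm_el h x.1 hxu' c v
  -- the order of `f g`
  obtain ⟨m, hm⟩ := hc
  have hgq : g ^ q ^ m = 1 := by
    apply Subtype.ext
    show g.1 ^ q ^ m = 1
    rw [hg, ← elHom_apply, ← map_pow, ← hm, pow_orderOf_eq_one, map_one]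
  have hfq : orderOf (f g) ∣ q ^ m := by
    apply orderOf_dvd_of_pow_eq_one
    rw [← map_pow, hgq, map_one]
  obtain ⟨j, -, hj⟩ := (Nat.dvd_prime_pow hq).1 hfq
  have hj0 : j ≠ 0 := by
    rintro rfl
    rw [pow_zero] at hj
    exact hns (orderOf_eq_one_iff.1 hj)
  -- `f u` is a `p`-element
  have hfu : ∃ k : ℕ, orderOf (f u) = p ^ k := by
    have h1 : orderOf (f u) ∣ p ^ 1 := by
      apply orderOf_dvd_of_pow_eq_one
      rw [pow_one, ← map_pow, hup, map_one]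
    obtain ⟨k, -, hk⟩ := (Nat.dvd_prime_pow h.prime).1 h1
    exact ⟨k, hk⟩
  have hgC : f g ∈ Subgroup.centralizer ({f u} : Set S) := by
    rw [Subgroup.mem_centralizer_singleton_iff, ← map_mul, ← map_mul]
    congr 1
    have h1 : u * g = g * u := key u rfl
    exact h1.symm
  let N : Subgroup ↥(Subgroup.centralizer ({f u} : Set S)) := Subgroup.zpowers ⟨f g, hgC⟩
  have hcen : ∀ s : ↥(Subgroup.centralizer ({f u} : Set S)), s * ⟨f g, hgC⟩ = ⟨f g, hgC⟩ * s := by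
    rintro ⟨s, hs⟩
    apply Subtype.ext
    show s * f g = f g * s
    obtain ⟨x, rfl⟩ := hf s
    rw [Subgroup.mem_centralizer_singleton_iff] at hs
    rw [← map_mul, ← map_mul, key x hs]
  have hN : N.Normal := by
    refine ⟨fun n hn s => ?_⟩
    obtain ⟨i, rfl⟩ := hn
    have h1 : s * ((⟨f g, hgC⟩ : ↥(Subgroup.centralizer ({f u} : Set S))) ^ i) * s⁻¹ = (⟨f g, hgC⟩) ^ i := by
      have h2 : Commute s ((⟨f g, hgC⟩ : ↥(Subgroup.centralizer ({f u} : Set S))) ^ i) := (show Commute s _ from hcen s).zpow_right i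
      rw [h2.eq, mul_inv_cancel_right]
    show s * ((⟨f g, hgC⟩ : ↥(Subgroup.centralizer ({f u} : Set S))) ^ i) * s⁻¹ ∈ N
    rw [h1]
    exact Subgroup.zpow_mem _ (Subgroup.mem_zpowers _) i
  have hNc : Nat.card N = q ^ j := by
    rw [Nat.card_zpowers, Subgroup.orderOf_mk, hj]
  have h1 : ¬ p ∣ Nat.card N := by
    rw [hNc]
    intro h2
    exact hpq ((Nat.prime_dvd_prime_iff_eq h.prime hq).1 (h.prime.dvd_of_dvd_pow h2))
  have h2 := Cfsg.Agent.H990.PQ.Same.core_elem h.prime hq hpq hS hfu N h1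
  apply h2
  rw [hNc]
  exact dvd_pow_self q hj0

end Cfsg.Agent.H417.PSLD
end

-- part: H975/PQL/Red
section
/-!
# S4612, row of `PSL_n`, [D8] the reduction (helper975)

`pq_red` : `PQ p q (SL(K ^ w × V)) → PQ p q (SL(V))`.
-/

set_option autoImplicit false
set_option linter.unusedSectionVars false
set_option linter.unusedVariables false

open Cfsg Module MulAction

namespace Cfsg.Agent.H975.PQL

open Cfsg.Agent.H317.PQ Cfsg.Agent.H329.PQ Cfsg.Agent.H358.A3 Cfsg.Agent.H355.PQ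

universe u v

variable {F : Type u} [Field F] {K : Type u} [Field K] [Algebra F K] {V : Type v} [AddCommGroup V] [Module F V]
  {p e w : ℕ} {ζ : Kˣ}

theorem coe_pow_SL {W : Type*} [AddCommGroup W] [Module F W] (g : SpecialLinearGroup F W) (n : ℕ) :
    (g ^ n).1 = g.1 ^ n := by
  induction n with
  | zero => rfl
  | succ n ih =>
    rw [pow_succ, pow_succ, ← ih]
    rfl

theorem el_mul (c d : Kˣ) (A B : V ≃ₗ[F] V) :
    (el (c * d) (A * B) : Sp K w V ≃ₗ[F] Sp K w V) = el c A * el d B := by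
  ext1 v
  rw [LinearEquiv.mul_apply, el_apply, el_apply, el_apply]
  refine Prod.ext ?_ rfl
  funext i
  show (((c * d : Kˣ) : K)) * v.1 i = (c : K) * ((d : K) * v.1 i)
  rw [Units.val_mul, mul_assoc]

theorem el_one_one : (el (1 : Kˣ) (1 : V ≃ₗ[F] V) : Sp K w V ≃ₗ[F] Sp K w V) = 1 := by
  ext1 v
  rw [el_apply]
  refine Prod.ext ?_ rfl
  funext i
  show ((1 : Kˣ) : K) * v.1 i = v.1 i
  rw [Units.val_one, one_mul]

/-- `el` as a homomorphism in the first argument. -/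
theorem el_pow (c : Kˣ) (n : ℕ) : (el c (1 : V ≃ₗ[F] V) : Sp K w V ≃ₗ[F] Sp K w V) ^ n = el (c ^ n) 1 := by
  induction n with
  | zero => rw [pow_zero, pow_zero, el_one_one]
  | succ n ih => rw [pow_succ, ih, pow_succ, ← el_mul, mul_one]

theorem det_el_one [FiniteDimensional F V] [FiniteDimensional F K] (A : V ≃ₗ[F] V) :
    LinearEquiv.det (el (1 : Kˣ) A : Sp K w V ≃ₗ[F] Sp K w V) = LinearEquiv.det A := by
  apply Units.ext
  rw [LinearEquiv.coe_det, LinearEquiv.coe_det]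
  have h1 : ((el (1 : Kˣ) A : Sp K w V ≃ₗ[F] Sp K w V) : Sp K w V →ₗ[F] Sp K w V) =
      (LinearMap.id : (Fin w → K) →ₗ[F] (Fin w → K)).prodMap (A : V →ₗ[F] V) := by
    refine LinearMap.ext fun v => ?_
    show el (1 : Kˣ) A v = (v.1, A v.2)
    rw [el_apply]
    refine Prod.ext ?_ rfl
    funext i
    show ((1 : Kˣ) : K) * v.1 i = v.1 i
    rw [Units.val_one, one_mul]
  rw [h1, LinearMap.det_prodMap, LinearMap.det_id, one_mul]

theorem det_el_zeta (h : Dat F K p e ζ) (he : 2 ≤ e) :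
    LinearEquiv.det (el ζ (1 : V ≃ₗ[F] V) : Sp K w V ≃ₗ[F] Sp K w V) = 1 := by
  have hF := h.finF
  have hζ : ζ ^ p = 1 := by rw [← h.ord, pow_orderOf_eq_one]
  have h1 : LinearEquiv.det (el ζ (1 : V ≃ₗ[F] V) : Sp K w V ≃ₗ[F] Sp K w V) ^ p = 1 := by
    rw [← map_pow, el_pow, hζ, el_one_one, map_one]
  have h2 : LinearEquiv.det (el ζ (1 : V ≃ₗ[F] V) : Sp K w V ≃ₗ[F] Sp K w V) ^ (Nat.card F - 1) = 1 := by
    rw [← Nat.card_units F]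
    exact pow_card_eq_one'
  have h3 : ¬ p ∣ Nat.card F - 1 := by
    intro hd
    have h4 : p ∣ Nat.card F ^ 1 - 1 := by rwa [pow_one]
    have := Nat.le_of_dvd one_pos ((h.min 1).1 h4)
    omega
  have h5 : Nat.Coprime p (Nat.card F - 1) := (Nat.Prime.coprime_iff_not_dvd h.prime).2 h3
  exact orderOf_eq_one_iff.1 (Nat.eq_one_of_dvd_coprimes h5 (orderOf_dvd_of_pow_eq_one h1) (orderOf_dvd_of_pow_eq_one h2))

/-- the element `u = el ζ 1`. -/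
noncomputable def uu (h : Dat F K p e ζ) (he : 2 ≤ e) (w : ℕ) (V : Type v) [AddCommGroup V] [Module F V] :
    SpecialLinearGroup F (Sp K w V) := ⟨el ζ 1, det_el_zeta h he⟩

theorem uu_apply (h : Dat F K p e ζ) (he : 2 ≤ e) (v : Sp K w V) : (uu h he w V).1 v = (fun i => (ζ : K) * v.1 i, v.2) :=
  el_apply _ _ _

theorem zeta_ne (h : Dat F K p e ζ) : (ζ : K) - 1 ≠ 0 := by
  intro h0
  have h1 : ζ = 1 := Units.ext (by rw [Units.val_one]; exact sub_eq_zero.1 h0)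
  have h2 := h.ord
  rw [h1, orderOf_one] at h2
  exact h.prime.one_lt.ne h2

/-- commuting with `u`: the second factor is preserved. -/
theorem fst_zero (h : Dat F K p e ζ) (he : 2 ≤ e) {g : SpecialLinearGroup F (Sp K w V)}
    (hg : uu h he w V * g = g * uu h he w V) (y : V) : (g.1 ((0, y) : Sp K w V)).1 = 0 := by
  have h1 : (uu h he w V).1 (g.1 ((0, y) : Sp K w V)) = g.1 ((uu h he w V).1 ((0, y) : Sp K w V)) := by
    have := congrArg (fun z : SpecialLinearGroup F (Sp K w V) => z.1 ((0, y) : Sp K w V)) hg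
    exact this
  have h2 : (uu h he w V).1 ((0, y) : Sp K w V) = (0, y) := by
    rw [uu_apply]
    refine Prod.ext ?_ rfl
    funext i
    exact mul_zero _
  rw [h2, uu_apply] at h1
  have h3 := congrArg Prod.fst h1
  funext i
  have h4 := congrFun h3 i
  have h5 : ((ζ : K) - 1) * (g.1 ((0, y) : Sp K w V)).1 i = 0 := by
    rw [sub_mul, one_mul]
    exact sub_eq_zero.2 h4
  rcases mul_eq_zero.1 h5 with h6 | h6
  · exact absurd h6 (zeta_ne h)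
  · exact h6

/-- commuting with `u`: the first factor is preserved. -/
theorem snd_zero (h : Dat F K p e ζ) (he : 2 ≤ e) {g : SpecialLinearGroup F (Sp K w V)}
    (hg : uu h he w V * g = g * uu h he w V) (x : Fin w → K) : (g.1 ((x, 0) : Sp K w V)).2 = 0 := by
  have hz := zeta_ne h
  -- `(x, 0) = (u - 1) (x', 0)`
  set x' : Fin w → K := fun i => ((ζ : K) - 1)⁻¹ * x i with hx'
  have h1 : ((x, 0) : Sp K w V) = (uu h he w V).1 ((x', 0) : Sp K w V) - (x', 0) := by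
    rw [uu_apply]
    refine Prod.ext ?_ ?_
    · funext i
      show x i = (ζ : K) * (((ζ : K) - 1)⁻¹ * x i) - ((ζ : K) - 1)⁻¹ * x i
      field_simp
    · show (0 : V) = 0 - 0
      rw [sub_zero]
  have h2 : g.1 ((uu h he w V).1 ((x', 0) : Sp K w V)) = (uu h he w V).1 (g.1 ((x', 0) : Sp K w V)) := by
    have := congrArg (fun z : SpecialLinearGroup F (Sp K w V) => z.1 ((x', 0) : Sp K w V)) hg
    exact this.symm
  rw [h1, map_sub, h2, uu_apply]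
  show (g.1 ((x', 0) : Sp K w V)).2 - (g.1 ((x', 0) : Sp K w V)).2 = 0
  rw [sub_self]

section Hom

variable [FiniteDimensional F V]

/-- `A ↦ el 1 A` into the centraliser of `u`. -/
noncomputable def phi (h : Dat F K p e ζ) (he : 2 ≤ e) (w : ℕ) (V : Type v) [AddCommGroup V] [Module F V]
    [FiniteDimensional F V] : SpecialLinearGroup F V →* Subgroup.centralizer ({uu h he w V} : Set (SpecialLinearGroup F (Sp K w V))) where
  toFun A := ⟨⟨el 1 A.1, by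
      have := h.finK
      have := h.finF
      have : FiniteDimensional F K := Module.Finite.of_finite
      rw [det_el_one]; exact A.2⟩, by
    rw [Subgroup.mem_centralizer_singleton_iff]
    apply Subtype.ext
    show el 1 A.1 * el ζ 1 = el ζ 1 * el 1 A.1
    rw [← el_mul, ← el_mul, one_mul, mul_one, one_mul, mul_one]⟩
  map_one' := Subtype.ext (Subtype.ext el_one_one)
  map_mul' A B := Subtype.ext (Subtype.ext (by
    show el 1 (A.1 * B.1) = el 1 A.1 * el 1 B.1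
    rw [← el_mul, one_mul]))

theorem phi_apply (h : Dat F K p e ζ) (he : 2 ≤ e) (A : SpecialLinearGroup F V) (v : Sp K w V) :
    (phi h he w V A).1.1 v = (v.1, A.1 v.2) := by
  show el 1 A.1 v = _
  rw [el_apply]
  refine Prod.ext ?_ rfl
  funext i
  show ((1 : Kˣ) : K) * v.1 i = v.1 i
  rw [Units.val_one, one_mul]

theorem phi_injective (h : Dat F K p e ζ) (he : 2 ≤ e) : Function.Injective (phi h he w V) := by
  intro A B hAB
  apply Subtype.ext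
  ext1 y
  have h1 := phi_apply (w := w) h he A ((0, y) : Sp K w V)
  rw [hAB, phi_apply] at h1
  exact (congrArg Prod.snd h1).symm

theorem mem_range_phi (h : Dat F K p e ζ) (he : 2 ≤ e)
    (c : Subgroup.centralizer ({uu h he w V} : Set (SpecialLinearGroup F (Sp K w V)))) :
    c ∈ (phi h he w V).range ↔ ∀ x : Fin w → K, c.1.1 ((x, 0) : Sp K w V) = (x, 0) := by
  constructor
  · rintro ⟨A, rfl⟩ x
    rw [phi_apply]
    exact Prod.ext rfl (map_zero A.1)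
  · intro hc
    have hcomm : uu h he w V * c.1 = c.1 * uu h he w V :=
      (Subgroup.mem_centralizer_singleton_iff.1 c.2).symm
    have hcomm' : uu h he w V * (c⁻¹).1 = (c⁻¹).1 * uu h he w V :=
      (Subgroup.mem_centralizer_singleton_iff.1 (c⁻¹).2).symm
    have hci : ∀ v, (c⁻¹).1.1 (c.1.1 v) = v := by
      intro v
      have h1 : (c⁻¹ * c).1.1 v = v := by rw [inv_mul_cancel]; rfl
      exact h1
    have hci' : ∀ v, c.1.1 ((c⁻¹).1.1 v) = v := by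
      intro v
      have h1 : (c * c⁻¹).1.1 v = v := by rw [mul_inv_cancel]; rfl
      exact h1
    have h2 : ∀ y : V, c.1.1 ((0, y) : Sp K w V) = (0, (c.1.1 ((0, y) : Sp K w V)).2) := fun y =>
      Prod.ext (fst_zero h he hcomm y) rfl
    have h2' : ∀ y : V, (c⁻¹).1.1 ((0, y) : Sp K w V) = (0, ((c⁻¹).1.1 ((0, y) : Sp K w V)).2) := fun y =>
      Prod.ext (fst_zero h he hcomm' y) rfl
    let B : V →ₗ[F] V := (LinearMap.snd F (Fin w → K) V) ∘ₗ (c.1.1 : Sp K w V →ₗ[F] Sp K w V) ∘ₗ (LinearMap.inr F (Fin w → K) V)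
    let B' : V →ₗ[F] V := (LinearMap.snd F (Fin w → K) V) ∘ₗ ((c⁻¹).1.1 : Sp K w V →ₗ[F] Sp K w V) ∘ₗ (LinearMap.inr F (Fin w → K) V)
    have hB : ∀ y, B y = (c.1.1 ((0, y) : Sp K w V)).2 := fun y => rfl
    have hB' : ∀ y, B' y = ((c⁻¹).1.1 ((0, y) : Sp K w V)).2 := fun y => rfl
    let A : V ≃ₗ[F] V := LinearEquiv.ofLinearMap B B'
      (LinearMap.ext fun y => by
        show B (B' y) = y
        rw [hB, hB', ← h2', hci'])
      (LinearMap.ext fun y => by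
        show B' (B y) = y
        rw [hB', hB, ← h2, hci])
    have hel : (el 1 A : Sp K w V ≃ₗ[F] Sp K w V) = c.1.1 := by
      ext1 v
      rw [el_apply]
      have h3 : v = ((v.1, 0) : Sp K w V) + (0, v.2) := by
        refine Prod.ext ?_ ?_
        · exact (add_zero _).symm
        · exact (zero_add _).symm
      conv_rhs => rw [h3, map_add, hc, h2]
      refine Prod.ext ?_ ?_
      · funext i
        show ((1 : Kˣ) : K) * v.1 i = v.1 i + 0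
        rw [Units.val_one, one_mul, add_zero]
      · show A v.2 = 0 + (c.1.1 ((0, v.2) : Sp K w V)).2
        rw [zero_add]
        rfl
    have hdet : LinearEquiv.det A = 1 := by
      have := h.finK
      have := h.finF
      have : FiniteDimensional F K := Module.Finite.of_finite
      rw [← det_el_one (K := K) (w := w) A, hel]
      exact c.1.2
    exact ⟨⟨A, hdet⟩, Subtype.ext (Subtype.ext hel)⟩

theorem range_normal (h : Dat F K p e ζ) (he : 2 ≤ e) : (phi h he w V).range.Normal := ⟨fun g hg c => by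
  rw [mem_range_phi] at hg ⊢
  intro x
  have hcomm' : uu h he w V * (c⁻¹).1 = (c⁻¹).1 * uu h he w V :=
    (Subgroup.mem_centralizer_singleton_iff.1 (c⁻¹).2).symm
  have h1 : (c⁻¹).1.1 ((x, 0) : Sp K w V) = (((c⁻¹).1.1 ((x, 0) : Sp K w V)).1, 0) :=
    Prod.ext rfl (snd_zero h he hcomm' x)
  have h2 : (c * g * c⁻¹).1.1 ((x, 0) : Sp K w V) = c.1.1 (g.1.1 ((c⁻¹).1.1 ((x, 0) : Sp K w V))) := rfl
  rw [h2, h1, hg, ← h1]
  have h3 : (c * c⁻¹).1.1 ((x, 0) : Sp K w V) = (x, 0) := by rw [mul_inv_cancel]; rfl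
  exact h3⟩

end Hom

/-- **[D8]** the reduction. -/
theorem pq_red {q : ℕ} [FiniteDimensional F V] (h : Dat F K p e ζ) (he : 2 ≤ e) (hw : 1 ≤ w) (hq : q.Prime)
    (hpq : p ≠ q) (hPQ : PQ p q (SpecialLinearGroup F (Sp K w V))) : PQ p q (SpecialLinearGroup F V) := by
  have hF := h.finF
  have hK := h.finK
  have hV : Finite V := Module.finite_of_finite F
  have hfin : Finite (SpecialLinearGroup F (Sp K w V)) := by
    refine Finite.of_injective (fun g : SpecialLinearGroup F (Sp K w V) => (g.1 : Sp K w V → Sp K w V)) ?_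
    intro a b hab
    exact Subtype.ext (DFunLike.coe_injective hab)
  have hord : ∃ k : ℕ, orderOf (uu h he w V) = p ^ k := by
    have hp := h.prime
    have h1 : (uu h he w V) ^ p = 1 := by
      apply Subtype.ext
      have hζ : ζ ^ p = 1 := by rw [← h.ord, pow_orderOf_eq_one]
      rw [coe_pow_SL]
      show (el ζ 1 : Sp K w V ≃ₗ[F] Sp K w V) ^ p = 1
      rw [el_pow, hζ, el_one_one]
    have h2 := orderOf_dvd_of_pow_eq_one h1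
    rcases (Nat.dvd_prime hp).1 h2 with h3 | h3
    · exact ⟨0, by rw [h3, pow_zero]⟩
    · exact ⟨1, by rw [h3, pow_one]⟩
  have h1 := PQ.centralizer h.prime hq hpq hPQ hord
  have hn := range_normal (w := w) (V := V) h he
  have h2 := PQ.normal h.prime hq hpq h1 (phi h he w V).range
  exact PQ.of_equiv (MonoidHom.ofInjective (phi_injective h he)).symm h2

end Cfsg.Agent.H975.PQL
end

-- part: H355/PQ/FOne
section
/-!
# S4612, the row of `PSL_n`: the characters `χ k` and the principal blocks (helper355)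

* `not_mem_B0` : (F1) `χ k ∉ B0 p` for `1 ≤ k < e`, `k ≠ a + 1` (`n = e w + a`, `a < e`);
* `mem_B0` : (F2) `χ (a + 1) ∈ B0 p` if `a + 1 < e`.
-/

set_option autoImplicit false
set_option linter.unusedSectionVars false

open Cfsg Module

namespace Cfsg.Agent.H355.PQ

open Cfsg.Agent.H317.PQ Cfsg.Agent.H329.PQ Cfsg.Agent.H766.PQ
open Cfsg.Agent.H791.PQL (det_el_eq_one not_dvd_index)
open Cfsg.Agent.H729.PQD0 (mem_B0_comp_iff same_of_surjective)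
open Cfsg.Agent.H423.PQ (chain_of_orbits)
open Cfsg.Agent.H16.PQL (card_orbits_Gr)
open Cfsg.Agent.H29.PQL (card_Gr_lt)
open Cfsg.Agent.H618.PQL (exists_reg)
open Cfsg.Agent.H219.PQL (inv_el exists_inv_el)

section

variable {F : Type} [Field F] [Finite F] {V : Type} [AddCommGroup V] [Module F V] [FiniteDimensional F V]
  {V' : Type} [AddCommGroup V'] [Module F V'] [FiniteDimensional F V']
  {χ : ℕ → IrrCharacter (SpecialLinearGroup F V)}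

theorem index_centralizer_equiv {G H : Type*} [Group G] [Group H] (E : G ≃* H) (g : G) :
    (Subgroup.centralizer ({E g} : Set H)).index = (Subgroup.centralizer ({g} : Set G)).index := by
  have h1 : (Subgroup.centralizer ({E g} : Set H)).comap E.toMonoidHom = Subgroup.centralizer ({g} : Set G) := by
    ext x
    rw [Subgroup.mem_comap, Subgroup.mem_centralizer_singleton_iff, Subgroup.mem_centralizer_singleton_iff]
    change E x * E g = E g * E x ↔ _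
    rw [← map_mul, ← map_mul]
    exact E.injective.eq_iff
  rw [← h1, Subgroup.index_comap_of_surjective _ E.surjective]

/-- a class on which the invariant subspaces are counted: transport to `V` -/
theorem exists_elt (E : V ≃ₗ[F] V') (g : SpecialLinearGroup F V') :
    ∃ g' : SpecialLinearGroup F V, (∀ k, inv k (g'.1 : V →ₗ[F] V) = inv k (g.1 : V' →ₗ[F] V')) ∧
      (∀ k : ℕ, g ^ k = 1 → g' ^ k = 1) ∧
      (Subgroup.centralizer ({g'} : Set (SpecialLinearGroup F V))).index =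
        (Subgroup.centralizer ({g} : Set (SpecialLinearGroup F V'))).index := by
  refine ⟨SpecialLinearGroup.congr_linearEquiv E.symm g, fun k => ?_, fun k hk => ?_, ?_⟩
  · exact inv_conj E.symm k g.1
  · rw [← map_pow, hk, map_one]
  · exact index_centralizer_equiv (SpecialLinearGroup.congr_linearEquiv E.symm) g

theorem finrank_Sp {K : Type} [Field K] [Algebra F K] {p e : ℕ} {ζ : Kˣ} (h : Dat F K p e ζ) (w : ℕ) :
    finrank F (Sp K w V) = e * w + finrank F V := by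
  have := h.finK
  have : FiniteDimensional F K := Module.Finite.of_finite
  rw [finrank_prod, finrank_pi_fintype]
  simp only [h.deg, mul_comm, _root_.Finset.sum_const, _root_.Finset.card_univ, _root_.Fintype.card_fin, _root_.smul_eq_mul, _root_.Nat.add_left_cancel_iff]

/-- **(F1)** -/
theorem not_mem_B0 {p e w a : ℕ} (hp : p.Prime) (hpF : ¬ p ∣ Nat.card F) (he2 : 2 ≤ e)
    (he : ∀ d : ℕ, p ∣ Nat.card F ^ d - 1 ↔ e ∣ d) (hn : finrank F V = e * w + a) (ha : a < e) (hχ : Chain F V χ)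
    {k : ℕ} (h1 : 1 ≤ k) (hk : k < e) (h2 : 2 * k ≤ finrank F V) (hka : k ≠ a + 1) :
    χ k ∉ B0 p (SpecialLinearGroup F V) := by
  intro hmem
  obtain ⟨K, _, _, ζ, h⟩ := exists_dat F hp (by omega) he
  have := h.finK
  have : FiniteDimensional F K := Module.Finite.of_finite
  obtain ⟨r, hr⟩ := CharP.exists F
  obtain ⟨J, hJ1, hJ2, hJ3⟩ := exists_reg F (r := r) a
  have hfin : finrank F V = finrank F (Sp K w (Fin a → F)) := by
    rw [finrank_Sp h, finrank_fin_fun, hn]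
  obtain ⟨g, hg1, -, hg3⟩ := exists_elt (LinearEquiv.ofFinrankEq V (Sp K w (Fin a → F)) hfin)
    ⟨el ζ J, det_el_eq_one h he2 hJ2⟩
  have hinv : ∀ j, j < e → inv j (g.1 : V →ₗ[F] V) = if j ≤ a then 1 else 0 := by
    intro j hj
    rw [hg1]
    change inv j ((el ζ J : Sp K w (Fin a → F) ≃ₗ[F] Sp K w (Fin a → F)) :
      Sp K w (Fin a → F) →ₗ[F] Sp K w (Fin a → F)) = _
    rw [inv_el h hpF (r := r) J hJ1 hj]
    split_ifs with hja
    · exact hJ3 j hja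
    · exact inv_eq_zero_of_lt _ (by rw [finrank_fin_fun]; omega)
  have hval : (χ k : SpecialLinearGroup F V → ℂ) g = 0 := by
    obtain ⟨j, rfl⟩ : ∃ j, k = j + 1 := ⟨k - 1, by omega⟩
    rw [hχ.succ (by omega), hinv _ hk, hinv _ (by omega)]
    by_cases hja : j + 1 ≤ a
    · rw [if_pos hja, if_pos (by omega)]
      simp
    · rw [if_neg hja, if_neg (by omega)]
      simp
  have hidx : ¬ p ∣ (Subgroup.centralizer ({g} : Set (SpecialLinearGroup F V))).index := by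
    rw [hg3]
    exact not_dvd_index h hpF he2 (by rw [finrank_fin_fun]; exact ha) _ rfl
  have : Finite (SpecialLinearGroup F V) := finite_SL
  have h3 := class_test hp hmem g (d := (charDegree (χ k : SpecialLinearGroup F V → ℂ) : ℤ)) (v := 0)
    (c := ((Subgroup.centralizer ({g} : Set (SpecialLinearGroup F V))).index : ℤ)) (by
      rw [Blocks.Basic.irr_one_eq_charDegree (χ k).2]; simp) (by rw [hval]; simp) (by ring)
  exact hidx (by exact_mod_cast h3)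

/-- **(F2)** -/
theorem mem_B0 {p e w a : ℕ} (hp : p.Prime) (hpF : ¬ p ∣ Nat.card F) (he : ∀ d : ℕ, p ∣ Nat.card F ^ d - 1 ↔ e ∣ d)
    (hn : finrank F V = e * w + a) (ha : a + 1 < e) (h2 : 2 * (a + 1) ≤ finrank F V) (hχ : Chain F V χ) :
    χ (a + 1) ∈ B0 p (SpecialLinearGroup F V) := by
  classical
  by_contra hmem
  obtain ⟨K, _, _, ζ, h⟩ := exists_dat F hp (by omega) he
  have := h.finK
  have : FiniteDimensional F K := Module.Finite.of_finite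
  obtain ⟨r, hr⟩ := CharP.exists F
  have hfin : finrank F V = finrank F (Sp K w (Fin a → F)) := by
    rw [finrank_Sp h, finrank_fin_fun, hn]
  have hel : ∀ m : ℕ, (el (w := w) ζ (LinearEquiv.refl F (Fin a → F))) ^ m = el (ζ ^ m) (LinearEquiv.refl F _) := by
    intro m
    induction m with
    | zero =>
      rw [pow_zero, pow_zero]
      apply LinearEquiv.ext
      intro v
      rw [el_apply]
      simp
    | succ m ih =>
      rw [pow_succ, ih]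
      apply LinearEquiv.ext
      intro v
      change el (ζ ^ m) (LinearEquiv.refl F _) (el ζ (LinearEquiv.refl F _) v) = _
      rw [el_apply, el_apply, el_apply, pow_succ]
      simp [mul_assoc]
  obtain ⟨g, hg1, hg2, -⟩ := exists_elt (LinearEquiv.ofFinrankEq V (Sp K w (Fin a → F)) hfin)
    ⟨el ζ (LinearEquiv.refl F (Fin a → F)), det_el_eq_one h (by omega) (by simp)⟩
  have hinv : inv (a + 1) (g.1 : V →ₗ[F] V) = 0 := by
    rw [hg1]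
    change inv (a + 1) ((el ζ (LinearEquiv.refl F _) : Sp K w (Fin a → F) ≃ₗ[F] Sp K w (Fin a → F)) :
      Sp K w (Fin a → F) →ₗ[F] Sp K w (Fin a → F)) = _
    rw [inv_el h hpF (r := r) _ ⟨0, by simp; rfl⟩ ha]
    exact inv_eq_zero_of_lt _ (by rw [finrank_fin_fun]; omega)
  have hgp : g ^ p = 1 := by
    apply hg2
    apply Subtype.ext
    change (el ζ (LinearEquiv.refl F (Fin a → F))) ^ p = 1
    rw [hel, ← h.ord, pow_orderOf_eq_one]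
    apply LinearEquiv.ext
    intro v
    rw [el_apply]
    simp
  have : Finite (SpecialLinearGroup F V) := finite_SL
  have hord : ∃ k : ℕ, orderOf g = p ^ k := by
    have h1 := orderOf_dvd_of_pow_eq_one hgp
    rcases (Nat.dvd_prime hp).1 h1 with h1 | h1
    · exact ⟨0, by rw [h1, pow_zero]⟩
    · exact ⟨1, by rw [h1, pow_one]⟩
  let S : Finset (Fin (a + 1 + 1)) := Finset.univ.filter fun i => χ i ∈ B0 p (SpecialLinearGroup F V)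
  have h3 := Cfsg.Agent.H739.PQ.fix_zero hp (hχ.mf h2) S (fun i => by simp [S]) hord (by rw [card_fixedBy_Gr, hinv])
  have hS : S = {0} := by
    ext i
    simp only [S, Finset.mem_filter, Finset.mem_univ, true_and, Finset.mem_singleton]
    constructor
    · intro hi
      by_contra hne
      have hi0 : (i : ℕ) ≠ 0 := fun h => hne (Fin.ext h)
      by_cases hia : (i : ℕ) = a + 1
      · rw [hia] at hi
        exact hmem hi
      · exact not_mem_B0 hp hpF (by omega) he hn (by omega) hχ (by omega) (by omega) (by omega) hia hi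
    · rintro rfl
      have h4 : χ ((0 : Fin (a + 1 + 1)) : ℕ) = ⟨fun _ => 1, Blocks.Basic.isIrrCharacter_one⟩ :=
        Subtype.ext (funext fun g => hχ.zero g)
      rw [h4]
      intro M hM
      have : Fact p.Prime := ⟨hp⟩
      have : M.IsPrime := Blocks.Local.isPrime_of_isPModular hM
      exact Blocks.PrincipalSection.one_mem_principalBlock
  rw [hS, Finset.sum_singleton] at h3
  rw [show χ ((0 : Fin (a + 1 + 1)) : ℕ) = χ 0 from rfl, hχ.zero] at h3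
  exact one_ne_zero h3

end

end Cfsg.Agent.H355.PQ
end

-- part: H355/PQ/CoreUse
section
/-!
# S4612, the row of `PSL_n`: the core test applied (helper355)

* `not_dvd_of_same` : the order of `|F|` modulo `q` does not divide the order modulo `p`;
* `core_two` : `q = 2`, `|F| ≡ 3` modulo 4, `e` even.
-/

set_option autoImplicit false
set_option linter.unusedSectionVars false

open Cfsg Module

namespace Cfsg.Agent.H355.PQ

open Cfsg.Agent.H317.PQ Cfsg.Agent.H329.PQ Cfsg.Agent.H766.PQ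
open Cfsg.Agent.H417.PSLD (core_el)

section

variable {F : Type} [Field F] [Finite F]

/-- the determinant of `(x, y) ↦ (c x, y)` as a homomorphism -/
noncomputable def delta (F K : Type) [Field F] [Field K] [Algebra F K] (w : ℕ) (V : Type) [AddCommGroup V]
    [Module F V] : Kˣ →* Fˣ where
  toFun c := LinearEquiv.det (el c (LinearEquiv.refl F V) : Sp K w V ≃ₗ[F] Sp K w V)
  map_one' := by
    have : (el 1 (LinearEquiv.refl F V) : Sp K w V ≃ₗ[F] Sp K w V) = 1 := by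
      apply LinearEquiv.ext
      intro v
      rw [el_apply]
      simp only [_root_.Units.val_one, _root_.one_mul, _root_.LinearEquiv.refl_apply, _root_.Prod.mk.eta, _root_.LinearEquiv.coe_one, _root_.id_eq]
    rw [this, map_one]
  map_mul' c d := by
    have : (el (c * d) (LinearEquiv.refl F V) : Sp K w V ≃ₗ[F] Sp K w V) =
        el c (LinearEquiv.refl F V) * el d (LinearEquiv.refl F V) := by
      apply LinearEquiv.ext
      intro v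
      change _ = el c (LinearEquiv.refl F V) (el d (LinearEquiv.refl F V) v)
      rw [el_apply, el_apply, el_apply]
      simp [mul_assoc]
    rw [this, map_mul]

theorem core_psl {n p q e : ℕ} (hq : q.Prime) (hpq : p ≠ q) (he2 : 2 ≤ e) (hen : e ≤ n)
    {K : Type} [Field K] [Algebra F K] {ζ : Kˣ} (h : Dat F K p e ζ) (c : Kˣ) (hc : ∃ m : ℕ, orderOf c = q ^ m)
    (hnd : ¬ orderOf c ∣ Nat.card F - 1) (hdet : delta F K 1 (Fin (n - e) → F) c = 1) :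
    ¬ Same p q (Matrix.ProjectiveSpecialLinearGroup (Fin n) F) := by
  have := h.finK
  have : FiniteDimensional F K := Module.Finite.of_finite
  have hfin : finrank F (Sp K 1 (Fin (n - e) → F)) = n := by
    rw [finrank_Sp h, finrank_fin_fun]
    omega
  refine core_el h he2 hq hpq (toPSL_surjective hfin) (ker_toPSL hfin) c hc
    ⟨el c (LinearEquiv.refl F (Fin (n - e) → F)), hdet⟩ rfl ?_
  intro h1
  have : Nontrivial (Sp K 1 (Fin (n - e) → F)) :=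
    Module.nontrivial_of_finrank_pos (R := F) (by rw [hfin]; omega)
  obtain ⟨x, hx⟩ := exists_unit (ker_toPSL hfin h1)
  apply hnd
  have h2 := hx (fun _ => 1, 0)
  have h3 : (c : K) = (x : F) • (1 : K) := by
    have := congrFun (congrArg Prod.fst h2) 0
    simpa [el_apply, Units.smul_def] using this
  have h4 : Units.map (algebraMap F K).toMonoidHom x = c := by
    apply Units.ext
    rw [h3, Algebra.smul_def, mul_one]
    rfl
  rw [← h4]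
  exact (orderOf_map_dvd _ x).trans ((orderOf_dvd_natCard x).trans (by rw [Nat.card_units]))

/-- the order of `|F|` modulo `q` does not divide the order modulo `p` -/
theorem not_dvd_of_same {n p q e f : ℕ} (hp : p.Prime) (hq : q.Prime) (hpq : p ≠ q) (he2 : 2 ≤ e) (hf2 : 2 ≤ f)
    (hen : e ≤ n) (he : ∀ d : ℕ, p ∣ Nat.card F ^ d - 1 ↔ e ∣ d) (hf : ∀ d : ℕ, q ∣ Nat.card F ^ d - 1 ↔ f ∣ d)
    (hS : Same p q (Matrix.ProjectiveSpecialLinearGroup (Fin n) F)) : ¬ f ∣ e := by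
  intro hfe
  obtain ⟨K, _, _, ζ, h⟩ := exists_dat F hp (by omega) he
  have := h.finK
  have : FiniteDimensional F K := Module.Finite.of_finite
  have : Fact q.Prime := ⟨hq⟩
  have hcard : Nat.card Kˣ = Nat.card F ^ e - 1 := by
    rw [Nat.card_units, Module.natCard_eq_pow_finrank (K := F) (V := K), h.deg]
  obtain ⟨c, hc⟩ := exists_prime_orderOf_dvd_card' (G := Kˣ) q (by rw [hcard]; exact (hf e).2 hfe)
  have hnq : ¬ q ∣ Nat.card F - 1 := by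
    intro h1
    have h2 := (hf 1).1 (by rwa [pow_one])
    have := Nat.le_of_dvd one_pos h2
    omega
  refine core_psl hq hpq he2 hen h c ⟨1, by rw [hc, pow_one]⟩ (by rwa [hc]) ?_ hS
  have h1 : delta F K 1 (Fin (n - e) → F) c ^ q = 1 := by
    rw [← map_pow, ← hc, pow_orderOf_eq_one, map_one]
  by_contra h2
  have h3 := orderOf_eq_prime h1 h2
  have h4 := orderOf_dvd_natCard (delta F K 1 (Fin (n - e) → F) c)
  rw [h3, Nat.card_units] at h4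
  exact hnq h4

/-- `q = 2`, `|F| ≡ 3` modulo 4, `e` even -/
theorem core_two {n p e : ℕ} (hp : p.Prime) (hp2 : p ≠ 2) (he2 : 2 ≤ e) (hev : Even e) (hen : e ≤ n)
    (he : ∀ d : ℕ, p ∣ Nat.card F ^ d - 1 ↔ e ∣ d) (hF : Nat.card F % 4 = 3) :
    ¬ Same p 2 (Matrix.ProjectiveSpecialLinearGroup (Fin n) F) := by
  obtain ⟨K, _, _, ζ, h⟩ := exists_dat F hp (by omega) he
  have := h.finK
  have : FiniteDimensional F K := Module.Finite.of_finite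
  have hcard : Nat.card Kˣ = Nat.card F ^ e - 1 := by
    rw [Nat.card_units, Module.natCard_eq_pow_finrank (K := F) (V := K), h.deg]
  have h8 : 8 ∣ Nat.card Kˣ := by
    rw [hcard]
    obtain ⟨j, rfl⟩ := hev
    have e1 : Nat.card F ^ (j + j) = (Nat.card F ^ 2) ^ j := by rw [← pow_mul]; congr 1; ring
    rw [e1]
    have h9 : 8 ∣ Nat.card F ^ 2 - 1 := by
      obtain ⟨k, hk⟩ : ∃ k, Nat.card F = 4 * k + 3 := ⟨Nat.card F / 4, by omega⟩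
      rw [hk]
      refine ⟨2 * k ^ 2 + 3 * k + 1, ?_⟩
      have : (4 * k + 3) ^ 2 = 8 * (2 * k ^ 2 + 3 * k + 1) + 1 := by ring
      omega
    exact h9.trans (by simpa only [_root_.one_pow] using Nat.sub_dvd_pow_sub_pow (Nat.card F ^ 2) 1 j)
  obtain ⟨d, hd⟩ := (IsCyclic.exists_ofOrder_eq_natCard (α := Kˣ))
  obtain ⟨t, ht⟩ := h8
  have htpos : t ≠ 0 := by
    rintro rfl
    have := Nat.card_pos (α := Kˣ)
    omega
  have hd8 : orderOf (d ^ t) = 8 := by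
    rw [orderOf_pow_of_dvd htpos (by rw [hd, ht]; exact Dvd.intro_left _ rfl), hd, ht]
    exact Nat.mul_div_cancel _ (Nat.pos_of_ne_zero htpos)
  have hc4 : orderOf ((d ^ t) ^ 2) = 4 := by
    rw [orderOf_pow_of_dvd (by norm_num) (by rw [hd8]; norm_num), hd8]
  have hcF : 4 ∣ Nat.card F - 1 → False := by
    intro h
    omega
  refine core_psl Nat.prime_two hp2 he2 hen h ((d ^ t) ^ 2) ⟨2, by rw [hc4]; norm_num⟩ (by rw [hc4]; exact hcF) ?_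
  rw [map_pow]
  set y := delta F K 1 (Fin (n - e) → F) (d ^ t) with hy
  have h1 : orderOf y ∣ 8 := by
    rw [← hd8]
    exact orderOf_map_dvd _ _
  have h2 : orderOf y ∣ Nat.card F - 1 := by
    rw [← Nat.card_units]
    exact orderOf_dvd_natCard y
  have h3 : orderOf y ∣ Nat.gcd 8 (Nat.card F - 1) := Nat.dvd_gcd h1 h2
  have h4 : Nat.gcd 8 (Nat.card F - 1) = 2 := by
    rw [Nat.gcd_rec]
    have h6 : (Nat.card F - 1) % 8 = 2 ∨ (Nat.card F - 1) % 8 = 6 := by omega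
    rcases h6 with h6 | h6 <;> rw [h6] <;> norm_num
  rw [h4] at h3
  exact orderOf_dvd_iff_pow_eq_one.1 h3

end

end Cfsg.Agent.H355.PQ
end

private theorem dce_94e52390068c : _root_.True := by
  try have : _root_.True := by simp only [_root_.Cfsg.Agent.H417.PSLD.mm.eq_1]
  exact _root_.True.intro
end

-- part: H632/PQ/DiffE6
section
prune_inst 0x431505551776202000005059673007eb7e7000590002b8001e98609460d89ef62c9422f60aea0310b52ceb28410750068131001d0424000000e847400011f01a080aede04e7fdab9dee001f80108c01000010088000000000000080000000000401c010000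
set_option linter.all false
open scoped Cfsg.Agent.FastGrp
private noncomputable def lq260e3a7772 {T : Sort _} (f :
    type_of% (@_root_.List.cons.{0}) →
    type_of% (@_root_.List.nil.{0}) →
    type_of% (@_root_.Prod.mk.{0, 0}) →
    type_of% (@_root_.Cfsg.Agent.H632.PQ.Arith.Rs.tr) →
    type_of% (@_root_.Cfsg.Agent.H632.PQ.Arith.Rs.cls) →
    type_of% (@_root_.Cfsg.Agent.H632.PQ.Arith.Rs.co) →
    ((List (List Int)) → (List (List Int))) →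
    type_of% (@_root_.Cfsg.Agent.H632.PQ.Arith.DzC.mk) →
    ((List (List (List Int))) → (List (List (List Int)))) → T) : T :=
  f (@_root_.List.cons.{0}) (@_root_.List.nil.{0}) (@_root_.Prod.mk.{0, 0}) (@_root_.Cfsg.Agent.H632.PQ.Arith.Rs.tr) (@_root_.Cfsg.Agent.H632.PQ.Arith.Rs.cls) (@_root_.Cfsg.Agent.H632.PQ.Arith.Rs.co) (fun x => x) (@_root_.Cfsg.Agent.H632.PQ.Arith.DzC.mk) (fun x => x)

-- part: H632/PQ/TabE6
section
/-!
# The tests for `E₆(q)`, nodes `0` and `1` (helper632, for S4612; made by a program)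
-/

set_option autoImplicit false
set_option maxRecDepth 20000

namespace Cfsg.Agent.H632.PQ.E6a

open Cfsg.Agent.H632.PQ.Arith Cfsg.Agent.H996.PQ

/-- the reasons -/
def tab : Tab 3 := (beta% delta% lq260e3a7772 fun a b d f g h _ _ _ =>
 (a (d 2 (a b<|
 a (a (h 1 (a 1<|a 1<|a 1<|a 1<|a 2<|a 2<|a 2<|a 2<|a 3<|a 2<|a 2<|a 2<|a 2<|a 1<|a 1<|a 1<|a 1<|b) 2 (a (-1)<|b) (a 2<|a 0<|a 2<|a (-2)<|a 2<|a 0<|a 0<|a 0<|a 2<|b))<|b)<|
 a (a (h 1 (a 1<|a 1<|a 1<|a 1<|a 2<|a 2<|a 2<|a 2<|a 3<|a 2<|a 2<|a 2<|a 2<|a 1<|a 1<|a 1<|a 1<|b) 2 (a 1<|b) (a 0<|a 0<|a 2<|a (-2)<|a 2<|a 0<|a 0<|a 0<|a 2<|b))<|b)<|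
 a b<|b))<|
 a (d 3 (a (a (f 2 (a 1<|b) b)<|b)<|
 a (a (f 4 (a (-1)<|b) (a 6<|a (-4)<|a (-2)<|a 6<|a (-2)<|a (-2)<|a 4<|a 0<|a (-2)<|a 2<|b))<|b)<|
 a (a (f 6 (a 1<|b) (a 4<|a (-4)<|a (-2)<|a 4<|a (-4)<|a (-2)<|a 2<|a (-2)<|a (-4)<|a 2<|a (-2)<|a (-2)<|a 0<|a 0<|a (-2)<|b))<|b)<|
 a b<|b))<|
 a (d 4 (a b<|
 a b<|
 a (a (g 2 2 (a 0<|a 1<|b) (a 2<|a 0<|a (-2)<|a 0<|a 2<|a 0<|a (-2)<|a 0<|a 2<|a 0<|a (-2)<|a 1<|a 2<|a (-1)<|a (-1)<|a 1<|a 1<|a (-1)<|a (-1)<|a 1<|a 0<|a (-1)<|b))<|b)<|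
 a (a (g 2 2 (a 0<|a 1<|b) (a 2<|a 0<|a (-2)<|a 0<|a 2<|a 0<|a (-2)<|a 0<|a 2<|a 0<|a (-2)<|a 1<|a 2<|a (-1)<|a (-1)<|a 1<|a 1<|a (-1)<|a (-1)<|a 1<|a 0<|a (-1)<|b))<|b)<|b))<|
 a (d 5 (a b<|
 a (a (g 1 5 (a (-2)<|a 1<|a (-1)<|a 2<|b) (a 5<|a (-5)<|a 0<|a 0<|a 0<|a 5<|a (-5)<|a 0<|a 0<|a 0<|a 3<|a (-2)<|a (-2)<|a 3<|a (-2)<|a 3<|a (-2)<|a (-2)<|a 3<|a (-2)<|a 3<|a (-2)<|b))<|b)<|
 a (a (g 2 5 (a (-3)<|a (-1)<|a 1<|a 3<|b) (a 5<|a (-5)<|a 0<|a 0<|a 0<|a 5<|a (-5)<|a 0<|a 0<|a 0<|a 2<|a (-3)<|a 2<|a (-1)<|a (-1)<|a 4<|a (-1)<|a (-1)<|a (-1)<|a 2<|a 2<|a (-3)<|b))<|b)<|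
 a (a (g 1 5 (a (-2)<|a 1<|a (-1)<|a 2<|b) (a 5<|a (-5)<|a 0<|a 0<|a 0<|a 5<|a (-5)<|a 0<|a 0<|a 0<|a 3<|a (-2)<|a (-2)<|a 3<|a (-2)<|a 3<|a (-2)<|a (-2)<|a 3<|a (-2)<|a 3<|a (-2)<|b))<|b)<|b))<|
 a (d 6 (a (a (f 2 (a 1<|b) b)<|b)<|
 a (a (f 4 (a 1<|b) (a 2<|a 0<|a (-2)<|a (-2)<|a (-2)<|a (-2)<|a 0<|a 0<|a (-2)<|a (-2)<|b))<|b)<|
 a (a (f 2 (a (-1)<|b) (a 4<|a 4<|a 2<|a 0<|a 0<|a 2<|a 6<|a 6<|a 4<|a 2<|a 2<|a 2<|a 4<|a 4<|a 2<|b))<|b)<|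
 a b<|b))<|
 a (d 8 (a b<|
 a (a (g 1 2 (a 0<|a 0<|a 1<|b) (a 2<|a 0<|a 0<|a 0<|a (-2)<|a 0<|a 0<|a 0<|a 2<|a 0<|a 0<|a 0<|a (-1)<|a 0<|a 0<|a 0<|a 1<|a 0<|a 0<|a 0<|a (-1)<|b))<|b)<|
 a (a (g 2 2 (a 0<|a 1<|a 2<|a 1<|b) (a 2<|a 0<|a 0<|a 0<|a (-2)<|a 0<|a 0<|a 0<|a 2<|a 0<|a 0<|a 1<|a 0<|a 1<|a 1<|a 1<|a 1<|a (-1)<|a (-1)<|a (-1)<|a (-2)<|a (-1)<|b))<|b)<|
 a (a (g 1 2 (a 0<|a 0<|a 1<|b) (a 2<|a 0<|a 0<|a 0<|a (-2)<|a 0<|a 0<|a 0<|a 2<|a 0<|a 0<|a 0<|a (-1)<|a 0<|a 0<|a 0<|a 1<|a 0<|a 0<|a 0<|a (-1)<|b))<|b)<|b))<|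
 a (d 9 (a (a (f 2 (a 1<|b) b)<|b)<|
 a (a (f 2 (a 1<|b) (a 0<|a (-2)<|a 0<|a 0<|a 0<|a (-2)<|b))<|b)<|
 a b<|
 a (a (g 1 3 (a 0<|a 0<|a 1<|a 0<|a 0<|a 2<|b) (a 3<|a 0<|a 0<|a (-3)<|a 0<|a 0<|a 0<|a 0<|a 0<|a 3<|a 0<|a 0<|a (-2)<|a 0<|a 0<|a 1<|a 0<|a 0<|a 1<|a 0<|a 0<|a (-2)<|b))<|b)<|b))<|
 a (d 12 (a (a (f 2 (a 1<|b) b)<|b)<|
 a b<|
 a (a (f 2 (a 1<|b) (a 0<|a 0<|a (-2)<|a (-2)<|a (-4)<|a (-4)<|a (-6)<|a (-4)<|a (-6)<|a (-4)<|a (-4)<|a (-2)<|a (-2)<|b))<|b)<|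
 a (a (g 2 2 (a 0<|a (-1)<|a 0<|a 1<|b) (a 2<|a 0<|a 2<|a 0<|a 0<|a 0<|a (-2)<|a 0<|a (-2)<|a 0<|a 0<|a (-1)<|a 2<|a 0<|a 1<|a 1<|a 0<|a 1<|a (-1)<|a 0<|a 0<|a (-1)<|b))<|b)<|b))<|b))

/-- the data -/
def dat : Dat 3 where
  P := FullE6a.pol
  NQ e := (beta% delta% lq260e3a7772 fun a b _ _ _ _ j _ _ =>
 ((a b<|a b<|a b<|a (a 1<|a 0<|a 0<|a 1<|a 1<|a 0<|a 1<|a 1<|a 1<|a 0<|a 1<|a 1<|a 0<|a 0<|a 1<|b)<|a b<|a b<|a (a 1<|a 2<|a 2<|a 1<|a 1<|a 2<|a 3<|a 3<|a 3<|a 2<|a 1<|a 1<|a 2<|a 2<|a 1<|b)<|a b<|a b<|a (a 1<|a 1<|a 1<|a 0<|a 1<|a 1<|a 1<|a 0<|a 1<|a 1<|a 1<|b)<|a b<|a b<|a (a 1<|a 1<|a 2<|a 2<|a 3<|a 3<|a 3<|a 3<|a 3<|a 2<|a 2<|a 1<|a 1<|b)<|b) :type_of% (j _)).getD e b)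
  W c := (beta% delta% lq260e3a7772 fun a b _ _ _ _ j _ _ =>
 ((a (a 1<|b)<|a (a 1<|a 1<|b)<|a (a 0<|a 0<|a 0<|a 1<|b)<|b) :type_of% (j _)).getD c b)
  t c i := (beta% delta% lq260e3a7772 fun a b _ _ _ _ _ _ l =>
 (((a (a (a 2<|b)<|a (a 0<|a 2<|a 0<|a 0<|a 2<|a 2<|a 0<|a 2<|a 2<|a 0<|a 0<|a 2<|b)<|a (a 0<|a 0<|a 2<|a 2<|a 2<|a 2<|a 4<|a 2<|a 4<|a 4<|a 4<|a 2<|a 4<|a 2<|a 2<|a 2<|a 2<|b)<|b)<|
 a (a (a 2<|a 2<|b)<|a (a (-2)<|a 0<|a 2<|a 0<|a 0<|a 2<|a 0<|a 0<|a 2<|a 2<|b)<|a (a 0<|a (-2)<|a (-2)<|a 0<|a 0<|a (-2)<|a 0<|a 0<|a (-2)<|a (-2)<|b)<|b)<|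
 a (a (a 0<|a 0<|a 0<|a 2<|b)<|a (a (-2)<|a 0<|a 0<|a (-2)<|a 0<|a 0<|a (-2)<|b)<|a (a 2<|a 0<|a 0<|a 0<|a 0<|a 0<|a 2<|b)<|b)<|b) :type_of% (l _)).getD c b).getD i b)

theorem dat_ok : dat.Ok := by decide +kernel

theorem kl : ∀ ef ∈ (beta% delta% lq260e3a7772 fun a b d _ _ _ _ _ _ =>
 (a (d 2 9)<|a (d 2 12)<|a (d 3 4)<|a (d 3 5)<|a (d 3 8)<|a (d 3 9)<|a (d 3 12)<|a (d 4 6)<|a (d 4 9)<|a (d 5 6)<|a (d 5 9)<|a (d 5 12)<|a (d 6 8)<|a (d 6 9)<|a (d 6 12)<|a (d 8 9)<|a (d 8 12)<|a (d 9 12)<|b) :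
 List (ℕ × ℕ)), Kl dat tab (ef : ℕ × ℕ).1 ef.2 := by decide +kernel

end Cfsg.Agent.H632.PQ.E6a

namespace Cfsg.Agent.H632.PQ.E6b

open Cfsg.Agent.H632.PQ.Arith Cfsg.Agent.H996.PQ

/-- the reasons -/
def tab : Tab 5 := (beta% delta% lq260e3a7772 fun a b d f g h _ _ _ =>
 (a (d 2 (a (a (f 2 (a 1<|b) b)<|b)<|
 a (a (f 2 (a (-1)<|b) (a 4<|a (-2)<|a 2<|a (-2)<|a 4<|a (-2)<|a 2<|a 0<|a 2<|a (-2)<|a 2<|b))<|b)<|
 a (a (h 1 (a 1<|a 0<|a 1<|a 2<|a 2<|a 2<|a 4<|a 4<|a 4<|a 5<|a 6<|a 5<|a 5<|a 6<|a 5<|a 4<|a 4<|a 4<|a 2<|a 2<|a 2<|a 1<|a 0<|a 1<|b) 8 (a 1<|b) (a 6<|a (-4)<|a 4<|a (-6)<|a 6<|a (-6)<|a 4<|a (-2)<|a 2<|a (-4)<|a 2<|a (-2)<|a 0<|a 0<|a 0<|a (-2)<|b))<|b)<|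
 a (a (h 1 (a 1<|a 0<|a 1<|a 2<|a 2<|a 2<|a 4<|a 4<|a 4<|a 5<|a 6<|a 5<|a 5<|a 6<|a 5<|a 4<|a 4<|a 4<|a 2<|a 2<|a 2<|a 1<|a 0<|a 1<|b) 4 (a 1<|b) (a 4<|a (-4)<|a 2<|a (-2)<|a 2<|a (-6)<|a 4<|a (-2)<|a (-2)<|a (-2)<|a 2<|a (-4)<|a 0<|a 0<|a 0<|a (-2)<|b))<|b)<|
 a b<|
 a (a (f 4 (a (-1)<|b) (a 6<|a (-4)<|a 4<|a (-3)<|a 6<|a (-4)<|a 5<|a 0<|a 3<|a (-2)<|a 6<|a (-1)<|a 1<|a 2<|a 2<|a (-1)<|a 2<|a 1<|a 0<|a 0<|a 1<|b))<|b)<|
 a (a (f 8 (a 1<|b) (a 6<|a (-6)<|a 4<|a (-7)<|a 4<|a (-6)<|a 1<|a (-6)<|a 1<|a (-6)<|a (-2)<|a (-3)<|a (-1)<|a (-4)<|a (-2)<|a (-1)<|a (-2)<|a (-1)<|a 0<|a 0<|a (-1)<|b))<|b)<|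
 a (a (f 4 (a 1<|b) (a 2<|a (-4)<|a 2<|a (-5)<|a 0<|a (-4)<|a (-1)<|a (-6)<|a (-1)<|a (-4)<|a (-4)<|a (-3)<|a (-1)<|a (-4)<|a (-2)<|a (-1)<|a (-2)<|a (-1)<|a 0<|a 0<|a (-1)<|b))<|b)<|
 a (a (f 2 (a (-1)<|b) (a 4<|a (-4)<|a 4<|a (-3)<|a 4<|a (-2)<|a 5<|a (-2)<|a 5<|a 0<|a 4<|a 1<|a 5<|a 0<|a 4<|a 1<|a 2<|a 1<|a 2<|a 0<|a 1<|b))<|b)<|
 a (a (h 1 (a 1<|a 0<|a 1<|a 2<|a 2<|a 2<|a 4<|a 4<|a 4<|a 5<|a 6<|a 5<|a 5<|a 6<|a 5<|a 4<|a 4<|a 4<|a 2<|a 2<|a 2<|a 1<|a 0<|a 1<|b) 8 (a (-1)<|b) (a 8<|a (-6)<|a 7<|a (-7)<|a 6<|a (-4)<|a 4<|a (-4)<|a 5<|a (-3)<|a 0<|a (-1)<|a 3<|a (-2)<|a 0<|a 0<|a 0<|a (-1)<|a 1<|b))<|b)<|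
 a (a (h 1 (a 1<|a 0<|a 1<|a 2<|a 2<|a 2<|a 4<|a 4<|a 4<|a 5<|a 6<|a 5<|a 5<|a 6<|a 5<|a 4<|a 4<|a 4<|a 2<|a 2<|a 2<|a 1<|a 0<|a 1<|b) 4 (a 1<|b) (a 2<|a 0<|a 1<|a (-3)<|a 4<|a (-2)<|a 0<|a 2<|a 1<|a (-3)<|a 2<|a 1<|a (-3)<|a 2<|a 0<|a (-2)<|a 0<|a 1<|a (-1)<|b))<|b)<|
 a (a (f 2 (a 1<|b) (a 0<|a (-2)<|a 0<|a (-3)<|a (-2)<|a (-4)<|a (-3)<|a (-4)<|a (-5)<|a (-4)<|a (-4)<|a (-5)<|a (-5)<|a (-2)<|a (-4)<|a (-3)<|a (-2)<|a (-1)<|a (-2)<|a 0<|a (-1)<|b))<|b)<|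
 a (a (f 4 (a (-1)<|b) (a 6<|a (-6)<|a 6<|a (-4)<|a 6<|a (-4)<|a 8<|a (-2)<|a 6<|a 0<|a 8<|a 0<|a 6<|a 2<|a 6<|a 0<|a 4<|a 2<|a 2<|a 0<|a 2<|b))<|b)<|
 a (a (f 8 (a (-1)<|b) (a 10<|a (-8)<|a 8<|a (-6)<|a 10<|a (-6)<|a 10<|a (-2)<|a 8<|a (-2)<|a 10<|a 0<|a 6<|a 2<|a 6<|a 0<|a 4<|a 2<|a 2<|a 0<|a 2<|b))<|b)<|
 a (a (f 4 (a 1<|b) (a 2<|a (-2)<|a 0<|a (-4)<|a 0<|a (-4)<|a (-4)<|a (-4)<|a (-4)<|a (-6)<|a (-6)<|a (-4)<|a (-6)<|a (-4)<|a (-6)<|a (-2)<|a (-4)<|a (-2)<|a (-2)<|a 0<|a (-2)<|b))<|b)<|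
 a b<|b))<|
 a (d 3 (a (a (f 2 (a 1<|b) b)<|b)<|
 a (a (f 4 (a (-1)<|b) (a 6<|a (-4)<|a (-2)<|a 6<|a (-2)<|a (-2)<|a 4<|a 0<|a (-2)<|a 2<|b))<|b)<|
 a (a (f 6 (a 1<|b) (a 4<|a (-4)<|a (-2)<|a 4<|a (-4)<|a (-2)<|a 2<|a (-2)<|a (-4)<|a 2<|a (-2)<|a (-2)<|a 0<|a 0<|a (-2)<|b))<|b)<|
 a (a (h 1 (a 1<|a 0<|a 0<|a 3<|a 1<|a 0<|a 5<|a 3<|a 0<|a 6<|a 5<|a 0<|a 5<|a 6<|a 0<|a 3<|a 5<|a 0<|a 1<|a 3<|a 0<|a 0<|a 1<|b) 12 (a 1<|a 1<|b) (a 12<|a (-12)<|a (-2)<|a 12<|a (-10)<|a (-6)<|a 10<|a (-4)<|a (-8)<|a 4<|a 0<|a (-6)<|a 0<|a 2<|a (-2)<|a (-2)<|b))<|b)<|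
 a (a (f 4 (a (-1)<|b) (a 6<|a (-6)<|a 0<|a 7<|a (-6)<|a (-1)<|a 8<|a (-4)<|a (-3)<|a 8<|a (-1)<|a (-4)<|a 5<|a 2<|a (-3)<|a 2<|a 2<|a (-1)<|a 0<|a 1<|b))<|b)<|
 a (a (f 10 (a (-1)<|b) (a 12<|a (-10)<|a (-2)<|a 13<|a (-8)<|a (-3)<|a 12<|a (-4)<|a (-5)<|a 10<|a (-1)<|a (-4)<|a 5<|a 2<|a (-3)<|a 2<|a 2<|a (-1)<|a 0<|a 1<|b))<|b)<|
 a b<|
 a (a (f 6 (a (-1)<|b) (a 8<|a (-6)<|a 0<|a 9<|a (-4)<|a (-1)<|a 10<|a (-2)<|a (-1)<|a 8<|a 1<|a (-2)<|a 5<|a 2<|a (-1)<|a 2<|a 2<|a (-1)<|a 0<|a 1<|b))<|b)<|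
 a (a (f 8 (a 1<|b) (a 6<|a (-6)<|a 0<|a 5<|a (-6)<|a (-1)<|a 4<|a (-6)<|a (-1)<|a 2<|a (-5)<|a (-2)<|a 1<|a (-4)<|a (-1)<|a 0<|a (-2)<|a (-1)<|a 0<|a (-1)<|b))<|b)<|
 a (a (f 2 (a 1<|b) (a 0<|a (-2)<|a 2<|a (-1)<|a (-4)<|a 1<|a 0<|a (-6)<|a 1<|a 0<|a (-5)<|a (-2)<|a 1<|a (-4)<|a (-1)<|a 0<|a (-2)<|a (-1)<|a 0<|a (-1)<|b))<|b)<|
 a (a (f 12 (a 1<|b) (a 10<|a (-10)<|a (-2)<|a 9<|a (-10)<|a (-3)<|a 6<|a (-8)<|a (-5)<|a 4<|a (-7)<|a (-4)<|a 1<|a (-4)<|a (-3)<|a 0<|a (-2)<|a (-1)<|a 0<|a (-1)<|b))<|b)<|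
 a (a (f 6 (a 1<|b) (a 4<|a (-6)<|a 0<|a 3<|a (-8)<|a (-1)<|a 2<|a (-8)<|a (-3)<|a 2<|a (-7)<|a (-4)<|a 1<|a (-4)<|a (-3)<|a 0<|a (-2)<|a (-1)<|a 0<|a (-1)<|b))<|b)<|
 a (a (f 2 (a 1<|b) (a 0<|a 0<|a 0<|a (-2)<|a 0<|a 0<|a (-4)<|a (-2)<|a 2<|a (-6)<|a (-4)<|a 2<|a (-4)<|a (-6)<|a 2<|a (-2)<|a (-4)<|a 0<|a 0<|a (-2)<|b))<|b)<|
 a (a (f 4 (a (-1)<|b) (a 6<|a (-4)<|a (-2)<|a 8<|a (-2)<|a (-2)<|a 8<|a 2<|a (-4)<|a 8<|a 4<|a (-2)<|a 4<|a 6<|a (-2)<|a 2<|a 4<|a 0<|a 0<|a 2<|b))<|b)<|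
 a (a (f 6 (a 1<|b) (a 4<|a (-4)<|a (-2)<|a 2<|a (-4)<|a (-2)<|a (-2)<|a (-4)<|a (-2)<|a (-4)<|a (-6)<|a 0<|a (-4)<|a (-6)<|a 0<|a (-2)<|a (-4)<|a 0<|a 0<|a (-2)<|b))<|b)<|
 a b<|b))<|
 a (d 4 (a (a (f 2 (a 1<|b) b)<|b)<|
 a (a (f 6 (a 1<|b) (a 4<|a (-2)<|a (-4)<|a 2<|a 2<|a (-4)<|a (-2)<|a 2<|a 0<|a (-2)<|b))<|b)<|
 a (a (f 2 (a 1<|b) (a 0<|a 0<|a (-2)<|a (-2)<|a 0<|a 0<|a (-4)<|a (-2)<|a 0<|a (-2)<|a (-4)<|a 0<|a 0<|a (-2)<|a (-2)<|b))<|b)<|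
 a (a (f 6 (a 1<|b) (a 4<|a (-2)<|a (-6)<|a 0<|a 2<|a (-4)<|a (-6)<|a 0<|a 0<|a (-4)<|a (-4)<|a 0<|a 0<|a (-2)<|a (-2)<|b))<|b)<|
 a (a (f 4 (a (-1)<|b) (a 6<|a 0<|a (-6)<|a 1<|a 7<|a (-1)<|a (-6)<|a 4<|a 7<|a (-3)<|a (-3)<|a 6<|a 3<|a (-3)<|a 1<|a 4<|a 0<|a (-1)<|a 1<|a 1<|b))<|b)<|
 a b<|
 a (a (f 4 (a (-1)<|b) (a 6<|a 0<|a (-4)<|a 3<|a 7<|a (-1)<|a (-2)<|a 6<|a 7<|a (-1)<|a 1<|a 6<|a 3<|a (-1)<|a 3<|a 4<|a 0<|a (-1)<|a 1<|a 1<|b))<|b)<|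
 a (a (g 2 2 (a 0<|a 1<|b) (a 2<|a 0<|a (-2)<|a 0<|a 2<|a 0<|a (-2)<|a 0<|a 2<|a 0<|a (-2)<|a 1<|a 2<|a (-1)<|a (-1)<|a 1<|a 1<|a (-1)<|a (-1)<|a 1<|a 0<|a (-1)<|b))<|b)<|
 a (a (f 2 (a 1<|b) (a 0<|a 0<|a 0<|a (-1)<|a (-1)<|a (-1)<|a (-2)<|a (-2)<|a (-1)<|a (-3)<|a (-3)<|a (-2)<|a (-3)<|a (-3)<|a (-1)<|a (-2)<|a (-2)<|a (-1)<|a (-1)<|a (-1)<|b))<|b)<|
 a (a (f 6 (a 1<|b) (a 4<|a (-2)<|a (-4)<|a 1<|a 1<|a (-5)<|a (-4)<|a 0<|a (-1)<|a (-5)<|a (-3)<|a (-2)<|a (-3)<|a (-3)<|a (-1)<|a (-2)<|a (-2)<|a (-1)<|a (-1)<|a (-1)<|b))<|b)<|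
 a (a (f 2 (a 1<|b) (a 0<|a 0<|a (-2)<|a (-3)<|a (-1)<|a (-1)<|a (-6)<|a (-4)<|a (-1)<|a (-5)<|a (-7)<|a (-2)<|a (-3)<|a (-5)<|a (-3)<|a (-2)<|a (-2)<|a (-1)<|a (-1)<|a (-1)<|b))<|b)<|
 a (a (f 6 (a 1<|b) (a 4<|a (-2)<|a (-6)<|a (-1)<|a 1<|a (-5)<|a (-8)<|a (-2)<|a (-1)<|a (-7)<|a (-7)<|a (-2)<|a (-3)<|a (-5)<|a (-3)<|a (-2)<|a (-2)<|a (-1)<|a (-1)<|a (-1)<|b))<|b)<|
 a (a (f 4 (a (-1)<|b) (a 6<|a 0<|a (-6)<|a 2<|a 8<|a 0<|a (-4)<|a 6<|a 8<|a 0<|a 0<|a 8<|a 6<|a 0<|a 2<|a 6<|a 2<|a 0<|a 2<|a 2<|b))<|b)<|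
 a (a (g 4 8 (a (-1)<|a 1<|b) (a 8<|a 0<|a (-8)<|a 0<|a 8<|a 0<|a (-8)<|a 0<|a 8<|a (-1)<|a (-7)<|a 1<|a 6<|a (-1)<|a (-5)<|a 2<|a 3<|a (-1)<|a (-2)<|a 1<|a 1<|a (-1)<|b))<|b)<|
 a (a (f 4 (a (-1)<|b) (a 6<|a 0<|a (-4)<|a 4<|a 8<|a 0<|a 0<|a 8<|a 8<|a 2<|a 4<|a 8<|a 6<|a 2<|a 4<|a 6<|a 2<|a 0<|a 2<|a 2<|b))<|b)<|
 a (a (g 2 2 (a 0<|a 1<|b) (a 2<|a 0<|a (-2)<|a 0<|a 2<|a 0<|a (-2)<|a 0<|a 2<|a 0<|a (-2)<|a 1<|a 2<|a (-1)<|a (-1)<|a 1<|a 1<|a (-1)<|a (-1)<|a 1<|a 0<|a (-1)<|b))<|b)<|b))<|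
 a (d 5 (a b<|
 a (a (g 1 5 (a (-2)<|a 1<|a (-1)<|a 2<|b) (a 5<|a (-5)<|a 0<|a 0<|a 0<|a 5<|a (-5)<|a 0<|a 0<|a 0<|a 3<|a (-2)<|a (-2)<|a 3<|a (-2)<|a 3<|a (-2)<|a (-2)<|a 3<|a (-2)<|a 3<|a (-2)<|b))<|b)<|
 a (a (g 2 5 (a (-3)<|a (-1)<|a 1<|a 3<|b) (a 5<|a (-5)<|a 0<|a 0<|a 0<|a 5<|a (-5)<|a 0<|a 0<|a 0<|a 2<|a (-3)<|a 2<|a (-1)<|a (-1)<|a 4<|a (-1)<|a (-1)<|a (-1)<|a 2<|a 2<|a (-3)<|b))<|b)<|
 a (a (g 1 5 (a (-2)<|a 1<|a (-1)<|a 2<|b) (a 5<|a (-5)<|a 0<|a 0<|a 0<|a 5<|a (-5)<|a 0<|a 0<|a 0<|a 3<|a (-2)<|a (-2)<|a 3<|a (-2)<|a 3<|a (-2)<|a (-2)<|a 3<|a (-2)<|a 3<|a (-2)<|b))<|b)<|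
 a b<|
 a (a (g 1 5 (a (-2)<|a 1<|a (-1)<|a 2<|b) (a 5<|a (-5)<|a 0<|a 0<|a 0<|a 5<|a (-5)<|a 0<|a 0<|a 0<|a 3<|a (-2)<|a (-2)<|a 3<|a (-2)<|a 3<|a (-2)<|a (-2)<|a 3<|a (-2)<|a 3<|a (-2)<|b))<|b)<|
 a (a (g 2 5 (a (-3)<|a (-1)<|a 1<|a 3<|b) (a 5<|a (-5)<|a 0<|a 0<|a 0<|a 5<|a (-5)<|a 0<|a 0<|a 0<|a 2<|a (-3)<|a 2<|a (-1)<|a (-1)<|a 4<|a (-1)<|a (-1)<|a (-1)<|a 2<|a 2<|a (-3)<|b))<|b)<|
 a (a (g 1 5 (a (-2)<|a 1<|a (-1)<|a 2<|b) (a 5<|a (-5)<|a 0<|a 0<|a 0<|a 5<|a (-5)<|a 0<|a 0<|a 0<|a 3<|a (-2)<|a (-2)<|a 3<|a (-2)<|a 3<|a (-2)<|a (-2)<|a 3<|a (-2)<|a 3<|a (-2)<|b))<|b)<|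
 a (a (g 4 5 (a 4<|a 3<|a 2<|a 1<|b) (a 5<|a (-5)<|a 0<|a 0<|a 0<|a 5<|a (-5)<|a 0<|a 0<|a 4<|a 4<|a (-6)<|a 3<|a 2<|a 2<|a (-2)<|a (-3)<|a 2<|a (-2)<|a (-1)<|a (-1)<|a (-1)<|b))<|b)<|
 a (a (g 4 5 (a 4<|a 3<|a 2<|a 1<|b) (a 5<|a (-5)<|a 0<|a 0<|a 0<|a 5<|a (-5)<|a 0<|a 0<|a 4<|a 4<|a (-6)<|a 3<|a 2<|a 2<|a (-2)<|a (-3)<|a 2<|a (-2)<|a (-1)<|a (-1)<|a (-1)<|b))<|b)<|
 a (a (g 4 5 (a 4<|a 3<|a 2<|a 1<|b) (a 5<|a (-5)<|a 0<|a 0<|a 0<|a 5<|a (-5)<|a 0<|a 0<|a 4<|a 4<|a (-6)<|a 3<|a 2<|a 2<|a (-2)<|a (-3)<|a 2<|a (-2)<|a (-1)<|a (-1)<|a (-1)<|b))<|b)<|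
 a (a (g 4 5 (a 4<|a 3<|a 2<|a 1<|b) (a 5<|a (-5)<|a 0<|a 0<|a 0<|a 5<|a (-5)<|a 0<|a 0<|a 4<|a 4<|a (-6)<|a 3<|a 2<|a 2<|a (-2)<|a (-3)<|a 2<|a (-2)<|a (-1)<|a (-1)<|a (-1)<|b))<|b)<|
 a (a (g 4 5 (a 4<|a 3<|a 2<|a 1<|b) (a 5<|a (-5)<|a 0<|a 0<|a 0<|a 5<|a (-5)<|a 0<|a 0<|a 4<|a 4<|a (-6)<|a 3<|a 2<|a 2<|a (-2)<|a (-3)<|a 2<|a (-2)<|a (-1)<|a (-1)<|a (-1)<|b))<|b)<|
 a (a (g 4 5 (a 4<|a 3<|a 2<|a 1<|b) (a 5<|a (-5)<|a 0<|a 0<|a 0<|a 5<|a (-5)<|a 0<|a 0<|a 4<|a 4<|a (-6)<|a 3<|a 2<|a 2<|a (-2)<|a (-3)<|a 2<|a (-2)<|a (-1)<|a (-1)<|a (-1)<|b))<|b)<|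
 a (a (g 4 5 (a 4<|a 3<|a 2<|a 1<|b) (a 5<|a (-5)<|a 0<|a 0<|a 0<|a 5<|a (-5)<|a 0<|a 0<|a 4<|a 4<|a (-6)<|a 3<|a 2<|a 2<|a (-2)<|a (-3)<|a 2<|a (-2)<|a (-1)<|a (-1)<|a (-1)<|b))<|b)<|
 a (a (g 4 5 (a 4<|a 3<|a 2<|a 1<|b) (a 5<|a (-5)<|a 0<|a 0<|a 0<|a 5<|a (-5)<|a 0<|a 0<|a 4<|a 4<|a (-6)<|a 3<|a 2<|a 2<|a (-2)<|a (-3)<|a 2<|a (-2)<|a (-1)<|a (-1)<|a (-1)<|b))<|b)<|b))<|
 a (d 6 (a (a (f 2 (a 1<|b) b)<|b)<|
 a (a (f 4 (a 1<|b) (a 2<|a 0<|a (-2)<|a (-2)<|a (-2)<|a (-2)<|a 0<|a 0<|a (-2)<|a (-2)<|b))<|b)<|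
 a (a (f 2 (a (-1)<|b) (a 4<|a 4<|a 2<|a 0<|a 0<|a 2<|a 6<|a 6<|a 4<|a 2<|a 2<|a 2<|a 4<|a 4<|a 2<|b))<|b)<|
 a (a (h 1 (a 1<|a 2<|a 2<|a 3<|a 5<|a 6<|a 7<|a 9<|a 10<|a 10<|a 11<|a 12<|a 11<|a 10<|a 10<|a 9<|a 7<|a 6<|a 5<|a 3<|a 2<|a 2<|a 1<|b) 4 (a (-1)<|a 1<|b) (a 4<|a 4<|a 2<|a (-4)<|a (-6)<|a 2<|a 6<|a 0<|a 0<|a 0<|a (-4)<|a (-2)<|a 4<|a 2<|a (-2)<|a (-2)<|b))<|b)<|
 a b<|
 a (a (f 2 (a 1<|b) (a 0<|a (-2)<|a (-2)<|a (-1)<|a (-2)<|a (-3)<|a (-2)<|a (-4)<|a (-5)<|a (-2)<|a (-1)<|a (-4)<|a (-3)<|a (-2)<|a (-3)<|a (-2)<|a 0<|a (-1)<|a (-2)<|a (-1)<|b))<|b)<|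
 a (a (f 4 (a (-1)<|b) (a 6<|a 6<|a 2<|a (-1)<|a 0<|a 3<|a 8<|a 10<|a 7<|a 2<|a 3<|a 6<|a 7<|a 6<|a 5<|a 2<|a 0<|a 1<|a 2<|a 1<|b))<|b)<|
 a (a (f 2 (a (-1)<|b) (a 4<|a 6<|a 4<|a 1<|a 2<|a 5<|a 8<|a 10<|a 9<|a 4<|a 3<|a 6<|a 7<|a 6<|a 5<|a 2<|a 0<|a 1<|a 2<|a 1<|b))<|b)<|
 a (a (f 4 (a 1<|b) (a 2<|a 2<|a 0<|a (-3)<|a (-4)<|a (-3)<|a (-2)<|a (-2)<|a (-3)<|a (-6)<|a (-7)<|a (-6)<|a (-5)<|a (-4)<|a (-3)<|a (-4)<|a (-4)<|a (-3)<|a (-2)<|a (-1)<|b))<|b)<|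
 a (a (f 6 (a 1<|b) (a 4<|a 2<|a (-2)<|a (-5)<|a (-6)<|a (-5)<|a (-2)<|a (-2)<|a (-5)<|a (-8)<|a (-7)<|a (-6)<|a (-5)<|a (-4)<|a (-3)<|a (-4)<|a (-4)<|a (-3)<|a (-2)<|a (-1)<|b))<|b)<|
 a (a (h 2 (a 0<|a 0<|a 1<|a 2<|a 2<|a 3<|a 5<|a 6<|a 7<|a 9<|a 10<|a 10<|a 11<|a 12<|a 11<|a 10<|a 10<|a 9<|a 7<|a 6<|a 5<|a 3<|a 2<|a 2<|a 1<|b) 4 (a 0<|a 1<|b) (a 4<|a 2<|a (-1)<|a (-3)<|a (-3)<|a 0<|a 5<|a 3<|a (-1)<|a 0<|a 2<|a 1<|a 3<|a 3<|a 0<|a (-1)<|a 1<|a 1<|b))<|b)<|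
 a (a (f 2 (a 1<|b) (a 0<|a (-2)<|a (-4)<|a (-5)<|a (-6)<|a (-7)<|a (-8)<|a (-8)<|a (-9)<|a (-10)<|a (-9)<|a (-8)<|a (-9)<|a (-8)<|a (-5)<|a (-4)<|a (-4)<|a (-3)<|a (-2)<|a (-1)<|b))<|b)<|
 a (a (f 2 (a 1<|b) (a 0<|a 0<|a 0<|a (-2)<|a (-4)<|a (-4)<|a (-4)<|a (-6)<|a (-6)<|a (-6)<|a (-8)<|a (-10)<|a (-8)<|a (-6)<|a (-6)<|a (-6)<|a (-4)<|a (-4)<|a (-4)<|a (-2)<|b))<|b)<|
 a (a (f 4 (a 1<|b) (a 2<|a 0<|a (-2)<|a (-4)<|a (-6)<|a (-6)<|a (-4)<|a (-6)<|a (-8)<|a (-8)<|a (-8)<|a (-10)<|a (-8)<|a (-6)<|a (-6)<|a (-6)<|a (-4)<|a (-4)<|a (-4)<|a (-2)<|b))<|b)<|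
 a (a (f 2 (a (-1)<|b) (a 4<|a 4<|a 2<|a 2<|a 4<|a 6<|a 10<|a 12<|a 10<|a 8<|a 10<|a 12<|a 12<|a 10<|a 8<|a 6<|a 4<|a 4<|a 4<|a 2<|b))<|b)<|
 a b<|b))<|
 a (d 8 (a (a (f 2 (a 1<|b) b)<|b)<|
 a (a (f 2 (a 1<|b) (a 0<|a (-2)<|a 0<|a 0<|a (-2)<|a 0<|a 0<|a (-2)<|b))<|b)<|
 a (a (f 2 (a 1<|b) (a 0<|a 0<|a (-2)<|a (-2)<|a (-2)<|a (-2)<|a (-2)<|a 0<|a (-2)<|a (-2)<|a (-2)<|a (-2)<|a (-2)<|b))<|b)<|
 a (a (f 2 (a 1<|b) (a 0<|a (-2)<|a (-2)<|a (-2)<|a (-4)<|a (-2)<|a (-2)<|a (-2)<|a (-2)<|a (-2)<|a (-2)<|a (-2)<|a (-2)<|b))<|b)<|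
 a (a (f 2 (a 1<|b) (a 0<|a 0<|a 0<|a (-1)<|a (-1)<|a 0<|a (-1)<|a (-2)<|a 0<|a (-1)<|a (-3)<|a (-1)<|a 0<|a (-2)<|a (-1)<|a 0<|a (-1)<|a (-1)<|b))<|b)<|
 a (a (f 2 (a 1<|b) (a 0<|a (-2)<|a 0<|a (-1)<|a (-3)<|a 0<|a (-1)<|a (-4)<|a 0<|a (-1)<|a (-3)<|a (-1)<|a 0<|a (-2)<|a (-1)<|a 0<|a (-1)<|a (-1)<|b))<|b)<|
 a (a (f 2 (a 1<|b) (a 0<|a 0<|a (-2)<|a (-3)<|a (-3)<|a (-2)<|a (-3)<|a (-2)<|a (-2)<|a (-3)<|a (-5)<|a (-3)<|a (-2)<|a (-2)<|a (-1)<|a 0<|a (-1)<|a (-1)<|b))<|b)<|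
 a (a (f 2 (a 1<|b) (a 0<|a (-2)<|a (-2)<|a (-3)<|a (-5)<|a (-2)<|a (-3)<|a (-4)<|a (-2)<|a (-3)<|a (-5)<|a (-3)<|a (-2)<|a (-2)<|a (-1)<|a 0<|a (-1)<|a (-1)<|b))<|b)<|
 a b<|
 a (a (g 1 2 (a 0<|a 0<|a 1<|b) (a 2<|a 0<|a 0<|a 0<|a (-2)<|a 0<|a 0<|a 0<|a 2<|a 0<|a 0<|a 0<|a (-1)<|a 0<|a 0<|a 0<|a 1<|a 0<|a 0<|a 0<|a (-1)<|b))<|b)<|
 a (a (g 2 2 (a 0<|a 1<|a 2<|a 1<|b) (a 2<|a 0<|a 0<|a 0<|a (-2)<|a 0<|a 0<|a 0<|a 2<|a 0<|a 0<|a 1<|a 0<|a 1<|a 1<|a 1<|a 1<|a (-1)<|a (-1)<|a (-1)<|a (-2)<|a (-1)<|b))<|b)<|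
 a (a (g 1 2 (a 0<|a 0<|a 1<|b) (a 2<|a 0<|a 0<|a 0<|a (-2)<|a 0<|a 0<|a 0<|a 2<|a 0<|a 0<|a 0<|a (-1)<|a 0<|a 0<|a 0<|a 1<|a 0<|a 0<|a 0<|a (-1)<|b))<|b)<|
 a (a (g 3 4 (a 1<|a 0<|a 0<|a (-1)<|b) (a 4<|a 0<|a 0<|a 0<|a (-4)<|a 0<|a 0<|a 0<|a 4<|a (-1)<|a 2<|a 0<|a (-2)<|a 0<|a (-2)<|a 0<|a 0<|a 0<|a 0<|a 0<|a 0<|a 1<|b))<|b)<|
 a (a (g 1 2 (a 0<|a 0<|a 1<|b) (a 2<|a 0<|a 0<|a 0<|a (-2)<|a 0<|a 0<|a 0<|a 2<|a 0<|a 0<|a 0<|a (-1)<|a 0<|a 0<|a 0<|a 1<|a 0<|a 0<|a 0<|a (-1)<|b))<|b)<|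
 a (a (g 3 4 (a 1<|a 0<|a 0<|a (-1)<|b) (a 4<|a 0<|a 0<|a 0<|a (-4)<|a 0<|a 0<|a 0<|a 4<|a (-1)<|a 2<|a 0<|a (-2)<|a 0<|a (-2)<|a 0<|a 0<|a 0<|a 0<|a 0<|a 0<|a 1<|b))<|b)<|
 a (a (g 1 2 (a 0<|a 0<|a 1<|b) (a 2<|a 0<|a 0<|a 0<|a (-2)<|a 0<|a 0<|a 0<|a 2<|a 0<|a 0<|a 0<|a (-1)<|a 0<|a 0<|a 0<|a 1<|a 0<|a 0<|a 0<|a (-1)<|b))<|b)<|b))<|
 a (d 9 (a (a (f 2 (a 1<|b) b)<|b)<|
 a (a (f 2 (a 1<|b) (a 0<|a (-2)<|a 0<|a 0<|a 0<|a (-2)<|b))<|b)<|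
 a b<|
 a (a (g 1 3 (a 0<|a 0<|a 1<|a 0<|a 0<|a 2<|b) (a 3<|a 0<|a 0<|a (-3)<|a 0<|a 0<|a 0<|a 0<|a 0<|a 3<|a 0<|a 0<|a (-2)<|a 0<|a 0<|a 1<|a 0<|a 0<|a 1<|a 0<|a 0<|a (-2)<|b))<|b)<|
 a (a (f 2 (a 1<|b) (a 0<|a 0<|a 0<|a (-1)<|a (-1)<|a 0<|a 0<|a (-2)<|a (-1)<|a 0<|a (-1)<|a (-2)<|a 0<|a 0<|a (-1)<|a (-1)<|b))<|b)<|
 a (a (f 2 (a 1<|b) (a 0<|a (-2)<|a 0<|a (-1)<|a (-1)<|a (-2)<|a 0<|a (-2)<|a (-1)<|a 0<|a (-1)<|a (-2)<|a 0<|a 0<|a (-1)<|a (-1)<|b))<|b)<|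
 a b<|
 a (a (g 1 3 (a 0<|a 0<|a 1<|a 0<|a 0<|a 2<|b) (a 3<|a 0<|a 0<|a (-3)<|a 0<|a 0<|a 0<|a 0<|a 0<|a 3<|a 0<|a 0<|a (-2)<|a 0<|a 0<|a 1<|a 0<|a 0<|a 1<|a 0<|a 0<|a (-2)<|b))<|b)<|
 a (a (f 2 (a 1<|b) (a 0<|a 0<|a 0<|a (-1)<|a (-1)<|a (-2)<|a (-2)<|a (-2)<|a (-1)<|a (-2)<|a (-1)<|a (-2)<|a (-2)<|a (-2)<|a (-1)<|a (-1)<|b))<|b)<|
 a (a (f 2 (a 1<|b) (a 0<|a (-2)<|a 0<|a (-1)<|a (-1)<|a (-4)<|a (-2)<|a (-2)<|a (-1)<|a (-2)<|a (-1)<|a (-2)<|a (-2)<|a (-2)<|a (-1)<|a (-1)<|b))<|b)<|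
 a (a (g 4 3 (a 2<|a 1<|a (-1)<|a 1<|a (-1)<|a (-2)<|b) (a 3<|a 0<|a 0<|a (-3)<|a 0<|a 0<|a 0<|a 0<|a 0<|a 5<|a 1<|a (-1)<|a (-2)<|a 1<|a (-1)<|a (-5)<|a (-1)<|a 1<|a 1<|a (-1)<|a 1<|a 2<|b))<|b)<|
 a (a (g 1 3 (a 0<|a 0<|a 1<|a 0<|a 0<|a 2<|b) (a 3<|a 0<|a 0<|a (-3)<|a 0<|a 0<|a 0<|a 0<|a 0<|a 3<|a 0<|a 0<|a (-2)<|a 0<|a 0<|a 1<|a 0<|a 0<|a 1<|a 0<|a 0<|a (-2)<|b))<|b)<|
 a (a (f 2 (a 1<|b) (a 0<|a 0<|a 0<|a (-2)<|a (-2)<|a (-2)<|a (-2)<|a (-4)<|a (-2)<|a (-2)<|a (-2)<|a (-4)<|a (-2)<|a (-2)<|a (-2)<|a (-2)<|b))<|b)<|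
 a (a (f 2 (a 1<|b) (a 0<|a (-2)<|a 0<|a (-2)<|a (-2)<|a (-4)<|a (-2)<|a (-4)<|a (-2)<|a (-2)<|a (-2)<|a (-4)<|a (-2)<|a (-2)<|a (-2)<|a (-2)<|b))<|b)<|
 a (a (g 4 3 (a 2<|a 1<|a (-1)<|a 1<|a (-1)<|a (-2)<|b) (a 3<|a 0<|a 0<|a (-3)<|a 0<|a 0<|a 0<|a 0<|a 0<|a 5<|a 1<|a (-1)<|a (-2)<|a 1<|a (-1)<|a (-5)<|a (-1)<|a 1<|a 1<|a (-1)<|a 1<|a 2<|b))<|b)<|
 a (a (g 1 3 (a 0<|a 0<|a 1<|a 0<|a 0<|a 2<|b) (a 3<|a 0<|a 0<|a (-3)<|a 0<|a 0<|a 0<|a 0<|a 0<|a 3<|a 0<|a 0<|a (-2)<|a 0<|a 0<|a 1<|a 0<|a 0<|a 1<|a 0<|a 0<|a (-2)<|b))<|b)<|b))<|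
 a (d 12 (a (a (f 2 (a 1<|b) b)<|b)<|
 a b<|
 a (a (f 2 (a 1<|b) (a 0<|a 0<|a (-2)<|a (-2)<|a (-4)<|a (-4)<|a (-6)<|a (-4)<|a (-6)<|a (-4)<|a (-4)<|a (-2)<|a (-2)<|b))<|b)<|
 a (a (g 2 2 (a 0<|a (-1)<|a 0<|a 1<|b) (a 2<|a 0<|a 2<|a 0<|a 0<|a 0<|a (-2)<|a 0<|a (-2)<|a 0<|a 0<|a (-1)<|a 2<|a 0<|a 1<|a 1<|a 0<|a 1<|a (-1)<|a 0<|a 0<|a (-1)<|b))<|b)<|
 a (a (f 2 (a 1<|b) (a 0<|a 0<|a 0<|a (-1)<|a (-1)<|a (-1)<|a (-2)<|a (-3)<|a (-2)<|a (-3)<|a (-4)<|a (-3)<|a (-2)<|a (-3)<|a (-2)<|a (-1)<|a (-1)<|a (-1)<|b))<|b)<|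
 a (a (g 3 12 (a (-1)<|a (-1)<|a (-1)<|a 2<|b) (a 12<|a 0<|a 12<|a 0<|a 0<|a 0<|a (-12)<|a 0<|a (-12)<|a 1<|a (-1)<|a 0<|a 6<|a 1<|a 5<|a 1<|a 1<|a 0<|a 0<|a (-1)<|a 1<|a (-2)<|b))<|b)<|
 a (a (f 2 (a 1<|b) (a 0<|a 0<|a (-2)<|a (-3)<|a (-5)<|a (-5)<|a (-8)<|a (-7)<|a (-8)<|a (-7)<|a (-8)<|a (-5)<|a (-4)<|a (-3)<|a (-2)<|a (-1)<|a (-1)<|a (-1)<|b))<|b)<|
 a (a (g 2 2 (a 0<|a (-1)<|a 0<|a 1<|b) (a 2<|a 0<|a 2<|a 0<|a 0<|a 0<|a (-2)<|a 0<|a (-2)<|a 0<|a 0<|a (-1)<|a 2<|a 0<|a 1<|a 1<|a 0<|a 1<|a (-1)<|a 0<|a 0<|a (-1)<|b))<|b)<|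
 a (a (f 2 (a 1<|b) (a 0<|a 0<|a 0<|a (-1)<|a (-1)<|a (-3)<|a (-4)<|a (-5)<|a (-6)<|a (-7)<|a (-6)<|a (-7)<|a (-6)<|a (-5)<|a (-4)<|a (-3)<|a (-1)<|a (-1)<|b))<|b)<|
 a (a (g 4 4 (a (-1)<|a (-1)<|a 1<|b) (a 4<|a 0<|a 4<|a 0<|a 0<|a 0<|a (-4)<|a 0<|a (-4)<|a (-1)<|a (-1)<|a 0<|a 2<|a (-1)<|a 3<|a 1<|a 1<|a 0<|a 0<|a 1<|a (-1)<|b))<|b)<|
 a (a (f 2 (a 1<|b) (a 0<|a 0<|a (-2)<|a (-3)<|a (-5)<|a (-7)<|a (-10)<|a (-9)<|a (-12)<|a (-11)<|a (-10)<|a (-9)<|a (-8)<|a (-5)<|a (-4)<|a (-3)<|a (-1)<|a (-1)<|b))<|b)<|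
 a (a (g 4 4 (a (-1)<|a (-1)<|a 1<|b) (a 4<|a 0<|a 4<|a 0<|a 0<|a 0<|a (-4)<|a 0<|a (-4)<|a (-1)<|a (-1)<|a 0<|a 2<|a (-1)<|a 3<|a 1<|a 1<|a 0<|a 0<|a 1<|a (-1)<|b))<|b)<|
 a (a (f 2 (a 1<|b) (a 0<|a 0<|a 0<|a (-2)<|a (-2)<|a (-4)<|a (-6)<|a (-8)<|a (-8)<|a (-10)<|a (-10)<|a (-10)<|a (-8)<|a (-8)<|a (-6)<|a (-4)<|a (-2)<|a (-2)<|b))<|b)<|
 a (a (g 4 4 (a (-1)<|a (-1)<|a 1<|b) (a 4<|a 0<|a 4<|a 0<|a 0<|a 0<|a (-4)<|a 0<|a (-4)<|a (-1)<|a (-1)<|a 0<|a 2<|a (-1)<|a 3<|a 1<|a 1<|a 0<|a 0<|a 1<|a (-1)<|b))<|b)<|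
 a (a (f 2 (a 1<|b) (a 0<|a 0<|a (-2)<|a (-4)<|a (-6)<|a (-8)<|a (-12)<|a (-12)<|a (-14)<|a (-14)<|a (-14)<|a (-12)<|a (-10)<|a (-8)<|a (-6)<|a (-4)<|a (-2)<|a (-2)<|b))<|b)<|
 a (a (g 4 4 (a (-1)<|a (-1)<|a 1<|b) (a 4<|a 0<|a 4<|a 0<|a 0<|a 0<|a (-4)<|a 0<|a (-4)<|a (-1)<|a (-1)<|a 0<|a 2<|a (-1)<|a 3<|a 1<|a 1<|a 0<|a 0<|a 1<|a (-1)<|b))<|b)<|b))<|b))

/-- the data -/
def dat : Dat 5 where
  P := FullE6b.pol
  NQ e := (beta% delta% lq260e3a7772 fun a b _ _ _ _ j _ _ =>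
 ((a b<|a b<|a (a 1<|a 0<|a 1<|a 1<|a 2<|a 1<|a 3<|a 2<|a 3<|a 2<|a 4<|a 2<|a 3<|a 2<|a 3<|a 1<|a 2<|a 1<|a 1<|a 0<|a 1<|b)<|a (a 1<|a 0<|a 0<|a 2<|a 1<|a 0<|a 3<|a 2<|a 0<|a 3<|a 3<|a 0<|a 2<|a 3<|a 0<|a 1<|a 2<|a 0<|a 0<|a 1<|b)<|a (a 1<|a 1<|a 0<|a 1<|a 3<|a 2<|a 1<|a 3<|a 4<|a 2<|a 2<|a 4<|a 3<|a 1<|a 2<|a 3<|a 1<|a 0<|a 1<|a 1<|b)<|a b<|a (a 1<|a 2<|a 2<|a 2<|a 3<|a 4<|a 5<|a 6<|a 6<|a 5<|a 5<|a 6<|a 6<|a 5<|a 4<|a 3<|a 2<|a 2<|a 2<|a 1<|b)<|a b<|a (a 1<|a 1<|a 1<|a 2<|a 2<|a 2<|a 3<|a 3<|a 3<|a 3<|a 3<|a 3<|a 2<|a 2<|a 2<|a 1<|a 1<|a 1<|b)<|a (a 1<|a 1<|a 1<|a 1<|a 2<|a 2<|a 2<|a 2<|a 2<|a 2<|a 2<|a 2<|a 1<|a 1<|a 1<|a 1<|b)<|a b<|a b<|a (a 1<|a 1<|a 2<|a 3<|a 4<|a 5<|a 6<|a 7<|a 7<|a 7<|a 7<|a 6<|a 5<|a 4<|a 3<|a 2<|a 1<|a 1<|b)<|b) :type_of% (j _)).getD e b)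
  W c := (beta% delta% lq260e3a7772 fun a b _ _ _ _ j _ _ =>
 ((a (a 1<|b)<|a (a 1<|a 0<|a 0<|a 1<|b)<|a (a 0<|a 0<|a 1<|a 0<|a 0<|a 1<|b)<|a (a 0<|a 0<|a 0<|a 0<|a 1<|a 0<|a 0<|a 1<|b)<|a (a 0<|a 0<|a 0<|a 0<|a 0<|a 0<|a 0<|a 0<|a 0<|a 1<|b)<|b) :type_of% (j _)).getD c b)
  t c i := (beta% delta% lq260e3a7772 fun a b _ _ _ _ _ _ l =>
 (((a (a (a 2<|b)<|a (a 0<|a 2<|a 0<|a 0<|a 2<|a 2<|a 0<|a 2<|a 2<|a 0<|a 0<|a 2<|b)<|a (a 0<|a 0<|a 2<|a 2<|a 2<|a 2<|a 4<|a 2<|a 4<|a 4<|a 4<|a 2<|a 4<|a 2<|a 2<|a 2<|a 2<|b)<|a (a 0<|a 0<|a 0<|a 1<|a 1<|a 0<|a 1<|a 3<|a 1<|a 1<|a 4<|a 3<|a 0<|a 3<|a 4<|a 1<|a 1<|a 3<|a 1<|a 0<|a 1<|a 1<|b)<|a (a 0<|a 0<|a 0<|a 1<|a 1<|a 2<|a 3<|a 3<|a 3<|a 5<|a 4<|a 5<|a 6<|a 5<|a 4<|a 5<|a 3<|a 3<|a 3<|a 2<|a 1<|a 1<|b)<|b)<|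
 a (a (a 2<|a 0<|a 0<|a 2<|b)<|a (a (-2)<|a 2<|a 2<|a (-2)<|a 0<|a 4<|a 0<|a 0<|a 4<|a 2<|a (-2)<|a 2<|a 2<|b)<|a (a 0<|a (-2)<|a 0<|a 0<|a 0<|a 0<|a 2<|a (-2)<|a 0<|a 2<|a 2<|a 0<|a 2<|a 0<|a 0<|a 2<|a 2<|b)<|a (a 0<|a 0<|a (-1)<|a 0<|a 1<|a (-2)<|a (-2)<|a 2<|a (-1)<|a (-4)<|a 1<|a 1<|a (-4)<|a (-1)<|a 2<|a (-2)<|a (-2)<|a 1<|a 0<|a (-1)<|b)<|a (a 0<|a 0<|a (-1)<|a 0<|a (-1)<|a (-2)<|a 0<|a 0<|a (-3)<|a 0<|a (-1)<|a (-3)<|a 0<|a 1<|a (-2)<|a 0<|a 0<|a (-1)<|a 0<|a 1<|b)<|b)<|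
 a (a (a 0<|a 0<|a 2<|a 0<|a 0<|a 2<|b)<|a (a (-2)<|a 0<|a 0<|a 0<|a (-2)<|a 0<|a 0<|a 0<|a 0<|a 2<|a 0<|a 0<|a 0<|a 2<|b)<|a (a 2<|a (-2)<|a (-2)<|a 0<|a 0<|a (-4)<|a 2<|a (-2)<|a (-4)<|a (-2)<|a 2<|a (-4)<|a 0<|a 0<|a (-2)<|a (-2)<|a 2<|b)<|a (a 0<|a 1<|a 0<|a (-1)<|a 2<|a 2<|a (-2)<|a 1<|a 4<|a (-1)<|a (-1)<|a 4<|a 1<|a (-2)<|a 2<|a 2<|a (-1)<|a 0<|a 1<|b)<|a (a 0<|a 1<|a 0<|a 1<|a 0<|a 0<|a 0<|a 1<|a 0<|a 1<|a (-1)<|a 0<|a (-1)<|a 0<|a 0<|a 0<|a (-1)<|a 0<|a (-1)<|b)<|b)<|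
 a (a (a 0<|a 0<|a 0<|a 0<|a 2<|a 0<|a 0<|a 2<|b)<|a (a 0<|a (-2)<|a (-2)<|a 2<|a (-2)<|a (-4)<|a 0<|a 0<|a (-4)<|a 0<|a 2<|a (-2)<|a (-2)<|a 2<|b)<|a (a 2<|a 2<|a 0<|a 0<|a 2<|a 0<|a 2<|a 2<|a 0<|a (-2)<|a 2<|a 0<|a 0<|a 0<|a 0<|a (-2)<|b)<|a (a (-1)<|a 0<|a 1<|a (-2)<|a (-2)<|a 2<|a (-1)<|a (-4)<|a 1<|a 1<|a (-4)<|a (-1)<|a 2<|a (-2)<|a (-2)<|a 1<|a 0<|a (-1)<|b)<|a (a (-1)<|a 0<|a 1<|a 0<|a 0<|a 2<|a (-1)<|a 0<|a 3<|a 1<|a 0<|a 3<|a 0<|a 0<|a 2<|a 1<|a 0<|a 1<|b)<|b)<|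
 a (a (a 0<|a 0<|a 0<|a 0<|a 0<|a 0<|a 0<|a 0<|a 0<|a 2<|b)<|a (a 0<|a 0<|a 0<|a 0<|a (-2)<|a 0<|a 0<|a (-2)<|a (-2)<|a 0<|a (-2)<|a (-2)<|a 0<|a 0<|a (-2)<|b)<|a (a 0<|a 0<|a 2<|a 2<|a 2<|a 2<|a 4<|a 2<|a 4<|a 4<|a 4<|a 2<|a 4<|a 2<|a 2<|a 2<|a 2<|b)<|a (a 1<|a 1<|a 0<|a 1<|a 3<|a 1<|a 1<|a 4<|a 3<|a 0<|a 3<|a 4<|a 1<|a 1<|a 3<|a 1<|a 0<|a 1<|a 1<|b)<|a (a (-1)<|a (-1)<|a (-2)<|a (-3)<|a (-3)<|a (-3)<|a (-5)<|a (-4)<|a (-5)<|a (-6)<|a (-5)<|a (-4)<|a (-5)<|a (-3)<|a (-3)<|a (-3)<|a (-2)<|a (-1)<|a (-1)<|b)<|b)<|b) :type_of% (l _)).getD c b).getD i b)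

theorem dat_ok : dat.Ok := by decide +kernel

theorem kl : ∀ ef ∈ [(2, 4), (2, 8), (4, 5), (4, 8), (4, 12), (5, 8)], Kl dat tab (ef : ℕ × ℕ).1 ef.2 := by decide +kernel

end Cfsg.Agent.H632.PQ.E6b
end

-- part: H996/PQ/RowTwEX
section
/-!
# The extended separation theorem: `²E₆(q)` (helper996, for S4612; made by a program)
-/

set_option autoImplicit false
set_option maxRecDepth 20000

namespace Cfsg.Agent.H996.PQ.TwE

open Cfsg Cfsg.Agent.H967.Sph Cfsg.Agent.H317.PQ Cfsg.Agent.H64.Dl.Sph Cfsg.Agent.H996.Eight.Cert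
open CoxeterSystem Cfsg.Agent.ChevalleyStructure.CoxeterGeom Cfsg.Agent.Tits.Roots Cfsg.Agent.Tits.Core
  Cfsg.Agent.Nodes.Reps Cfsg.Agent.Nodes.BNOf Cfsg.Agent.Nodes.Bruhat Cfsg.Agent.Nodes.LeviDec
open Cfsg.Lie Cfsg.Agent.H35.ExcIdx Cfsg.Agent.Nodes

universe u

theorem tw_sepX {A' : Fin 4 → Fin 4 → ℤ} (hA : Nodes.RGDTwE6.A = A') {j : Fin 4} {N m : ℕ}
    (Fu : Full A' j N m ![2, 3, 4, 2]) {lam : Fin m → Fin m → List ℤ} (hlam : Fu.Lam lam)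
    (he : ∀ i, Fu.Da.e i = (![1, 1, 2, 2] : Fin 4 → ℕ) i)
    {N' m' : ℕ} (Da' : Data A' 0 N' m') (he' : ∀ i, Da'.e i = (![1, 1, 2, 2] : Fin 4 → ℕ) i)
    (hNL : pEq (pSum Da'.kk) Fu.NL = true)
    (hw : ∀ r, (∀ k, Fu.Z.vec r k = (![2, 3, 4, 2] : Fin 4 → ℤ) k) →
      ∃ w i, Fu.Z.word 64 r = some (w, i) ∧ Fu.Da.e i = 1)
    {K : Type u} [Field K] [Fintype K] {x : ℕ} (hq : IsPrimePow x) (hK : Fintype.card K = x ^ 2)
    {p l : ℕ} (hp : p.Prime) (hl : l.Prime) (hS : Same p l ↥(twistedE6 K x)) : 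
    SepX Fu.P lam x p l (Nat.card ↥(twistedE6 K x)) Fu.i₀ := by
  obtain ⟨r, f, hr, hf, hqf⟩ := (isPrimePow_nat_iff x).1 hq
  have hch : CharP K r := by
    obtain ⟨r', g, hr', hg, hK', hch⟩ := exists_prime_pow' K
    have h1 : r' = r := by
      have h2 : r' ∣ r ^ (f * 2) := by
        rw [pow_mul, hqf, ← hK, hK']
        exact dvd_pow_self _ hg
      exact (Nat.prime_dvd_prime_iff_eq hr' hr).1 (hr'.dvd_of_dvd_pow h2)
    rwa [h1] at hch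
  have : Fact r.Prime := ⟨hr⟩
  obtain ⟨φ, hφ, hqq⟩ := Cfsg.Agent.ChevalleyStructure.TwE6Basic.exists_frob hq hK
  have : Finite ↥(twistedE6 K x) := by
    have : Finite (GL chevE6.Idx K) := by
      have : Finite (Matrix chevE6.Idx chevE6.Idx K) := inferInstance
      infer_instance
    infer_instance
  have D := data_TwE6_2 hr hf.ne' hqf.symm hφ hqq hK
  have := D.fin
  have h2 : 2 ≤ x := hq.two_le
  have hsz : ∀ i, Nat.card (Nodes.RGDTwE6.X φ x (sr i)) = x ^ (![1, 1, 2, 2] : Fin 4 → ℕ) i := by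
    intro i
    rw [D.size i]
    fin_cases i
    · exact (pow_one x).symm
    · exact (pow_one x).symm
    · rfl
    · rfl
  exact sepX_of D.rgd D.gg hA Fu hlam h2 (fun i => by rw [hsz, he]) (H315.PQ.cen_TwE6 _ φ) H315.PQ.hi_TwE6
    (H315.PQ.isRoot_TwE6 _) (card_top D.rgd hA Fu (fun i => by rw [hsz, he]) hw) Da' (fun i => by rw [hsz, he']) hNL
    hp hl hS

end Cfsg.Agent.H996.PQ.TwE

namespace Cfsg.Agent.H996.PQ.FullTwEa

open Cfsg Cfsg.Agent.H317.PQ Cfsg.Agent.H64.Dl.Sph Cfsg.Agent.H996.Eight Cfsg.Agent.H996.Eight.Cert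

universe u

/-- the eigenvalues of the double cosets: row `i` (constituent), column `c` (double coset) -/
def lamL : List (List (List ℤ)) :=
  (beta% delta% lq260e3a7772 fun a b _ _ _ _ _ _ _ =>
 (a (a (a 1<|b)<|a (a 0<|a 1<|a 1<|a 0<|a 1<|a 1<|a 1<|a 1<|a 0<|a 1<|a 1<|b)<|a (a 0<|a 0<|a 0<|a 0<|a 0<|a 0<|a 1<|a 0<|a 1<|a 0<|a 1<|a 1<|a 0<|a 1<|a 0<|a 1<|b)<|a (a 0<|a 0<|a 0<|a 0<|a 0<|a 0<|a 0<|a 0<|a 0<|a 0<|a 0<|a 1<|a 1<|a 0<|a 1<|a 1<|a 1<|a 1<|a 0<|a 1<|a 1<|b)<|a (a 0<|a 0<|a 0<|a 0<|a 0<|a 0<|a 0<|a 0<|a 0<|a 0<|a 0<|a 0<|a 0<|a 0<|a 0<|a 0<|a 0<|a 0<|a 0<|a 0<|a 0<|a 1<|b)<|b)<|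
 a (a (a 1<|b)<|a (a (-1)<|a 0<|a 0<|a (-1)<|a 0<|a (-1)<|a 0<|a 0<|a (-1)<|b)<|a (a 0<|a 0<|a 0<|a 1<|a 0<|a 1<|a 0<|a 1<|a 1<|a 0<|a 1<|a 0<|a 1<|b)<|a (a 0<|a 0<|a 0<|a 0<|a 0<|a 0<|a 0<|a (-1)<|a 0<|a 0<|a (-1)<|a 0<|a (-1)<|a 0<|a 0<|a (-1)<|b)<|a (a 0<|a 0<|a 0<|a 0<|a 0<|a 0<|a 0<|a 0<|a 0<|a 0<|a 0<|a 0<|a 0<|a 0<|a 0<|a 1<|b)<|b)<|
 a (a (a 1<|b)<|a (a (-1)<|a 0<|a 1<|a 0<|a 1<|a 1<|a 1<|a 1<|b)<|a (a 0<|a 0<|a (-1)<|a 0<|a (-1)<|a 0<|a 0<|a 0<|a 1<|a 0<|a 1<|b)<|a (a 0<|a 0<|a 0<|a 0<|a 0<|a (-1)<|a (-1)<|a (-1)<|a (-1)<|a 0<|a (-1)<|a 0<|a 1<|b)<|a (a 0<|a 0<|a 0<|a 0<|a 0<|a 0<|a 0<|a 0<|a 0<|a 0<|a 0<|a 0<|a (-1)<|b)<|b)<|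
 a (a (a 1<|b)<|a (a (-1)<|a 0<|a 1<|a (-1)<|a 0<|a (-1)<|b)<|a (a 0<|a 0<|a (-1)<|a 1<|a (-1)<|a 1<|a (-1)<|a 1<|b)<|a (a 0<|a 0<|a 0<|a 0<|a 1<|a 0<|a 1<|a (-1)<|a 0<|a 1<|b)<|a (a 0<|a 0<|a 0<|a 0<|a 0<|a 0<|a 0<|a 0<|a 0<|a (-1)<|b)<|b)<|
 a (a (a 1<|b)<|a (a (-1)<|a 0<|a 1<|a (-1)<|a 0<|a 1<|b)<|a (a 0<|a 0<|a (-1)<|a 1<|a (-1)<|a (-1)<|a 1<|a (-1)<|b)<|a (a 0<|a 0<|a 0<|a 0<|a 1<|a 0<|a (-1)<|a 1<|a 0<|a (-1)<|b)<|a (a 0<|a 0<|a 0<|a 0<|a 0<|a 0<|a 0<|a 0<|a 0<|a 1<|b)<|b)<|b))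

/-- the eigenvalue of the double coset `c` on the constituent `i` -/
def lam (i c : Fin 5) : List ℤ := (lamL.getD i []).getD c []

theorem lam_ok : full.Lam lam := by
  show ∀ i c, pEq (pMul (lam i c) (full.P.nu i full.P.o)) (pMul (full.Da.kk c) (full.P.nu i c)) = true
  (simp only [Cfsg.Agent.H996.Eight.Kq.pEq_eq]; decide +kernel)

/-- **The extended theorem.** -/
theorem sepX {K : Type u} [Field K] [Fintype K] {x : ℕ} (hq : IsPrimePow x) (hK : Fintype.card K = x ^ 2)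
    {p l : ℕ} (hp : p.Prime) (hl : l.Prime) (hS : Same p l ↥(Cfsg.Lie.twistedE6 K x)) :
    SepX pol lam x p l (Nat.card ↥(Cfsg.Lie.twistedE6 K x)) 0 :=
  TwE.tw_sepX hA full lam_ok (by decide +kernel) TabTwEa.data (by decide +kernel) (by decide +kernel) hw hq hK hp hl hS

end Cfsg.Agent.H996.PQ.FullTwEa

namespace Cfsg.Agent.H996.PQ.FullTwEb

open Cfsg Cfsg.Agent.H317.PQ Cfsg.Agent.H64.Dl.Sph Cfsg.Agent.H996.Eight Cfsg.Agent.H996.Eight.Cert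

universe u

/-- the eigenvalues of the double cosets: row `i` (constituent), column `c` (double coset) -/
def lamL : List (List (List ℤ)) :=
  (beta% delta% lq260e3a7772 fun a b _ _ _ _ _ _ _ =>
 (a (a (a 1<|b)<|a (a 0<|a 0<|a 1<|a 0<|a 1<|a 1<|a 1<|a 1<|a 1<|a 1<|a 0<|a 1<|b)<|a (a 0<|a 0<|a 0<|a 0<|a 0<|a 0<|a 0<|a 0<|a 0<|a 1<|a 1<|a 1<|a 0<|a 1<|a 1<|a 1<|b)<|a (a 0<|a 0<|a 0<|a 0<|a 0<|a 0<|a 0<|a 0<|a 0<|a 0<|a 0<|a 0<|a 0<|a 1<|a 0<|a 1<|a 1<|a 1<|a 1<|a 1<|a 1<|a 0<|a 1<|b)<|a (a 0<|a 0<|a 0<|a 0<|a 0<|a 0<|a 0<|a 0<|a 0<|a 0<|a 0<|a 0<|a 0<|a 0<|a 0<|a 0<|a 0<|a 0<|a 0<|a 0<|a 0<|a 0<|a 0<|a 0<|a 1<|b)<|b)<|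
 a (a (a 1<|b)<|a (a (-1)<|a 0<|a 0<|a 0<|a 1<|a 1<|a 1<|a 1<|a 1<|b)<|a (a 0<|a 0<|a 0<|a 0<|a (-1)<|a (-1)<|a (-1)<|a 0<|a 0<|a 1<|a 1<|a 1<|b)<|a (a 0<|a 0<|a 0<|a 0<|a 0<|a 0<|a 0<|a (-1)<|a (-1)<|a (-1)<|a (-1)<|a (-1)<|a 0<|a 0<|a 0<|a 1<|b)<|a (a 0<|a 0<|a 0<|a 0<|a 0<|a 0<|a 0<|a 0<|a 0<|a 0<|a 0<|a 0<|a 0<|a 0<|a 0<|a (-1)<|b)<|b)<|
 a (a (a 1<|b)<|a (a (-1)<|a 0<|a 0<|a (-1)<|a (-1)<|a 0<|a 0<|a (-1)<|b)<|a (a 0<|a 0<|a 0<|a 1<|a 1<|a 1<|a 0<|a 1<|a 1<|a 1<|b)<|a (a 0<|a 0<|a 0<|a 0<|a 0<|a (-1)<|a 0<|a 0<|a (-1)<|a (-1)<|a 0<|a 0<|a (-1)<|b)<|a (a 0<|a 0<|a 0<|a 0<|a 0<|a 0<|a 0<|a 0<|a 0<|a 0<|a 0<|a 0<|a 1<|b)<|b)<|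
 a (a (a 1<|b)<|a (a (-1)<|a 0<|a 0<|a (-1)<|a 1<|a 0<|a 0<|a 1<|b)<|a (a 0<|a 0<|a 0<|a 1<|a (-1)<|a (-1)<|a 0<|a (-1)<|a (-1)<|a 1<|b)<|a (a 0<|a 0<|a 0<|a 0<|a 0<|a 1<|a 0<|a 0<|a 1<|a (-1)<|a 0<|a 0<|a (-1)<|b)<|a (a 0<|a 0<|a 0<|a 0<|a 0<|a 0<|a 0<|a 0<|a 0<|a 0<|a 0<|a 0<|a 1<|b)<|b)<|
 a (a (a 1<|b)<|a (a (-1)<|a 0<|a 0<|a (-1)<|b)<|a (a 0<|a 0<|a 0<|a 1<|a 0<|a 0<|a (-1)<|b)<|a (a 0<|a 0<|a 0<|a 0<|a 0<|a 0<|a 1<|a 0<|a 0<|a 1<|b)<|a (a 0<|a 0<|a 0<|a 0<|a 0<|a 0<|a 0<|a 0<|a 0<|a (-1)<|b)<|b)<|b))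

/-- the eigenvalue of the double coset `c` on the constituent `i` -/
def lam (i c : Fin 5) : List ℤ := (lamL.getD i []).getD c []

theorem lam_ok : full.Lam lam := by
  show ∀ i c, pEq (pMul (lam i c) (full.P.nu i full.P.o)) (pMul (full.Da.kk c) (full.P.nu i c)) = true
  (simp only [Cfsg.Agent.H996.Eight.Kq.pEq_eq]; decide +kernel)

/-- **The extended theorem.** -/
theorem sepX {K : Type u} [Field K] [Fintype K] {x : ℕ} (hq : IsPrimePow x) (hK : Fintype.card K = x ^ 2)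
    {p l : ℕ} (hp : p.Prime) (hl : l.Prime) (hS : Same p l ↥(Cfsg.Lie.twistedE6 K x)) :
    SepX pol lam x p l (Nat.card ↥(Cfsg.Lie.twistedE6 K x)) 0 :=
  TwE.tw_sepX hA full lam_ok (by decide +kernel) TabTwEa.data (by decide +kernel) (by decide +kernel) hw hq hK hp hl hS

end Cfsg.Agent.H996.PQ.FullTwEb
end

-- part: H632/PQ/TabTwE
section
/-!
# The tests for `²E₆(q)`, nodes `0` and `3` (helper632, for S4612; made by a program)
-/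

set_option autoImplicit false
set_option maxRecDepth 20000

namespace Cfsg.Agent.H632.PQ.TwEa

open Cfsg.Agent.H632.PQ.Arith Cfsg.Agent.H996.PQ

/-- the reasons -/
def tab : Tab 5 := (beta% delta% lq260e3a7772 fun a b d f g h _ _ _ =>
 (a (d 2 (a (a (f 2 (a 1<|b) b)<|b)<|
 a (a (f 10 (a (-1)<|b) (a 12<|a (-10)<|a 10<|a (-10)<|a 8<|a (-6)<|a 6<|a (-4)<|a 2<|a (-2)<|a 2<|b))<|a (h 1 (a 1<|a 1<|a 1<|a 0<|a 1<|a 1<|a 2<|a 1<|a 1<|a 1<|a 2<|a 2<|a 1<|a 1<|a 1<|a 2<|a 1<|a 1<|a 0<|a 1<|a 1<|a 1<|b) 12 (a (-1)<|b) (a 12<|a (-10)<|a 10<|a (-8)<|a 6<|a (-6)<|a 4<|a (-2)<|a 2<|a (-2)<|b))<|b)<|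
 a b<|
 a b<|
 a (a (f 2 (a 1<|b) (a 0<|a 0<|a 0<|a (-1)<|a 0<|a 0<|a (-1)<|a 0<|a (-1)<|a 0<|a 0<|a (-1)<|a (-1)<|a 0<|a 0<|a (-1)<|a 0<|a (-1)<|a 0<|a 0<|a (-1)<|b))<|b)<|
 a (a (g 3 8 (a 1<|b) (a 8<|a (-8)<|a 8<|a (-8)<|a 8<|a (-8)<|a 8<|a (-8)<|a 8<|a (-7)<|a 7<|a (-7)<|a 6<|a (-5)<|a 5<|a (-4)<|a 3<|a (-3)<|a 2<|a (-1)<|a 1<|a (-1)<|b))<|b)<|
 a (a (g 3 8 (a 1<|b) (a 8<|a (-8)<|a 8<|a (-8)<|a 8<|a (-8)<|a 8<|a (-8)<|a 8<|a (-7)<|a 7<|a (-7)<|a 6<|a (-5)<|a 5<|a (-4)<|a 3<|a (-3)<|a 2<|a (-1)<|a 1<|a (-1)<|b))<|b)<|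
 a (a (g 3 8 (a 1<|b) (a 8<|a (-8)<|a 8<|a (-8)<|a 8<|a (-8)<|a 8<|a (-8)<|a 8<|a (-7)<|a 7<|a (-7)<|a 6<|a (-5)<|a 5<|a (-4)<|a 3<|a (-3)<|a 2<|a (-1)<|a 1<|a (-1)<|b))<|b)<|
 a (a (f 28 (a (-1)<|b) (a 30<|a (-30)<|a 30<|a (-29)<|a 30<|a (-28)<|a 27<|a (-26)<|a 25<|a (-20)<|a 20<|a (-17)<|a 13<|a (-10)<|a 10<|a (-5)<|a 4<|a (-3)<|a 2<|a 0<|a 1<|b))<|a (h 1 (a 1<|a 1<|a 1<|a 0<|a 1<|a 1<|a 2<|a 1<|a 1<|a 1<|a 2<|a 2<|a 1<|a 1<|a 1<|a 2<|a 1<|a 1<|a 0<|a 1<|a 1<|a 1<|b) 12 (a (-1)<|b) (a 14<|a (-12)<|a 11<|a (-12)<|a 11<|a (-9)<|a 10<|a (-9)<|a 6<|a (-6)<|a 6<|a (-3)<|a 2<|a (-3)<|a 1<|a 0<|a 1<|b))<|b)<|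
 a (a (h 2 (a 0<|a 0<|a 1<|a 0<|a 1<|a (-1)<|a 2<|a (-1)<|a 3<|a (-2)<|a 3<|a (-2)<|a 4<|a (-2)<|a 3<|a (-2)<|a 3<|a (-1)<|a 2<|a (-1)<|a 1<|a 0<|a 1<|b) 32 (a 1<|b) (a 30<|a (-29)<|a 27<|a (-24)<|a 21<|a (-19)<|a 16<|a (-12)<|a 10<|a (-8)<|a 5<|a (-3)<|a 2<|a (-1)<|a 1<|b))<|b)<|
 a b<|
 a b<|
 a (a (g 3 8 (a 1<|b) (a 8<|a (-8)<|a 8<|a (-8)<|a 8<|a (-8)<|a 8<|a (-8)<|a 8<|a (-7)<|a 7<|a (-7)<|a 6<|a (-5)<|a 5<|a (-4)<|a 3<|a (-3)<|a 2<|a (-1)<|a 1<|a (-1)<|b))<|b)<|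
 a (a (g 3 8 (a 1<|b) (a 8<|a (-8)<|a 8<|a (-8)<|a 8<|a (-8)<|a 8<|a (-8)<|a 8<|a (-7)<|a 7<|a (-7)<|a 6<|a (-5)<|a 5<|a (-4)<|a 3<|a (-3)<|a 2<|a (-1)<|a 1<|a (-1)<|b))<|b)<|
 a (a (g 3 8 (a 1<|b) (a 8<|a (-8)<|a 8<|a (-8)<|a 8<|a (-8)<|a 8<|a (-8)<|a 8<|a (-7)<|a 7<|a (-7)<|a 6<|a (-5)<|a 5<|a (-4)<|a 3<|a (-3)<|a 2<|a (-1)<|a 1<|a (-1)<|b))<|b)<|
 a (a (g 3 8 (a 1<|b) (a 8<|a (-8)<|a 8<|a (-8)<|a 8<|a (-8)<|a 8<|a (-8)<|a 8<|a (-7)<|a 7<|a (-7)<|a 6<|a (-5)<|a 5<|a (-4)<|a 3<|a (-3)<|a 2<|a (-1)<|a 1<|a (-1)<|b))<|b)<|b))<|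
 a (d 3 (a (a (f 2 (a 1<|b) b)<|b)<|
 a b<|
 a (a (f 2 (a (-1)<|b) (a 4<|a (-4)<|a 2<|a 0<|a 0<|a (-2)<|a 6<|a (-6)<|a 4<|a (-2)<|a 2<|a (-2)<|a 4<|a (-4)<|a 2<|b))<|b)<|
 a (a (f 4 (a (-1)<|b) (a 6<|a (-4)<|a 0<|a 2<|a (-2)<|a 0<|a 6<|a (-6)<|a 2<|a 0<|a 2<|a (-2)<|a 4<|a (-4)<|a 2<|b))<|b)<|
 a (a (f 6 (a 1<|b) (a 4<|a (-4)<|a 0<|a 3<|a (-4)<|a 1<|a 2<|a (-4)<|a 1<|a 2<|a (-3)<|a 0<|a 1<|a (-2)<|a 1<|a 0<|a (-2)<|a 1<|a 0<|a (-1)<|b))<|b)<|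
 a (a (f 4 (a 1<|b) (a 2<|a (-4)<|a 2<|a 1<|a (-2)<|a (-1)<|a 2<|a (-4)<|a 3<|a 0<|a (-3)<|a 0<|a 1<|a (-2)<|a 1<|a 0<|a (-2)<|a 1<|a 0<|a (-1)<|b))<|b)<|
 a (a (f 2 (a 1<|b) (a 0<|a 0<|a (-2)<|a 3<|a (-4)<|a 3<|a (-4)<|a 2<|a (-3)<|a 4<|a (-5)<|a 2<|a (-3)<|a 2<|a (-1)<|a 0<|a (-2)<|a 1<|a 0<|a (-1)<|b))<|b)<|
 a b<|
 a (a (f 2 (a 1<|b) (a 0<|a 0<|a 0<|a (-1)<|a 0<|a (-1)<|a 2<|a (-2)<|a 1<|a (-4)<|a 3<|a (-2)<|a 3<|a (-4)<|a 1<|a (-2)<|a 2<|a (-1)<|a 0<|a (-1)<|b))<|b)<|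
 a (a (g 4 12 (a 2<|a 1<|b) (a 12<|a (-12)<|a 0<|a 12<|a (-12)<|a 0<|a 12<|a (-12)<|a 0<|a 10<|a (-7)<|a (-1)<|a 6<|a (-4)<|a (-1)<|a 3<|a (-1)<|a (-1)<|a 0<|a 2<|a (-1)<|a (-1)<|b))<|b)<|
 a (a (f 2 (a (-1)<|b) (a 4<|a (-4)<|a 2<|a 1<|a 0<|a (-1)<|a 4<|a (-4)<|a 3<|a 2<|a (-1)<|a 0<|a 1<|a 0<|a 1<|a 2<|a (-2)<|a 1<|a 0<|a 1<|b))<|b)<|
 a (a (f 4 (a (-1)<|b) (a 6<|a (-4)<|a 0<|a 3<|a (-2)<|a 1<|a 4<|a (-4)<|a 1<|a 4<|a (-1)<|a 0<|a 1<|a 0<|a 1<|a 2<|a (-2)<|a 1<|a 0<|a 1<|b))<|b)<|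
 a (a (f 6 (a 1<|b) (a 4<|a (-4)<|a 0<|a 2<|a (-4)<|a 0<|a 4<|a (-6)<|a 2<|a (-2)<|a 0<|a (-2)<|a 4<|a (-6)<|a 2<|a (-2)<|a 0<|a 0<|a 0<|a (-2)<|b))<|b)<|
 a (a (f 4 (a 1<|b) (a 2<|a (-4)<|a 2<|a 0<|a (-2)<|a (-2)<|a 4<|a (-6)<|a 4<|a (-4)<|a 0<|a (-2)<|a 4<|a (-6)<|a 2<|a (-2)<|a 0<|a 0<|a 0<|a (-2)<|b))<|b)<|
 a (a (f 2 (a 1<|b) (a 0<|a 0<|a (-2)<|a 2<|a (-4)<|a 2<|a (-2)<|a 0<|a (-2)<|a 0<|a (-2)<|a 0<|a 0<|a (-2)<|a 0<|a (-2)<|a 0<|a 0<|a 0<|a (-2)<|b))<|b)<|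
 a (a (g 4 12 (a 2<|a 1<|b) (a 12<|a (-12)<|a 0<|a 12<|a (-12)<|a 0<|a 12<|a (-12)<|a 0<|a 10<|a (-7)<|a (-1)<|a 6<|a (-4)<|a (-1)<|a 3<|a (-1)<|a (-1)<|a 0<|a 2<|a (-1)<|a (-1)<|b))<|b)<|b))<|
 a (d 4 (a (a (f 2 (a 1<|b) b)<|b)<|
 a (a (f 2 (a (-1)<|b) (a 4<|a 2<|a (-4)<|a (-2)<|a 2<|a 4<|a (-2)<|a (-2)<|a 0<|a 2<|b))<|b)<|
 a (a (f 2 (a 1<|b) (a 0<|a 0<|a (-2)<|a 2<|a 0<|a 0<|a (-4)<|a 2<|a 0<|a 2<|a (-4)<|a 0<|a 0<|a 2<|a (-2)<|b))<|b)<|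
 a (a (f 2 (a (-1)<|b) (a 4<|a 2<|a (-2)<|a (-4)<|a 2<|a 4<|a 2<|a (-4)<|a 0<|a 0<|a 4<|a 0<|a 0<|a (-2)<|a 2<|b))<|b)<|
 a (a (f 6 (a 1<|b) (a 4<|a 0<|a (-4)<|a (-1)<|a 3<|a 1<|a (-4)<|a (-2)<|a 3<|a 1<|a (-3)<|a (-2)<|a 1<|a 1<|a (-1)<|a (-2)<|a 0<|a 1<|a (-1)<|a (-1)<|b))<|b)<|
 a (a (f 2 (a 1<|b) (a 0<|a (-2)<|a 0<|a 1<|a 1<|a (-3)<|a (-2)<|a 0<|a 3<|a (-1)<|a (-3)<|a (-2)<|a 1<|a 1<|a (-1)<|a (-2)<|a 0<|a 1<|a (-1)<|a (-1)<|b))<|b)<|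
 a (a (f 6 (a 1<|b) (a 4<|a 0<|a (-6)<|a 1<|a 3<|a 1<|a (-8)<|a 0<|a 3<|a 3<|a (-7)<|a (-2)<|a 1<|a 3<|a (-3)<|a (-2)<|a 0<|a 1<|a (-1)<|a (-1)<|b))<|b)<|
 a (a (f 2 (a 1<|b) (a 0<|a (-2)<|a (-2)<|a 3<|a 1<|a (-3)<|a (-6)<|a 2<|a 3<|a 1<|a (-7)<|a (-2)<|a 1<|a 3<|a (-3)<|a (-2)<|a 0<|a 1<|a (-1)<|a (-1)<|b))<|b)<|
 a b<|
 a (a (f 4 (a (-1)<|b) (a 6<|a 2<|a (-6)<|a (-1)<|a 5<|a 5<|a (-6)<|a (-2)<|a 3<|a 7<|a (-3)<|a (-2)<|a (-1)<|a 5<|a 1<|a 0<|a (-2)<|a 1<|a 1<|a 1<|b))<|b)<|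
 a (a (g 2 2 (a 0<|a (-1)<|b) (a 2<|a 0<|a (-2)<|a 0<|a 2<|a 0<|a (-2)<|a 0<|a 2<|a 0<|a (-2)<|a (-1)<|a 2<|a 1<|a (-1)<|a (-1)<|a 1<|a 1<|a (-1)<|a (-1)<|a 0<|a 1<|b))<|b)<|
 a (a (f 4 (a (-1)<|b) (a 6<|a 2<|a (-4)<|a (-3)<|a 5<|a 5<|a (-2)<|a (-4)<|a 3<|a 5<|a 1<|a (-2)<|a (-1)<|a 3<|a 3<|a 0<|a (-2)<|a 1<|a 1<|a 1<|b))<|b)<|
 a (a (f 4 (a 1<|b) (a 2<|a 0<|a (-2)<|a (-2)<|a 0<|a 0<|a 0<|a (-2)<|a 0<|a (-4)<|a 0<|a 0<|a 2<|a (-4)<|a (-2)<|a (-2)<|a 2<|a 0<|a (-2)<|a (-2)<|b))<|b)<|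
 a b<|
 a (a (f 4 (a 1<|b) (a 2<|a 0<|a (-4)<|a 0<|a 0<|a 0<|a (-4)<|a 0<|a 0<|a (-2)<|a (-4)<|a 0<|a 2<|a (-2)<|a (-4)<|a (-2)<|a 2<|a 0<|a (-2)<|a (-2)<|b))<|b)<|
 a (a (g 2 2 (a 0<|a (-1)<|b) (a 2<|a 0<|a (-2)<|a 0<|a 2<|a 0<|a (-2)<|a 0<|a 2<|a 0<|a (-2)<|a (-1)<|a 2<|a 1<|a (-1)<|a (-1)<|a 1<|a 1<|a (-1)<|a (-1)<|a 0<|a 1<|b))<|b)<|b))<|
 a (d 6 (a (a (f 2 (a 1<|b) b)<|b)<|
 a (a (f 8 (a 1<|b) (a 6<|a 4<|a (-2)<|a (-6)<|a (-2)<|a 2<|a 4<|a 0<|a (-2)<|a (-2)<|b))<|b)<|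
 a (a (f 6 (a 1<|b) (a 4<|a 4<|a (-2)<|a (-4)<|a (-4)<|a 2<|a 2<|a 2<|a (-4)<|a (-2)<|a (-2)<|a 2<|a 0<|a 0<|a (-2)<|b))<|b)<|
 a (a (f 12 (a 1<|b) (a 10<|a 8<|a (-4)<|a (-10)<|a (-6)<|a 4<|a 6<|a 2<|a (-6)<|a (-4)<|a (-2)<|a 2<|a 0<|a 0<|a (-2)<|b))<|b)<|
 a (a (f 2 (a 1<|b) (a 0<|a 0<|a 0<|a (-1)<|a (-2)<|a (-1)<|a 0<|a 0<|a (-1)<|a (-2)<|a (-1)<|a 0<|a (-1)<|a (-2)<|a (-1)<|a 0<|a 0<|a (-1)<|a (-2)<|a (-1)<|b))<|b)<|
 a (a (f 8 (a 1<|b) (a 6<|a 4<|a (-2)<|a (-7)<|a (-4)<|a 1<|a 4<|a 0<|a (-3)<|a (-4)<|a (-1)<|a 0<|a (-1)<|a (-2)<|a (-1)<|a 0<|a 0<|a (-1)<|a (-2)<|a (-1)<|b))<|b)<|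
 a (a (f 6 (a 1<|b) (a 4<|a 4<|a (-2)<|a (-5)<|a (-6)<|a 1<|a 2<|a 2<|a (-5)<|a (-4)<|a (-3)<|a 2<|a (-1)<|a (-2)<|a (-3)<|a 0<|a 0<|a (-1)<|a (-2)<|a (-1)<|b))<|b)<|
 a (a (f 12 (a 1<|b) (a 10<|a 8<|a (-4)<|a (-11)<|a (-8)<|a 3<|a 6<|a 2<|a (-7)<|a (-6)<|a (-3)<|a 2<|a (-1)<|a (-2)<|a (-3)<|a 0<|a 0<|a (-1)<|a (-2)<|a (-1)<|b))<|b)<|
 a (a (f 10 (a (-1)<|b) (a 12<|a 12<|a 0<|a (-11)<|a (-10)<|a 3<|a 12<|a 10<|a (-3)<|a (-8)<|a (-5)<|a 6<|a 7<|a 4<|a (-3)<|a (-2)<|a 0<|a 3<|a 2<|a 1<|b))<|b)<|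
 a (a (f 4 (a (-1)<|b) (a 6<|a 8<|a 2<|a (-5)<|a (-8)<|a 1<|a 8<|a 10<|a (-1)<|a (-6)<|a (-5)<|a 6<|a 7<|a 4<|a (-3)<|a (-2)<|a 0<|a 3<|a 2<|a 1<|b))<|b)<|
 a (a (f 6 (a (-1)<|b) (a 8<|a 8<|a 2<|a (-7)<|a (-6)<|a 1<|a 10<|a 8<|a 1<|a (-6)<|a (-3)<|a 4<|a 7<|a 4<|a (-1)<|a (-2)<|a 0<|a 3<|a 2<|a 1<|b))<|b)<|
 a b<|
 a (a (f 10 (a (-1)<|b) (a 12<|a 12<|a 0<|a (-10)<|a (-8)<|a 4<|a 12<|a 10<|a (-2)<|a (-6)<|a (-4)<|a 6<|a 8<|a 6<|a (-2)<|a (-2)<|a 0<|a 4<|a 4<|a 2<|b))<|b)<|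
 a (a (f 4 (a (-1)<|b) (a 6<|a 8<|a 2<|a (-4)<|a (-6)<|a 2<|a 8<|a 10<|a 0<|a (-4)<|a (-4)<|a 6<|a 8<|a 6<|a (-2)<|a (-2)<|a 0<|a 4<|a 4<|a 2<|b))<|b)<|
 a (a (f 6 (a (-1)<|b) (a 8<|a 8<|a 2<|a (-6)<|a (-4)<|a 2<|a 10<|a 8<|a 2<|a (-4)<|a (-2)<|a 4<|a 8<|a 6<|a 0<|a (-2)<|a 0<|a 4<|a 4<|a 2<|b))<|b)<|
 a (a (g 3 4 (a 0<|a 1<|b) (a 4<|a 4<|a 0<|a (-4)<|a (-4)<|a 0<|a 4<|a 4<|a 0<|a (-4)<|a (-3)<|a 1<|a 4<|a 2<|a (-1)<|a (-3)<|a (-1)<|a 1<|a 2<|a 0<|a (-1)<|a (-1)<|b))<|b)<|b))<|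
 a (d 8 (a (a (f 2 (a 1<|b) b)<|b)<|
 a (a (f 2 (a 1<|b) (a 0<|a (-2)<|a 0<|a 0<|a 2<|a 0<|a 0<|a (-2)<|b))<|b)<|
 a (a (f 2 (a 1<|b) (a 0<|a 0<|a (-2)<|a 2<|a (-2)<|a 2<|a (-2)<|a 0<|a (-2)<|a 2<|a (-2)<|a 2<|a (-2)<|b))<|b)<|
 a (a (f 2 (a 1<|b) (a 0<|a (-2)<|a (-2)<|a 2<|a 0<|a 2<|a (-2)<|a (-2)<|a (-2)<|a 2<|a (-2)<|a 2<|a (-2)<|b))<|b)<|
 a b<|
 a (a (g 1 2 (a 0<|a 0<|a 1<|b) (a 2<|a 0<|a 0<|a 0<|a (-2)<|a 0<|a 0<|a 0<|a 2<|a 0<|a 0<|a 0<|a (-1)<|a 0<|a 0<|a 0<|a 1<|a 0<|a 0<|a 0<|a (-1)<|b))<|b)<|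
 a (a (g 2 2 (a 0<|a (-1)<|a 2<|a (-1)<|b) (a 2<|a 0<|a 0<|a 0<|a (-2)<|a 0<|a 0<|a 0<|a 2<|a 0<|a 0<|a (-1)<|a 0<|a (-1)<|a 1<|a (-1)<|a 1<|a 1<|a (-1)<|a 1<|a (-2)<|a 1<|b))<|b)<|
 a (a (g 1 2 (a 0<|a 0<|a 1<|b) (a 2<|a 0<|a 0<|a 0<|a (-2)<|a 0<|a 0<|a 0<|a 2<|a 0<|a 0<|a 0<|a (-1)<|a 0<|a 0<|a 0<|a 1<|a 0<|a 0<|a 0<|a (-1)<|b))<|b)<|
 a (a (f 2 (a 1<|b) (a 0<|a 0<|a 0<|a (-1)<|a (-1)<|a (-2)<|a 1<|a 0<|a 2<|a (-3)<|a (-1)<|a (-3)<|a 2<|a 0<|a 1<|a (-2)<|a (-1)<|a (-1)<|b))<|b)<|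
 a (a (f 2 (a 1<|b) (a 0<|a (-2)<|a 0<|a (-1)<|a 1<|a (-2)<|a 1<|a (-2)<|a 2<|a (-3)<|a (-1)<|a (-3)<|a 2<|a 0<|a 1<|a (-2)<|a (-1)<|a (-1)<|b))<|b)<|
 a (a (f 2 (a 1<|b) (a 0<|a 0<|a (-2)<|a 1<|a (-3)<|a 0<|a (-1)<|a 0<|a 0<|a (-1)<|a (-3)<|a (-1)<|a 0<|a 0<|a 1<|a (-2)<|a (-1)<|a (-1)<|b))<|b)<|
 a (a (f 2 (a 1<|b) (a 0<|a (-2)<|a (-2)<|a 1<|a (-1)<|a 0<|a (-1)<|a (-2)<|a 0<|a (-1)<|a (-3)<|a (-1)<|a 0<|a 0<|a 1<|a (-2)<|a (-1)<|a (-1)<|b))<|b)<|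
 a (a (g 4 4 (a 0<|a 1<|a 1<|b) (a 4<|a 0<|a 0<|a 0<|a (-4)<|a 0<|a 0<|a 0<|a 4<|a 0<|a (-1)<|a 1<|a (-2)<|a (-1)<|a 1<|a 0<|a 1<|a 1<|a 0<|a (-1)<|a (-1)<|b))<|b)<|
 a (a (g 1 2 (a 0<|a 0<|a 1<|b) (a 2<|a 0<|a 0<|a 0<|a (-2)<|a 0<|a 0<|a 0<|a 2<|a 0<|a 0<|a 0<|a (-1)<|a 0<|a 0<|a 0<|a 1<|a 0<|a 0<|a 0<|a (-1)<|b))<|b)<|
 a (a (g 4 4 (a 0<|a 1<|a 1<|b) (a 4<|a 0<|a 0<|a 0<|a (-4)<|a 0<|a 0<|a 0<|a 4<|a 0<|a (-1)<|a 1<|a (-2)<|a (-1)<|a 1<|a 0<|a 1<|a 1<|a 0<|a (-1)<|a (-1)<|b))<|b)<|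
 a (a (g 1 2 (a 0<|a 0<|a 1<|b) (a 2<|a 0<|a 0<|a 0<|a (-2)<|a 0<|a 0<|a 0<|a 2<|a 0<|a 0<|a 0<|a (-1)<|a 0<|a 0<|a 0<|a 1<|a 0<|a 0<|a 0<|a (-1)<|b))<|b)<|b))<|
 a (d 10 (a b<|
 a (a (g 1 5 (a (-2)<|a (-1)<|a (-1)<|a (-2)<|b) (a 5<|a 5<|a 0<|a 0<|a 0<|a (-5)<|a (-5)<|a 0<|a 0<|a 0<|a 3<|a 2<|a (-2)<|a (-3)<|a (-2)<|a (-3)<|a (-2)<|a 2<|a 3<|a 2<|a 3<|a 2<|b))<|b)<|
 a (a (g 2 5 (a (-3)<|a 1<|a 1<|a (-3)<|b) (a 5<|a 5<|a 0<|a 0<|a 0<|a (-5)<|a (-5)<|a 0<|a 0<|a 0<|a 2<|a 3<|a 2<|a 1<|a (-1)<|a (-4)<|a (-1)<|a 1<|a (-1)<|a (-2)<|a 2<|a 3<|b))<|b)<|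
 a (a (g 2 5 (a (-3)<|a 1<|a 1<|a (-3)<|b) (a 5<|a 5<|a 0<|a 0<|a 0<|a (-5)<|a (-5)<|a 0<|a 0<|a 0<|a 2<|a 3<|a 2<|a 1<|a (-1)<|a (-4)<|a (-1)<|a 1<|a (-1)<|a (-2)<|a 2<|a 3<|b))<|b)<|
 a (a (g 3 1 (a 0<|a (-1)<|a 0<|a (-1)<|b) (a 1<|a 1<|a 0<|a 0<|a 0<|a (-1)<|a (-1)<|a 0<|a 0<|a 0<|a 0<|a 0<|a (-1)<|a 0<|a 0<|a 0<|a (-1)<|a 0<|a 0<|a 1<|a 1<|a 1<|b))<|b)<|
 a (a (g 3 1 (a 0<|a (-1)<|a 0<|a (-1)<|b) (a 1<|a 1<|a 0<|a 0<|a 0<|a (-1)<|a (-1)<|a 0<|a 0<|a 0<|a 0<|a 0<|a (-1)<|a 0<|a 0<|a 0<|a (-1)<|a 0<|a 0<|a 1<|a 1<|a 1<|b))<|b)<|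
 a (a (g 3 1 (a 0<|a (-1)<|a 0<|a (-1)<|b) (a 1<|a 1<|a 0<|a 0<|a 0<|a (-1)<|a (-1)<|a 0<|a 0<|a 0<|a 0<|a 0<|a (-1)<|a 0<|a 0<|a 0<|a (-1)<|a 0<|a 0<|a 1<|a 1<|a 1<|b))<|b)<|
 a (a (g 3 1 (a 0<|a (-1)<|a 0<|a (-1)<|b) (a 1<|a 1<|a 0<|a 0<|a 0<|a (-1)<|a (-1)<|a 0<|a 0<|a 0<|a 0<|a 0<|a (-1)<|a 0<|a 0<|a 0<|a (-1)<|a 0<|a 0<|a 1<|a 1<|a 1<|b))<|b)<|
 a b<|
 a (a (g 1 5 (a (-2)<|a (-1)<|a (-1)<|a (-2)<|b) (a 5<|a 5<|a 0<|a 0<|a 0<|a (-5)<|a (-5)<|a 0<|a 0<|a 0<|a 3<|a 2<|a (-2)<|a (-3)<|a (-2)<|a (-3)<|a (-2)<|a 2<|a 3<|a 2<|a 3<|a 2<|b))<|b)<|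
 a (a (g 2 5 (a (-3)<|a 1<|a 1<|a (-3)<|b) (a 5<|a 5<|a 0<|a 0<|a 0<|a (-5)<|a (-5)<|a 0<|a 0<|a 0<|a 2<|a 3<|a 2<|a 1<|a (-1)<|a (-4)<|a (-1)<|a 1<|a (-1)<|a (-2)<|a 2<|a 3<|b))<|b)<|
 a (a (g 2 5 (a (-3)<|a 1<|a 1<|a (-3)<|b) (a 5<|a 5<|a 0<|a 0<|a 0<|a (-5)<|a (-5)<|a 0<|a 0<|a 0<|a 2<|a 3<|a 2<|a 1<|a (-1)<|a (-4)<|a (-1)<|a 1<|a (-1)<|a (-2)<|a 2<|a 3<|b))<|b)<|
 a (a (g 3 1 (a 0<|a (-1)<|a 0<|a (-1)<|b) (a 1<|a 1<|a 0<|a 0<|a 0<|a (-1)<|a (-1)<|a 0<|a 0<|a 0<|a 0<|a 0<|a (-1)<|a 0<|a 0<|a 0<|a (-1)<|a 0<|a 0<|a 1<|a 1<|a 1<|b))<|b)<|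
 a (a (g 3 1 (a 0<|a (-1)<|a 0<|a (-1)<|b) (a 1<|a 1<|a 0<|a 0<|a 0<|a (-1)<|a (-1)<|a 0<|a 0<|a 0<|a 0<|a 0<|a (-1)<|a 0<|a 0<|a 0<|a (-1)<|a 0<|a 0<|a 1<|a 1<|a 1<|b))<|b)<|
 a (a (g 3 1 (a 0<|a (-1)<|a 0<|a (-1)<|b) (a 1<|a 1<|a 0<|a 0<|a 0<|a (-1)<|a (-1)<|a 0<|a 0<|a 0<|a 0<|a 0<|a (-1)<|a 0<|a 0<|a 0<|a (-1)<|a 0<|a 0<|a 1<|a 1<|a 1<|b))<|b)<|
 a (a (g 3 1 (a 0<|a (-1)<|a 0<|a (-1)<|b) (a 1<|a 1<|a 0<|a 0<|a 0<|a (-1)<|a (-1)<|a 0<|a 0<|a 0<|a 0<|a 0<|a (-1)<|a 0<|a 0<|a 0<|a (-1)<|a 0<|a 0<|a 1<|a 1<|a 1<|b))<|b)<|b))<|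
 a (d 12 (a (a (f 2 (a 1<|b) b)<|b)<|
 a (a (f 4 (a 1<|b) (a 2<|a (-2)<|a 2<|a (-2)<|a 2<|a (-2)<|a 0<|a (-2)<|b))<|b)<|
 a (a (f 2 (a 1<|b) (a 0<|a 0<|a (-2)<|a 2<|a (-4)<|a 4<|a (-6)<|a 4<|a (-6)<|a 4<|a (-4)<|a 2<|a (-2)<|b))<|b)<|
 a (a (f 4 (a 1<|b) (a 2<|a (-2)<|a 0<|a 0<|a (-2)<|a 2<|a (-6)<|a 2<|a (-6)<|a 4<|a (-4)<|a 2<|a (-2)<|b))<|b)<|
 a (a (h 2 (a 0<|a 0<|a 1<|a 1<|a 2<|a 1<|a 2<|a 1<|a 2<|a 1<|a 1<|a 1<|a 1<|a 2<|a 1<|a 2<|a 1<|a 2<|a 1<|a 1<|b) 4 (a 1<|a (-1)<|a (-1)<|b) (a 4<|a 1<|a 1<|a 1<|a 1<|a 0<|a (-2)<|a 0<|a (-2)<|a 0<|a 1<|a (-1)<|a 1<|a 1<|b))<|b)<|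
 a (a (f 2 (a 1<|b) (a 0<|a (-2)<|a 0<|a (-3)<|a 1<|a (-3)<|a 0<|a (-3)<|a 0<|a (-1)<|a 0<|a (-1)<|a (-2)<|a (-1)<|a (-2)<|a (-1)<|a (-1)<|a (-1)<|b))<|b)<|
 a (a (g 2 2 (a 0<|a 1<|a 0<|a (-1)<|b) (a 2<|a 0<|a 2<|a 0<|a 0<|a 0<|a (-2)<|a 0<|a (-2)<|a 0<|a 0<|a 1<|a 2<|a 0<|a 1<|a (-1)<|a 0<|a (-1)<|a (-1)<|a 0<|a 0<|a 1<|b))<|b)<|
 a (a (f 2 (a 1<|b) (a 0<|a (-2)<|a (-2)<|a (-1)<|a (-3)<|a 1<|a (-6)<|a 1<|a (-6)<|a 3<|a (-4)<|a 1<|a (-4)<|a (-1)<|a (-2)<|a (-1)<|a (-1)<|a (-1)<|b))<|b)<|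
 a b<|
 a (a (f 2 (a 1<|b) (a 0<|a (-2)<|a 0<|a (-3)<|a 1<|a (-5)<|a 2<|a (-5)<|a 4<|a (-5)<|a 2<|a (-5)<|a 2<|a (-3)<|a 0<|a (-3)<|a (-1)<|a (-1)<|b))<|b)<|
 a (a (g 2 2 (a 0<|a 1<|a 0<|a (-1)<|b) (a 2<|a 0<|a 2<|a 0<|a 0<|a 0<|a (-2)<|a 0<|a (-2)<|a 0<|a 0<|a 1<|a 2<|a 0<|a 1<|a (-1)<|a 0<|a (-1)<|a (-1)<|a 0<|a 0<|a 1<|b))<|b)<|
 a (a (f 2 (a 1<|b) (a 0<|a (-2)<|a (-2)<|a (-1)<|a (-3)<|a (-1)<|a (-4)<|a (-1)<|a (-2)<|a (-1)<|a (-2)<|a (-3)<|a 0<|a (-3)<|a 0<|a (-3)<|a (-1)<|a (-1)<|b))<|b)<|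
 a (a (f 2 (a (-1)<|b) (a 4<|a 0<|a 4<|a 2<|a 2<|a 4<|a (-2)<|a 4<|a (-4)<|a 6<|a (-2)<|a 6<|a 0<|a 4<|a 2<|a 4<|a 2<|a 2<|b))<|b)<|
 a b<|
 a (a (f 2 (a (-1)<|b) (a 4<|a 0<|a 6<|a 0<|a 6<|a 0<|a 4<|a 0<|a 2<|a 2<|a 2<|a 4<|a 2<|a 4<|a 2<|a 4<|a 2<|a 2<|b))<|b)<|
 a (a (g 2 2 (a 0<|a 1<|a 0<|a (-1)<|b) (a 2<|a 0<|a 2<|a 0<|a 0<|a 0<|a (-2)<|a 0<|a (-2)<|a 0<|a 0<|a 1<|a 2<|a 0<|a 1<|a (-1)<|a 0<|a (-1)<|a (-1)<|a 0<|a 0<|a 1<|b))<|b)<|b))<|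
 a (d 18 (a (a (f 2 (a 1<|b) b)<|b)<|
 a (a (f 2 (a 1<|b) (a 0<|a (-2)<|a 0<|a 0<|a 0<|a (-2)<|b))<|b)<|
 a b<|
 a (a (g 1 3 (a 0<|a 0<|a 1<|a 0<|a 0<|a (-2)<|b) (a 3<|a 0<|a 0<|a 3<|a 0<|a 0<|a 0<|a 0<|a 0<|a (-3)<|a 0<|a 0<|a (-2)<|a 0<|a 0<|a (-1)<|a 0<|a 0<|a 1<|a 0<|a 0<|a 2<|b))<|b)<|
 a (a (f 2 (a 1<|b) (a 0<|a 0<|a 0<|a (-1)<|a (-1)<|a 0<|a (-2)<|a (-2)<|a (-1)<|a (-2)<|a (-1)<|a (-2)<|a (-2)<|a 0<|a (-1)<|a (-1)<|b))<|b)<|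
 a (a (f 2 (a 1<|b) (a 0<|a (-2)<|a 0<|a (-1)<|a (-1)<|a (-2)<|a (-2)<|a (-2)<|a (-1)<|a (-2)<|a (-1)<|a (-2)<|a (-2)<|a 0<|a (-1)<|a (-1)<|b))<|b)<|
 a (a (g 3 1 (a 0<|a 1<|a (-1)<|a 1<|a (-1)<|b) (a 1<|a 0<|a 0<|a 1<|a 0<|a 0<|a 0<|a 0<|a 0<|a (-1)<|a 1<|a (-1)<|a 0<|a (-1)<|a 1<|a (-1)<|a 1<|a (-1)<|a 1<|a (-1)<|a 1<|b))<|b)<|
 a (a (g 3 1 (a 0<|a 1<|a (-1)<|a 1<|a (-1)<|b) (a 1<|a 0<|a 0<|a 1<|a 0<|a 0<|a 0<|a 0<|a 0<|a (-1)<|a 1<|a (-1)<|a 0<|a (-1)<|a 1<|a (-1)<|a 1<|a (-1)<|a 1<|a (-1)<|a 1<|b))<|b)<|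
 a (a (f 2 (a 1<|b) (a 0<|a 0<|a 0<|a (-1)<|a (-1)<|a (-2)<|a 0<|a (-2)<|a (-1)<|a (-4)<|a (-1)<|a (-2)<|a 0<|a (-2)<|a (-1)<|a (-1)<|b))<|b)<|
 a (a (f 2 (a 1<|b) (a 0<|a (-2)<|a 0<|a (-1)<|a (-1)<|a (-4)<|a 0<|a (-2)<|a (-1)<|a (-4)<|a (-1)<|a (-2)<|a 0<|a (-2)<|a (-1)<|a (-1)<|b))<|b)<|
 a b<|
 a (a (g 1 3 (a 0<|a 0<|a 1<|a 0<|a 0<|a (-2)<|b) (a 3<|a 0<|a 0<|a 3<|a 0<|a 0<|a 0<|a 0<|a 0<|a (-3)<|a 0<|a 0<|a (-2)<|a 0<|a 0<|a (-1)<|a 0<|a 0<|a 1<|a 0<|a 0<|a 2<|b))<|b)<|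
 a (a (f 2 (a 1<|b) (a 0<|a 0<|a 0<|a (-2)<|a (-2)<|a (-2)<|a (-2)<|a (-4)<|a (-2)<|a (-6)<|a (-2)<|a (-4)<|a (-2)<|a (-2)<|a (-2)<|a (-2)<|b))<|b)<|
 a (a (f 2 (a 1<|b) (a 0<|a (-2)<|a 0<|a (-2)<|a (-2)<|a (-4)<|a (-2)<|a (-4)<|a (-2)<|a (-6)<|a (-2)<|a (-4)<|a (-2)<|a (-2)<|a (-2)<|a (-2)<|b))<|b)<|
 a (a (g 3 1 (a 0<|a 1<|a (-1)<|a 1<|a (-1)<|b) (a 1<|a 0<|a 0<|a 1<|a 0<|a 0<|a 0<|a 0<|a 0<|a (-1)<|a 1<|a (-1)<|a 0<|a (-1)<|a 1<|a (-1)<|a 1<|a (-1)<|a 1<|a (-1)<|a 1<|b))<|b)<|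
 a (a (g 3 1 (a 0<|a 1<|a (-1)<|a 1<|a (-1)<|b) (a 1<|a 0<|a 0<|a 1<|a 0<|a 0<|a 0<|a 0<|a 0<|a (-1)<|a 1<|a (-1)<|a 0<|a (-1)<|a 1<|a (-1)<|a 1<|a (-1)<|a 1<|a (-1)<|a 1<|b))<|b)<|b))<|b))

/-- the data -/
def dat : Dat 5 where
  P := FullTwEa.pol
  NQ e := (beta% delta% lq260e3a7772 fun a b _ _ _ _ j _ _ =>
 ((a b<|a b<|a (a 1<|a 0<|a 1<|a (-1)<|a 2<|a (-1)<|a 3<|a (-2)<|a 3<|a (-2)<|a 4<|a (-2)<|a 3<|a (-2)<|a 3<|a (-1)<|a 2<|a (-1)<|a 1<|a 0<|a 1<|b)<|a (a 1<|a 0<|a 0<|a 0<|a 1<|a 0<|a 1<|a 0<|a 0<|a 1<|a 1<|a 0<|a 0<|a 1<|a 0<|a 1<|a 0<|a 0<|a 0<|a 1<|b)<|a (a 1<|a 1<|a 0<|a (-1)<|a 1<|a 2<|a 1<|a (-1)<|a 0<|a 2<|a 2<|a 0<|a (-1)<|a 1<|a 2<|a 1<|a (-1)<|a 0<|a 1<|a 1<|b)<|a b<|a (a 1<|a 2<|a 2<|a 0<|a (-1)<|a 0<|a 3<|a 4<|a 2<|a (-1)<|a (-1)<|a 2<|a 4<|a 3<|a 0<|a (-1)<|a 0<|a 2<|a 2<|a 1<|b)<|a b<|a (a 1<|a 1<|a 1<|a 0<|a 0<|a 0<|a 1<|a 1<|a 1<|a 1<|a 1<|a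 1<|a 0<|a 0<|a 0<|a 1<|a 1<|a 1<|b)<|a b<|a b<|a b<|a (a 1<|a 1<|a 2<|a 1<|a 2<|a 1<|a 2<|a 1<|a 1<|a 1<|a 1<|a 2<|a 1<|a 2<|a 1<|a 2<|a 1<|a 1<|b)<|a b<|a b<|a b<|a b<|a b<|a (a 1<|a 1<|a 1<|a 1<|a 2<|a 2<|a 2<|a 2<|a 2<|a 2<|a 2<|a 2<|a 1<|a 1<|a 1<|a 1<|b)<|b) :type_of% (j _)).getD e b)
  W c := (beta% delta% lq260e3a7772 fun a b _ _ _ _ j _ _ =>
 ((a (a 1<|b)<|a (a 1<|a 1<|b)<|a (a 0<|a 0<|a 1<|b)<|a (a 0<|a 0<|a 0<|a 0<|a 1<|a 1<|b)<|a (a 0<|a 0<|a 0<|a 0<|a 0<|a 0<|a 0<|a 0<|a 0<|a 1<|b)<|b) :type_of% (j _)).getD c b)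
  t c i := (beta% delta% lq260e3a7772 fun a b _ _ _ _ _ _ l =>
 (((a (a (a 2<|b)<|a (a 0<|a 2<|a 0<|a 0<|a (-2)<|a 2<|a 0<|a 2<|a (-2)<|a 0<|a 0<|a 2<|b)<|a (a 0<|a 0<|a 2<|a (-2)<|a 2<|a (-2)<|a 4<|a (-2)<|a 4<|a (-4)<|a 4<|a (-2)<|a 4<|a (-2)<|a 2<|a (-2)<|a 2<|b)<|a (a 0<|a 0<|a 0<|a 1<|a 1<|a 0<|a 1<|a 1<|a 1<|a 1<|a 0<|a 1<|a 2<|a 1<|a 0<|a 1<|a 1<|a 1<|a 1<|a 0<|a 1<|a 1<|b)<|a (a 0<|a 0<|a 0<|a 1<|a 1<|a 2<|a (-1)<|a 1<|a (-1)<|a 5<|a 0<|a 3<|a (-4)<|a 3<|a 0<|a 5<|a (-1)<|a 1<|a (-1)<|a 2<|a 1<|a 1<|b)<|b)<|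
 a (a (a 2<|a 2<|b)<|a (a (-2)<|a 0<|a 0<|a 2<|a (-2)<|a 0<|a (-2)<|a 2<|a 0<|a 0<|a (-2)<|b)<|a (a 0<|a (-2)<|a 2<|a 0<|a 2<|a (-2)<|a 2<|a (-2)<|a 4<|a 0<|a 2<|a (-2)<|a 2<|a 0<|a 2<|b)<|a (a 0<|a 0<|a (-1)<|a (-1)<|a 1<|a 0<|a (-1)<|a (-1)<|a (-1)<|a 0<|a 0<|a (-1)<|a (-1)<|a 1<|a 0<|a (-1)<|a (-1)<|a (-1)<|b)<|a (a 0<|a 0<|a (-1)<|a (-1)<|a (-1)<|a 2<|a 1<|a 1<|a (-3)<|a 0<|a 0<|a 3<|a (-1)<|a (-1)<|a (-2)<|a 1<|a 1<|a 1<|b)<|b)<|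
 a (a (a 0<|a 0<|a 2<|b)<|a (a 2<|a 0<|a 0<|a (-2)<|a 2<|a 0<|a 2<|a (-2)<|a 0<|a 0<|a 2<|b)<|a (a (-2)<|a 2<|a (-2)<|a 2<|a (-2)<|a 2<|a (-4)<|a 4<|a (-2)<|a 2<|a (-2)<|a 2<|a (-2)<|a 2<|b)<|a (a 0<|a (-1)<|a 0<|a 1<|a (-1)<|a 0<|a 1<|a 0<|a 0<|a 0<|a (-1)<|a 0<|a 1<|a (-1)<|a 0<|a 1<|b)<|a (a 0<|a (-1)<|a 0<|a (-1)<|a 1<|a (-2)<|a 1<|a (-2)<|a 2<|a (-2)<|a 1<|a (-2)<|a 1<|a (-1)<|a 0<|a (-1)<|b)<|b)<|
 a (a (a 0<|a 0<|a 0<|a 0<|a 2<|a 2<|b)<|a (a 0<|a (-2)<|a 0<|a 0<|a 2<|a (-2)<|a 0<|a (-2)<|a 2<|a 0<|a 0<|a (-2)<|b)<|a (a (-2)<|a 0<|a (-2)<|a 2<|a (-2)<|a 0<|a (-4)<|a 2<|a (-2)<|a 2<|a (-2)<|a 0<|a (-2)<|a 2<|b)<|a (a 1<|a 1<|a 1<|a 0<|a (-1)<|a 1<|a 1<|a 0<|a 0<|a 1<|a 1<|a 1<|a 0<|a (-1)<|a 1<|a 1<|b)<|a (a 1<|a 1<|a 1<|a (-2)<|a (-1)<|a (-1)<|a 3<|a 0<|a 0<|a (-3)<|a 1<|a 1<|a 2<|a (-1)<|a (-1)<|a (-1)<|b)<|b)<|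
 a (a (a 0<|a 0<|a 0<|a 0<|a 0<|a 0<|a 0<|a 0<|a 0<|a 2<|b)<|a (a 0<|a 0<|a 0<|a 0<|a 2<|a 0<|a 0<|a (-2)<|a 2<|a 0<|a 2<|a (-2)<|a 0<|a 0<|a 2<|b)<|a (a 0<|a 0<|a (-2)<|a 2<|a (-2)<|a 2<|a (-4)<|a 2<|a (-4)<|a 4<|a (-4)<|a 2<|a (-4)<|a 2<|a (-2)<|a 2<|a (-2)<|b)<|a (a (-1)<|a (-1)<|a 0<|a (-1)<|a (-1)<|a (-1)<|a (-1)<|a 0<|a (-1)<|a (-2)<|a (-1)<|a 0<|a (-1)<|a (-1)<|a (-1)<|a (-1)<|a 0<|a (-1)<|a (-1)<|b)<|a (a 1<|a 1<|a 2<|a (-1)<|a 1<|a (-1)<|a 5<|a 0<|a 3<|a (-4)<|a 3<|a 0<|a 5<|a (-1)<|a 1<|a (-1)<|a 2<|a 1<|a 1<|b)<|b)<|b) :type_of% (l _)).getD c b).getD i b)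

theorem dat_ok : dat.Ok := by decide +kernel

theorem kl : ∀ ef ∈ (beta% delta% lq260e3a7772 fun a b d _ _ _ _ _ _ =>
 (a (d 2 3)<|a (d 2 4)<|a (d 2 8)<|a (d 2 10)<|a (d 2 12)<|a (d 3 4)<|a (d 3 6)<|a (d 3 8)<|a (d 3 10)<|a (d 3 12)<|a (d 3 18)<|a (d 4 6)<|a (d 4 8)<|a (d 4 18)<|a (d 6 8)<|a (d 6 10)<|a (d 6 12)<|a (d 6 18)<|a (d 8 10)<|a (d 8 12)<|a (d 8 18)<|a (d 10 18)<|a (d 12 18)<|b) :
 List (ℕ × ℕ)), Kl dat tab (ef : ℕ × ℕ).1 ef.2 := by decide +kernel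

end Cfsg.Agent.H632.PQ.TwEa

namespace Cfsg.Agent.H632.PQ.TwEb

open Cfsg.Agent.H632.PQ.Arith Cfsg.Agent.H996.PQ

/-- the reasons -/
def tab : Tab 5 := (beta% delta% lq260e3a7772 fun a b d f g h _ _ _ =>
 (a (d 2 (a (a (f 2 (a 1<|b) b)<|b)<|
 a b<|
 a (a (h 1 (a 1<|a (-1)<|a 2<|a (-2)<|a 3<|a (-2)<|a 3<|a (-2)<|a 3<|a (-1)<|a 2<|a 0<|a 0<|a 2<|a (-1)<|a 3<|a (-2)<|a 3<|a (-2)<|a 3<|a (-2)<|a 2<|a (-1)<|a 1<|b) 32 (a 1<|b) (a 30<|a (-29)<|a 28<|a (-27)<|a 25<|a (-23)<|a 22<|a (-19)<|a 16<|a (-14)<|a 11<|a (-8)<|a 7<|a (-5)<|a 3<|a (-2)<|a 1<|b))<|b)<|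
 a b<|
 a (a (h 1 (a 1<|a (-1)<|a 2<|a (-2)<|a 3<|a (-2)<|a 3<|a (-2)<|a 3<|a (-1)<|a 2<|a 0<|a 0<|a 2<|a (-1)<|a 3<|a (-2)<|a 3<|a (-2)<|a 3<|a (-2)<|a 2<|a (-1)<|a 1<|b) 2 (a 1<|b) (a 0<|a 1<|a 0<|a 1<|a (-3)<|a 1<|a (-2)<|a 5<|a (-2)<|a 2<|a (-5)<|a 2<|a (-1)<|a 3<|a (-1)<|a 0<|a (-1)<|b))<|b)<|
 a b<|
 a (a (h 1 (a 1<|a (-1)<|a 2<|a (-2)<|a 3<|a (-2)<|a 3<|a (-2)<|a 3<|a (-1)<|a 2<|a 0<|a 0<|a 2<|a (-1)<|a 3<|a (-2)<|a 3<|a (-2)<|a 3<|a (-2)<|a 2<|a (-1)<|a 1<|b) 32 (a 1<|b) (a 30<|a (-28)<|a 28<|a (-26)<|a 22<|a (-22)<|a 20<|a (-14)<|a 14<|a (-12)<|a 6<|a (-6)<|a 6<|a (-2)<|a 2<|a (-2)<|b))<|b)<|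
 a b<|
 a b<|
 a b<|
 a b<|
 a b<|
 a b<|
 a b<|
 a b<|
 a b<|b))<|
 a (d 3 (a (a (f 2 (a 1<|b) b)<|b)<|
 a (a (f 2 (a (-1)<|b) (a 4<|a (-4)<|a 2<|a 0<|a 0<|a (-2)<|a 6<|a (-6)<|a 4<|a (-2)<|a 2<|a (-2)<|a 4<|a (-4)<|a 2<|b))<|b)<|
 a b<|
 a (a (f 4 (a (-1)<|b) (a 6<|a (-6)<|a 2<|a 3<|a (-4)<|a 1<|a 4<|a (-4)<|a 1<|a 4<|a (-5)<|a 4<|a (-1)<|a 0<|a (-1)<|a 4<|a (-4)<|a 3<|a (-2)<|a 1<|b))<|b)<|
 a (a (f 2 (a 1<|b) (a 0<|a 0<|a 0<|a (-1)<|a 0<|a (-1)<|a 2<|a (-2)<|a 1<|a (-4)<|a 3<|a (-2)<|a 3<|a (-4)<|a 1<|a (-2)<|a 2<|a (-1)<|a 0<|a (-1)<|b))<|b)<|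
 a (a (f 2 (a (-1)<|b) (a 4<|a (-4)<|a 2<|a 1<|a 0<|a (-1)<|a 4<|a (-4)<|a 3<|a 2<|a (-1)<|a 0<|a 1<|a 0<|a 1<|a 2<|a (-2)<|a 1<|a 0<|a 1<|b))<|b)<|
 a (a (g 3 12 (a 2<|a 1<|b) (a 12<|a (-12)<|a 0<|a 12<|a (-12)<|a 0<|a 12<|a (-12)<|a 0<|a 10<|a (-7)<|a (-1)<|a 6<|a (-4)<|a (-1)<|a 3<|a (-1)<|a (-1)<|a 0<|a 2<|a (-1)<|a (-1)<|b))<|b)<|
 a (a (f 4 (a (-1)<|b) (a 6<|a (-6)<|a 2<|a 4<|a (-4)<|a 2<|a 2<|a (-2)<|a 0<|a 8<|a (-8)<|a 6<|a (-4)<|a 4<|a (-2)<|a 6<|a (-6)<|a 4<|a (-2)<|a 2<|b))<|b)<|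
 a (a (f 6 (a 1<|b) (a 4<|a (-4)<|a 0<|a 4<|a (-4)<|a 0<|a 2<|a (-2)<|a (-2)<|a 6<|a (-6)<|a 2<|a (-2)<|a 2<|a (-4)<|a 6<|a (-6)<|a 2<|a (-2)<|a 2<|a (-2)<|a 2<|a (-2)<|b))<|b)<|
 a (a (f 2 (a 1<|b) (a 0<|a 0<|a (-2)<|a 4<|a (-4)<|a 2<|a (-4)<|a 4<|a (-6)<|a 8<|a (-8)<|a 4<|a (-6)<|a 6<|a (-6)<|a 6<|a (-6)<|a 2<|a (-2)<|a 2<|a (-2)<|a 2<|a (-2)<|b))<|b)<|
 a (a (f 4 (a 1<|b) (a 2<|a (-2)<|a 0<|a 1<|a 0<|a (-3)<|a 4<|a (-4)<|a 1<|a 0<|a 1<|a (-4)<|a 3<|a (-2)<|a (-1)<|a 2<|a (-2)<|a (-1)<|a 0<|a 1<|a (-2)<|a 2<|a (-2)<|b))<|b)<|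
 a b<|
 a (a (f 6 (a 1<|b) (a 4<|a (-4)<|a 0<|a 3<|a (-4)<|a (-1)<|a 4<|a (-4)<|a (-1)<|a 2<|a (-3)<|a 0<|a 1<|a (-2)<|a (-3)<|a 4<|a (-4)<|a 1<|a (-2)<|a 1<|a (-2)<|a 2<|a (-2)<|b))<|b)<|
 a (a (f 2 (a 1<|b) (a 0<|a 0<|a (-2)<|a 3<|a (-4)<|a 1<|a (-2)<|a 2<|a (-5)<|a 4<|a (-5)<|a 2<|a (-3)<|a 2<|a (-5)<|a 4<|a (-4)<|a 1<|a (-2)<|a 1<|a (-2)<|a 2<|a (-2)<|b))<|b)<|
 a (a (f 4 (a 1<|b) (a 2<|a (-2)<|a 0<|a 0<|a 0<|a (-4)<|a 6<|a (-6)<|a 2<|a (-4)<|a 4<|a (-6)<|a 6<|a (-6)<|a 0<|a 0<|a 0<|a (-2)<|a 0<|a 0<|a (-2)<|a 2<|a (-2)<|b))<|b)<|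
 a (a (g 3 12 (a 2<|a 1<|b) (a 12<|a (-12)<|a 0<|a 12<|a (-12)<|a 0<|a 12<|a (-12)<|a 0<|a 10<|a (-7)<|a (-1)<|a 6<|a (-4)<|a (-1)<|a 3<|a (-1)<|a (-1)<|a 0<|a 2<|a (-1)<|a (-1)<|b))<|b)<|b))<|
 a (d 4 (a (a (f 2 (a 1<|b) b)<|b)<|
 a (a (f 2 (a 1<|b) (a 0<|a 0<|a (-2)<|a 2<|a 0<|a 0<|a (-4)<|a 2<|a 0<|a 2<|a (-4)<|a 0<|a 0<|a 2<|a (-2)<|b))<|b)<|
 a (a (f 2 (a 1<|b) (a 0<|a 0<|a 0<|a (-1)<|a 1<|a (-1)<|a 2<|a (-2)<|a 1<|a (-3)<|a 3<|a (-2)<|a 3<|a (-3)<|a 1<|a (-2)<|a 2<|a (-1)<|a 1<|a (-1)<|b))<|b)<|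
 a (a (f 2 (a 1<|b) (a 0<|a 0<|a (-2)<|a 1<|a 1<|a (-1)<|a (-2)<|a 0<|a 1<|a (-1)<|a (-1)<|a (-2)<|a 3<|a (-1)<|a (-1)<|a (-2)<|a 2<|a (-1)<|a 1<|a (-1)<|b))<|b)<|
 a b<|
 a (a (g 1 2 (a 0<|a (-1)<|b) (a 2<|a 0<|a (-2)<|a 0<|a 2<|a 0<|a (-2)<|a 0<|a 2<|a 0<|a (-2)<|a (-1)<|a 2<|a 1<|a (-1)<|a (-1)<|a 1<|a 1<|a (-1)<|a (-1)<|a 0<|a 1<|b))<|b)<|
 a (a (g 2 8 (a (-1)<|a (-1)<|b) (a 8<|a 0<|a (-8)<|a 0<|a 8<|a 0<|a (-8)<|a 0<|a 8<|a 1<|a (-7)<|a (-1)<|a 6<|a 1<|a (-5)<|a (-2)<|a 3<|a 1<|a (-2)<|a (-1)<|a 1<|a 1<|b))<|b)<|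
 a (a (g 1 2 (a 0<|a (-1)<|b) (a 2<|a 0<|a (-2)<|a 0<|a 2<|a 0<|a (-2)<|a 0<|a 2<|a 0<|a (-2)<|a (-1)<|a 2<|a 1<|a (-1)<|a (-1)<|a 1<|a 1<|a (-1)<|a (-1)<|a 0<|a 1<|b))<|b)<|
 a (a (f 2 (a 1<|b) (a 0<|a 0<|a 0<|a 0<|a 0<|a 0<|a (-2)<|a 0<|a 0<|a 2<|a (-2)<|a 0<|a (-4)<|a 2<|a 0<|a 2<|a (-4)<|a 0<|a (-2)<|a 2<|a 0<|a 0<|a (-2)<|b))<|b)<|
 a (a (f 2 (a 1<|b) (a 0<|a 0<|a (-2)<|a 2<|a 0<|a 0<|a (-6)<|a 2<|a 0<|a 4<|a (-6)<|a 0<|a (-4)<|a 4<|a (-2)<|a 2<|a (-4)<|a 0<|a (-2)<|a 2<|a 0<|a 0<|a (-2)<|b))<|b)<|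
 a (a (f 2 (a 1<|b) (a 0<|a 0<|a 0<|a (-1)<|a 1<|a (-1)<|a 0<|a (-2)<|a 1<|a (-1)<|a 1<|a (-2)<|a (-1)<|a (-1)<|a 1<|a 0<|a (-2)<|a (-1)<|a (-1)<|a 1<|a 0<|a 0<|a (-2)<|b))<|b)<|
 a (a (f 2 (a 1<|b) (a 0<|a 0<|a (-2)<|a 1<|a 1<|a (-1)<|a (-4)<|a 0<|a 1<|a 1<|a (-3)<|a (-2)<|a (-1)<|a 1<|a (-1)<|a 0<|a (-2)<|a (-1)<|a (-1)<|a 1<|a 0<|a 0<|a (-2)<|b))<|b)<|
 a b<|
 a (a (g 1 2 (a 0<|a (-1)<|b) (a 2<|a 0<|a (-2)<|a 0<|a 2<|a 0<|a (-2)<|a 0<|a 2<|a 0<|a (-2)<|a (-1)<|a 2<|a 1<|a (-1)<|a (-1)<|a 1<|a 1<|a (-1)<|a (-1)<|a 0<|a 1<|b))<|b)<|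
 a (a (g 2 8 (a (-1)<|a (-1)<|b) (a 8<|a 0<|a (-8)<|a 0<|a 8<|a 0<|a (-8)<|a 0<|a 8<|a 1<|a (-7)<|a (-1)<|a 6<|a 1<|a (-5)<|a (-2)<|a 3<|a 1<|a (-2)<|a (-1)<|a 1<|a 1<|b))<|b)<|
 a (a (g 1 2 (a 0<|a (-1)<|b) (a 2<|a 0<|a (-2)<|a 0<|a 2<|a 0<|a (-2)<|a 0<|a 2<|a 0<|a (-2)<|a (-1)<|a 2<|a 1<|a (-1)<|a (-1)<|a 1<|a 1<|a (-1)<|a (-1)<|a 0<|a 1<|b))<|b)<|b))<|
 a (d 6 (a (a (f 2 (a 1<|b) b)<|b)<|
 a (a (f 6 (a 1<|b) (a 4<|a 4<|a (-2)<|a (-4)<|a (-4)<|a 2<|a 2<|a 2<|a (-4)<|a (-2)<|a (-2)<|a 2<|a 0<|a 0<|a (-2)<|b))<|b)<|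
 a (a (f 4 (a (-1)<|b) (a 6<|a 6<|a 0<|a (-5)<|a (-6)<|a 1<|a 4<|a 6<|a (-1)<|a (-2)<|a (-5)<|a 2<|a 1<|a 4<|a (-1)<|a 0<|a (-2)<|a 1<|a 0<|a 1<|b))<|b)<|
 a (a (h 1 (a 1<|a 1<|a 1<|a 0<|a 0<|a 1<|a 2<|a 2<|a 1<|a 1<|a 1<|a 2<|a 1<|a 1<|a 1<|a 2<|a 2<|a 1<|a 0<|a 0<|a 1<|a 1<|a 1<|b) 12 (a 0<|a (-1)<|b) (a 12<|a 12<|a 1<|a (-10)<|a (-10)<|a 0<|a 8<|a 7<|a 0<|a (-4)<|a (-4)<|a 1<|a 2<|a 2<|a 0<|a 0<|a (-1)<|b))<|b)<|
 a (a (f 10 (a (-1)<|b) (a 12<|a 12<|a 0<|a (-11)<|a (-10)<|a 3<|a 12<|a 10<|a (-3)<|a (-8)<|a (-5)<|a 6<|a 7<|a 4<|a (-3)<|a (-2)<|a 0<|a 3<|a 2<|a 1<|b))<|b)<|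
 a (a (f 6 (a (-1)<|b) (a 8<|a 8<|a 2<|a (-7)<|a (-6)<|a 1<|a 10<|a 8<|a 1<|a (-6)<|a (-3)<|a 4<|a 7<|a 4<|a (-1)<|a (-2)<|a 0<|a 3<|a 2<|a 1<|b))<|b)<|
 a (a (f 16 (a (-1)<|b) (a 18<|a 18<|a 0<|a (-16)<|a (-16)<|a 4<|a 16<|a 16<|a (-4)<|a (-10)<|a (-10)<|a 8<|a 8<|a 8<|a (-4)<|a (-2)<|a (-2)<|a 4<|a 2<|a 2<|b))<|b)<|
 a (a (f 12 (a (-1)<|b) (a 14<|a 14<|a 2<|a (-12)<|a (-12)<|a 2<|a 14<|a 14<|a 0<|a (-8)<|a (-8)<|a 6<|a 8<|a 8<|a (-2)<|a (-2)<|a (-2)<|a 4<|a 2<|a 2<|b))<|b)<|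
 a (a (f 14 (a 1<|b) (a 12<|a 12<|a 0<|a (-12)<|a (-12)<|a 0<|a 10<|a 10<|a (-2)<|a (-10)<|a (-10)<|a 2<|a 6<|a 6<|a (-4)<|a (-6)<|a (-6)<|a 2<|a 2<|a 2<|a (-2)<|a (-2)<|a (-2)<|b))<|a (h 1 (a 1<|a 1<|a 1<|a 0<|a 0<|a 1<|a 2<|a 2<|a 1<|a 1<|a 1<|a 2<|a 1<|a 1<|a 1<|a 2<|a 2<|a 1<|a 0<|a 0<|a 1<|a 1<|a 1<|b) 86 (a 7<|a (-6)<|b) (a 72<|a 84<|a 12<|a (-72)<|a (-70)<|a (-10)<|a 60<|a 56<|a 8<|a (-48)<|a (-28)<|a (-4)<|a 24<|a 14<|a 2<|a (-12)<|b))<|b)<|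
 a (a (f 18 (a 1<|b) (a 16<|a 16<|a (-2)<|a (-16)<|a (-16)<|a 2<|a 12<|a 12<|a (-6)<|a (-12)<|a (-12)<|a 4<|a 6<|a 6<|a (-6)<|a (-6)<|a (-6)<|a 2<|a 2<|a 2<|a (-2)<|a (-2)<|a (-2)<|b))<|b)<|
 a (a (f 8 (a 1<|b) (a 6<|a 6<|a 0<|a (-7)<|a (-6)<|a (-1)<|a 6<|a 4<|a (-1)<|a (-8)<|a (-5)<|a 0<|a 5<|a 2<|a (-3)<|a (-6)<|a (-4)<|a 1<|a 2<|a 1<|a (-2)<|a (-2)<|a (-2)<|b))<|b)<|
 a (a (f 12 (a 1<|b) (a 10<|a 10<|a (-2)<|a (-11)<|a (-10)<|a 1<|a 8<|a 6<|a (-5)<|a (-10)<|a (-7)<|a 2<|a 5<|a 2<|a (-5)<|a (-6)<|a (-4)<|a 1<|a 2<|a 1<|a (-2)<|a (-2)<|a (-2)<|b))<|b)<|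
 a (a (f 2 (a 1<|b) (a 0<|a 0<|a 0<|a (-1)<|a (-2)<|a (-3)<|a (-2)<|a 0<|a 1<|a (-2)<|a (-5)<|a (-4)<|a (-1)<|a 2<|a (-1)<|a (-4)<|a (-6)<|a (-1)<|a 0<|a 1<|a (-2)<|a (-2)<|a (-2)<|b))<|b)<|
 a (a (f 6 (a 1<|b) (a 4<|a 4<|a (-2)<|a (-5)<|a (-6)<|a (-1)<|a 0<|a 2<|a (-3)<|a (-4)<|a (-7)<|a (-2)<|a (-1)<|a 2<|a (-3)<|a (-4)<|a (-6)<|a (-1)<|a 0<|a 1<|a (-2)<|a (-2)<|a (-2)<|b))<|b)<|
 a (a (f 4 (a (-1)<|b) (a 6<|a 6<|a 0<|a (-4)<|a (-4)<|a 4<|a 6<|a 6<|a (-2)<|a 0<|a 0<|a 6<|a 2<|a 2<|a 0<|a 4<|a 4<|a 2<|a 0<|a 0<|a 2<|a 2<|a 2<|b))<|b)<|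
 a b<|b))<|
 a (d 8 (a b<|
 a (a (g 1 2 (a 0<|a (-1)<|a 2<|a (-1)<|b) (a 2<|a 0<|a 0<|a 0<|a (-2)<|a 0<|a 0<|a 0<|a 2<|a 0<|a 0<|a (-1)<|a 0<|a (-1)<|a 1<|a (-1)<|a 1<|a 1<|a (-1)<|a 1<|a (-2)<|a 1<|b))<|b)<|
 a b<|
 a (a (g 1 2 (a 0<|a (-1)<|a 2<|a (-1)<|b) (a 2<|a 0<|a 0<|a 0<|a (-2)<|a 0<|a 0<|a 0<|a 2<|a 0<|a 0<|a (-1)<|a 0<|a (-1)<|a 1<|a (-1)<|a 1<|a 1<|a (-1)<|a 1<|a (-2)<|a 1<|b))<|b)<|
 a (a (g 3 4 (a 0<|a 1<|a 1<|b) (a 4<|a 0<|a 0<|a 0<|a (-4)<|a 0<|a 0<|a 0<|a 4<|a 0<|a (-1)<|a 1<|a (-2)<|a (-1)<|a 1<|a 0<|a 1<|a 1<|a 0<|a (-1)<|a (-1)<|b))<|b)<|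
 a (a (g 3 4 (a 0<|a 1<|a 1<|b) (a 4<|a 0<|a 0<|a 0<|a (-4)<|a 0<|a 0<|a 0<|a 4<|a 0<|a (-1)<|a 1<|a (-2)<|a (-1)<|a 1<|a 0<|a 1<|a 1<|a 0<|a (-1)<|a (-1)<|b))<|b)<|
 a (a (g 3 4 (a 0<|a 1<|a 1<|b) (a 4<|a 0<|a 0<|a 0<|a (-4)<|a 0<|a 0<|a 0<|a 4<|a 0<|a (-1)<|a 1<|a (-2)<|a (-1)<|a 1<|a 0<|a 1<|a 1<|a 0<|a (-1)<|a (-1)<|b))<|b)<|
 a (a (g 3 4 (a 0<|a 1<|a 1<|b) (a 4<|a 0<|a 0<|a 0<|a (-4)<|a 0<|a 0<|a 0<|a 4<|a 0<|a (-1)<|a 1<|a (-2)<|a (-1)<|a 1<|a 0<|a 1<|a 1<|a 0<|a (-1)<|a (-1)<|b))<|b)<|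
 a (a (g 4 2 (a 1<|a 0<|a 1<|b) (a 2<|a 0<|a 0<|a 0<|a (-2)<|a 0<|a 0<|a 0<|a 2<|a (-1)<|a 1<|a (-1)<|a 0<|a 0<|a 0<|a 1<|a 0<|a 1<|a (-1)<|a 0<|a (-1)<|b))<|b)<|
 a (a (g 4 2 (a 1<|a 0<|a 1<|b) (a 2<|a 0<|a 0<|a 0<|a (-2)<|a 0<|a 0<|a 0<|a 2<|a (-1)<|a 1<|a (-1)<|a 0<|a 0<|a 0<|a 1<|a 0<|a 1<|a (-1)<|a 0<|a (-1)<|b))<|b)<|
 a (a (g 4 2 (a 1<|a 0<|a 1<|b) (a 2<|a 0<|a 0<|a 0<|a (-2)<|a 0<|a 0<|a 0<|a 2<|a (-1)<|a 1<|a (-1)<|a 0<|a 0<|a 0<|a 1<|a 0<|a 1<|a (-1)<|a 0<|a (-1)<|b))<|b)<|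
 a (a (g 4 2 (a 1<|a 0<|a 1<|b) (a 2<|a 0<|a 0<|a 0<|a (-2)<|a 0<|a 0<|a 0<|a 2<|a (-1)<|a 1<|a (-1)<|a 0<|a 0<|a 0<|a 1<|a 0<|a 1<|a (-1)<|a 0<|a (-1)<|b))<|b)<|
 a (a (g 4 2 (a 1<|a 0<|a 1<|b) (a 2<|a 0<|a 0<|a 0<|a (-2)<|a 0<|a 0<|a 0<|a 2<|a (-1)<|a 1<|a (-1)<|a 0<|a 0<|a 0<|a 1<|a 0<|a 1<|a (-1)<|a 0<|a (-1)<|b))<|b)<|
 a (a (g 4 2 (a 1<|a 0<|a 1<|b) (a 2<|a 0<|a 0<|a 0<|a (-2)<|a 0<|a 0<|a 0<|a 2<|a (-1)<|a 1<|a (-1)<|a 0<|a 0<|a 0<|a 1<|a 0<|a 1<|a (-1)<|a 0<|a (-1)<|b))<|b)<|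
 a (a (g 4 2 (a 1<|a 0<|a 1<|b) (a 2<|a 0<|a 0<|a 0<|a (-2)<|a 0<|a 0<|a 0<|a 2<|a (-1)<|a 1<|a (-1)<|a 0<|a 0<|a 0<|a 1<|a 0<|a 1<|a (-1)<|a 0<|a (-1)<|b))<|b)<|
 a (a (g 4 2 (a 1<|a 0<|a 1<|b) (a 2<|a 0<|a 0<|a 0<|a (-2)<|a 0<|a 0<|a 0<|a 2<|a (-1)<|a 1<|a (-1)<|a 0<|a 0<|a 0<|a 1<|a 0<|a 1<|a (-1)<|a 0<|a (-1)<|b))<|b)<|b))<|
 a (d 10 (a (a (f 2 (a 1<|b) b)<|b)<|
 a (a (f 2 (a 1<|b) (a 0<|a 0<|a (-2)<|a 0<|a 0<|a 0<|a (-2)<|a 0<|a (-2)<|a 0<|a 0<|a 0<|a (-2)<|b))<|b)<|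
 a (a (f 2 (a 1<|b) (a 0<|a 0<|a 0<|a (-1)<|a 0<|a (-1)<|a 1<|a 0<|a 1<|a (-2)<|a 0<|a (-2)<|a 1<|a 0<|a 1<|a (-1)<|a 0<|a (-1)<|b))<|b)<|
 a (a (f 2 (a 1<|b) (a 0<|a 0<|a (-2)<|a (-1)<|a 0<|a (-1)<|a (-1)<|a 0<|a (-1)<|a (-2)<|a 0<|a (-2)<|a (-1)<|a 0<|a 1<|a (-1)<|a 0<|a (-1)<|b))<|b)<|
 a (a (f 2 (a 1<|b) (a 0<|a 0<|a 0<|a (-1)<|a (-2)<|a (-3)<|a (-1)<|a 0<|a 1<|a (-2)<|a (-2)<|a (-2)<|a 1<|a 0<|a (-1)<|a (-3)<|a (-2)<|a (-1)<|b))<|b)<|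
 a (a (f 2 (a 1<|b) (a 0<|a 0<|a (-2)<|a (-1)<|a (-2)<|a (-3)<|a (-3)<|a 0<|a (-1)<|a (-2)<|a (-2)<|a (-2)<|a (-1)<|a 0<|a (-1)<|a (-3)<|a (-2)<|a (-1)<|b))<|b)<|
 a (a (f 2 (a 1<|b) (a 0<|a 0<|a 0<|a (-2)<|a (-2)<|a (-4)<|a 0<|a 0<|a 2<|a (-4)<|a (-2)<|a (-4)<|a 2<|a 0<|a 0<|a (-4)<|a (-2)<|a (-2)<|b))<|b)<|
 a (a (f 2 (a 1<|b) (a 0<|a 0<|a (-2)<|a (-2)<|a (-2)<|a (-4)<|a (-2)<|a 0<|a 0<|a (-4)<|a (-2)<|a (-4)<|a 0<|a 0<|a 0<|a (-4)<|a (-2)<|a (-2)<|b))<|b)<|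
 a b<|
 a (a (g 1 5 (a (-3)<|a 1<|a 1<|a (-3)<|b) (a 5<|a 5<|a 0<|a 0<|a 0<|a (-5)<|a (-5)<|a 0<|a 0<|a 0<|a 2<|a 3<|a 2<|a 1<|a (-1)<|a (-4)<|a (-1)<|a 1<|a (-1)<|a (-2)<|a 2<|a 3<|b))<|b)<|
 a (a (g 2 5 (a 4<|a (-3)<|a 2<|a (-1)<|b) (a 5<|a 5<|a 0<|a 0<|a 0<|a (-5)<|a (-5)<|a 0<|a 0<|a (-4)<|a 4<|a 6<|a 3<|a (-2)<|a 2<|a 2<|a (-3)<|a (-2)<|a (-2)<|a 1<|a (-1)<|a 1<|b))<|b)<|
 a (a (g 1 5 (a (-3)<|a 1<|a 1<|a (-3)<|b) (a 5<|a 5<|a 0<|a 0<|a 0<|a (-5)<|a (-5)<|a 0<|a 0<|a 0<|a 2<|a 3<|a 2<|a 1<|a (-1)<|a (-4)<|a (-1)<|a 1<|a (-1)<|a (-2)<|a 2<|a 3<|b))<|b)<|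
 a b<|
 a (a (g 1 5 (a (-3)<|a 1<|a 1<|a (-3)<|b) (a 5<|a 5<|a 0<|a 0<|a 0<|a (-5)<|a (-5)<|a 0<|a 0<|a 0<|a 2<|a 3<|a 2<|a 1<|a (-1)<|a (-4)<|a (-1)<|a 1<|a (-1)<|a (-2)<|a 2<|a 3<|b))<|b)<|
 a (a (g 2 5 (a 4<|a (-3)<|a 2<|a (-1)<|b) (a 5<|a 5<|a 0<|a 0<|a 0<|a (-5)<|a (-5)<|a 0<|a 0<|a (-4)<|a 4<|a 6<|a 3<|a (-2)<|a 2<|a 2<|a (-3)<|a (-2)<|a (-2)<|a 1<|a (-1)<|a 1<|b))<|b)<|
 a (a (g 1 5 (a (-3)<|a 1<|a 1<|a (-3)<|b) (a 5<|a 5<|a 0<|a 0<|a 0<|a (-5)<|a (-5)<|a 0<|a 0<|a 0<|a 2<|a 3<|a 2<|a 1<|a (-1)<|a (-4)<|a (-1)<|a 1<|a (-1)<|a (-2)<|a 2<|a 3<|b))<|b)<|b))<|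
 a (d 12 (a (a (f 2 (a 1<|b) b)<|b)<|
 a (a (f 2 (a 1<|b) (a 0<|a 0<|a (-2)<|a 2<|a (-4)<|a 4<|a (-6)<|a 4<|a (-6)<|a 4<|a (-4)<|a 2<|a (-2)<|b))<|b)<|
 a (a (f 2 (a 1<|b) (a 0<|a 0<|a 0<|a (-1)<|a 1<|a (-3)<|a 4<|a (-5)<|a 6<|a (-7)<|a 6<|a (-7)<|a 6<|a (-5)<|a 4<|a (-3)<|a 1<|a (-1)<|b))<|b)<|
 a (a (f 2 (a 1<|b) (a 0<|a 0<|a (-2)<|a 1<|a (-3)<|a 1<|a (-2)<|a (-1)<|a 0<|a (-3)<|a 2<|a (-5)<|a 4<|a (-5)<|a 4<|a (-3)<|a 1<|a (-1)<|b))<|b)<|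
 a b<|
 a (a (g 1 2 (a 0<|a 1<|a 0<|a (-1)<|b) (a 2<|a 0<|a 2<|a 0<|a 0<|a 0<|a (-2)<|a 0<|a (-2)<|a 0<|a 0<|a 1<|a 2<|a 0<|a 1<|a (-1)<|a 0<|a (-1)<|a (-1)<|a 0<|a 0<|a 1<|b))<|b)<|
 a (a (g 2 4 (a (-1)<|a 1<|a 1<|b) (a 4<|a 0<|a 4<|a 0<|a 0<|a 0<|a (-4)<|a 0<|a (-4)<|a 1<|a (-1)<|a 0<|a 2<|a 1<|a 3<|a (-1)<|a 1<|a 0<|a 0<|a (-1)<|a (-1)<|b))<|b)<|
 a (a (g 2 4 (a (-1)<|a 1<|a 1<|b) (a 4<|a 0<|a 4<|a 0<|a 0<|a 0<|a (-4)<|a 0<|a (-4)<|a 1<|a (-1)<|a 0<|a 2<|a 1<|a 3<|a (-1)<|a 1<|a 0<|a 0<|a (-1)<|a (-1)<|b))<|b)<|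
 a (a (f 2 (a 1<|b) (a 0<|a 0<|a 0<|a 0<|a 0<|a 0<|a (-2)<|a 0<|a (-4)<|a 2<|a (-4)<|a 4<|a (-6)<|a 4<|a (-6)<|a 4<|a (-4)<|a 2<|a (-4)<|a 0<|a (-2)<|b))<|b)<|
 a (a (f 2 (a 1<|b) (a 0<|a 0<|a (-2)<|a 2<|a (-4)<|a 4<|a (-8)<|a 4<|a (-10)<|a 6<|a (-8)<|a 6<|a (-8)<|a 4<|a (-6)<|a 4<|a (-4)<|a 2<|a (-4)<|a 0<|a (-2)<|b))<|b)<|
 a (a (f 2 (a 1<|b) (a 0<|a 0<|a 0<|a (-1)<|a 1<|a (-3)<|a 2<|a (-5)<|a 2<|a (-5)<|a 2<|a (-3)<|a 0<|a (-1)<|a (-2)<|a 1<|a (-3)<|a 1<|a (-4)<|a 0<|a (-2)<|b))<|b)<|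
 a (a (f 2 (a 1<|b) (a 0<|a 0<|a (-2)<|a 1<|a (-3)<|a 1<|a (-4)<|a (-1)<|a (-4)<|a (-1)<|a (-2)<|a (-1)<|a (-2)<|a (-1)<|a (-2)<|a 1<|a (-3)<|a 1<|a (-4)<|a 0<|a (-2)<|b))<|b)<|
 a (a (g 4 2 (a (-1)<|a 0<|a 1<|a 1<|b) (a 2<|a 0<|a 2<|a 0<|a 0<|a 0<|a (-2)<|a 0<|a (-2)<|a 1<|a (-1)<|a 0<|a 0<|a 1<|a 2<|a 0<|a 1<|a 0<|a 1<|a (-1)<|a (-1)<|a (-1)<|b))<|b)<|
 a (a (g 1 2 (a 0<|a 1<|a 0<|a (-1)<|b) (a 2<|a 0<|a 2<|a 0<|a 0<|a 0<|a (-2)<|a 0<|a (-2)<|a 0<|a 0<|a 1<|a 2<|a 0<|a 1<|a (-1)<|a 0<|a (-1)<|a (-1)<|a 0<|a 0<|a 1<|b))<|b)<|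
 a (a (g 2 4 (a (-1)<|a 1<|a 1<|b) (a 4<|a 0<|a 4<|a 0<|a 0<|a 0<|a (-4)<|a 0<|a (-4)<|a 1<|a (-1)<|a 0<|a 2<|a 1<|a 3<|a (-1)<|a 1<|a 0<|a 0<|a (-1)<|a (-1)<|b))<|b)<|
 a (a (g 2 4 (a (-1)<|a 1<|a 1<|b) (a 4<|a 0<|a 4<|a 0<|a 0<|a 0<|a (-4)<|a 0<|a (-4)<|a 1<|a (-1)<|a 0<|a 2<|a 1<|a 3<|a (-1)<|a 1<|a 0<|a 0<|a (-1)<|a (-1)<|b))<|b)<|b))<|
 a (d 18 (a (a (f 2 (a 1<|b) b)<|b)<|
 a b<|
 a (a (f 2 (a 1<|b) (a 0<|a 0<|a 0<|a (-1)<|a 1<|a (-2)<|a 2<|a (-2)<|a 1<|a (-2)<|a 1<|a (-2)<|a 2<|a (-2)<|a 1<|a (-1)<|b))<|b)<|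
 a (a (g 2 3 (a 2<|a (-1)<|a (-1)<|a (-1)<|a (-1)<|a 2<|b) (a 3<|a 0<|a 0<|a 3<|a 0<|a 0<|a 0<|a 0<|a 0<|a (-5)<|a 1<|a 1<|a (-2)<|a (-1)<|a (-1)<|a 5<|a (-1)<|a (-1)<|a 1<|a 1<|a 1<|a (-2)<|b))<|b)<|
 a (a (f 2 (a 1<|b) (a 0<|a 0<|a 0<|a (-1)<|a (-1)<|a (-2)<|a 0<|a (-2)<|a (-1)<|a (-4)<|a (-1)<|a (-2)<|a 0<|a (-2)<|a (-1)<|a (-1)<|b))<|b)<|
 a b<|
 a (a (f 2 (a 1<|b) (a 0<|a 0<|a 0<|a (-2)<|a 0<|a (-4)<|a 2<|a (-4)<|a 0<|a (-6)<|a 0<|a (-4)<|a 2<|a (-4)<|a 0<|a (-2)<|b))<|b)<|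
 a (a (g 2 3 (a 2<|a (-1)<|a (-1)<|a (-1)<|a (-1)<|a 2<|b) (a 3<|a 0<|a 0<|a 3<|a 0<|a 0<|a 0<|a 0<|a 0<|a (-5)<|a 1<|a 1<|a (-2)<|a (-1)<|a (-1)<|a 5<|a (-1)<|a (-1)<|a 1<|a 1<|a 1<|a (-2)<|b))<|b)<|
 a (a (f 2 (a 1<|b) (a 0<|a 0<|a 0<|a 0<|a 0<|a 0<|a (-2)<|a 0<|a (-2)<|a 0<|a (-2)<|a 0<|a (-4)<|a 0<|a (-2)<|a 0<|a (-2)<|a 0<|a (-2)<|b))<|b)<|
 a (a (g 4 3 (a 1<|a 0<|a 0<|a (-2)<|b) (a 3<|a 0<|a 0<|a 3<|a 0<|a 0<|a 0<|a 0<|a 0<|a (-4)<|a 1<|a 0<|a (-1)<|a (-2)<|a 0<|a 2<|a (-1)<|a 0<|a 0<|a 2<|b))<|b)<|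
 a (a (f 2 (a 1<|b) (a 0<|a 0<|a 0<|a (-1)<|a 1<|a (-2)<|a 0<|a (-2)<|a (-1)<|a (-2)<|a (-1)<|a (-2)<|a (-2)<|a (-2)<|a (-1)<|a (-1)<|a (-2)<|a 0<|a (-2)<|b))<|b)<|
 a (a (g 4 3 (a 1<|a 0<|a 0<|a (-2)<|b) (a 3<|a 0<|a 0<|a 3<|a 0<|a 0<|a 0<|a 0<|a 0<|a (-4)<|a 1<|a 0<|a (-1)<|a (-2)<|a 0<|a 2<|a (-1)<|a 0<|a 0<|a 2<|b))<|b)<|
 a (a (f 2 (a 1<|b) (a 0<|a 0<|a 0<|a (-1)<|a (-1)<|a (-2)<|a (-2)<|a (-2)<|a (-3)<|a (-4)<|a (-3)<|a (-2)<|a (-4)<|a (-2)<|a (-3)<|a (-1)<|a (-2)<|a 0<|a (-2)<|b))<|b)<|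
 a (a (g 4 3 (a 1<|a 0<|a 0<|a (-2)<|b) (a 3<|a 0<|a 0<|a 3<|a 0<|a 0<|a 0<|a 0<|a 0<|a (-4)<|a 1<|a 0<|a (-1)<|a (-2)<|a 0<|a 2<|a (-1)<|a 0<|a 0<|a 2<|b))<|b)<|
 a (a (f 2 (a 1<|b) (a 0<|a 0<|a 0<|a (-2)<|a 0<|a (-4)<|a 0<|a (-4)<|a (-2)<|a (-6)<|a (-2)<|a (-4)<|a (-2)<|a (-4)<|a (-2)<|a (-2)<|a (-2)<|a 0<|a (-2)<|b))<|b)<|
 a (a (g 4 3 (a 1<|a 0<|a 0<|a (-2)<|b) (a 3<|a 0<|a 0<|a 3<|a 0<|a 0<|a 0<|a 0<|a 0<|a (-4)<|a 1<|a 0<|a (-1)<|a (-2)<|a 0<|a 2<|a (-1)<|a 0<|a 0<|a 2<|b))<|b)<|b))<|b))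

/-- the data -/
def dat : Dat 5 where
  P := FullTwEb.pol
  NQ e := (beta% delta% lq260e3a7772 fun a b _ _ _ _ j _ _ =>
 ((a b<|a b<|a (a 1<|a (-1)<|a 2<|a (-2)<|a 3<|a (-2)<|a 3<|a (-2)<|a 3<|a (-1)<|a 2<|a 0<|a 0<|a 2<|a (-1)<|a 3<|a (-2)<|a 3<|a (-2)<|a 3<|a (-2)<|a 2<|a (-1)<|a 1<|b)<|a (a 1<|a (-1)<|a 1<|a 0<|a 0<|a 1<|a 0<|a 0<|a 1<|a 1<|a (-1)<|a 2<|a (-1)<|a 1<|a 1<|a 0<|a 0<|a 1<|a 0<|a 0<|a 1<|a (-1)<|a 1<|b)<|a (a 1<|a 0<|a 0<|a 0<|a 1<|a 1<|a 0<|a 0<|a 1<|a 2<|a 0<|a 0<|a 0<|a 2<|a 1<|a 0<|a 0<|a 1<|a 1<|a 0<|a 0<|a 0<|a 1<|b)<|a b<|a (a 1<|a 1<|a 1<|a 0<|a 0<|a 1<|a 2<|a 2<|a 1<|a 1<|a 1<|a 2<|a 1<|a 1<|a 1<|a 2<|a 2<|a 1<|a 0<|a 0<|a 1<|a 1<|a 1<|b)<|a b<|a b<|a b<|a (a 1<|a 1<|a 1<|a 1<|a 1<|a 1<|a 1<|a 1<|a 1<|a 2<|a 2<|a 2<|a 1<|a 1<|a 1<|a 1<|a 1<|a 1<|a 1<|a 1<|a 1<|b)<|a b<|a (a 1<|a 0<|a 2<|a 0<|a 2<|a 1<|a 1<|a 2<|a 0<|a 3<|a 0<|a 3<|a 0<|a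 2<|a 1<|a 1<|a 2<|a 0<|a 2<|a 0<|a 1<|b)<|a b<|a b<|a b<|a b<|a b<|a (a 1<|a 0<|a 1<|a 1<|a 1<|a 2<|a 1<|a 2<|a 2<|a 2<|a 2<|a 2<|a 1<|a 2<|a 1<|a 1<|a 1<|a 0<|a 1<|b)<|b) :type_of% (j _)).getD e b)
  W c := (beta% delta% lq260e3a7772 fun a b _ _ _ _ j _ _ =>
 ((a (a 1<|b)<|a (a 1<|b)<|a (a 0<|a 0<|a 0<|a 1<|b)<|a (a 0<|a 0<|a 0<|a 0<|a 0<|a 1<|b)<|a (a 0<|a 0<|a 0<|a 0<|a 0<|a 0<|a 0<|a 0<|a 0<|a 1<|b)<|b) :type_of% (j _)).getD c b)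
  t c i := (beta% delta% lq260e3a7772 fun a b _ _ _ _ _ _ l =>
 (((a (a (a 2<|b)<|a (a 0<|a 0<|a 2<|a (-2)<|a 2<|a (-2)<|a 4<|a (-2)<|a 4<|a (-4)<|a 4<|a (-2)<|a 4<|a (-2)<|a 2<|a (-2)<|a 2<|b)<|a (a 0<|a 0<|a 0<|a 1<|a (-1)<|a 2<|a (-3)<|a 3<|a (-3)<|a 5<|a (-4)<|a 5<|a (-6)<|a 5<|a (-4)<|a 5<|a (-3)<|a 3<|a (-3)<|a 2<|a (-1)<|a 1<|b)<|a (a 0<|a 0<|a 0<|a 1<|a 1<|a 2<|a (-1)<|a 1<|a (-1)<|a 5<|a 0<|a 3<|a (-4)<|a 3<|a 0<|a 5<|a (-1)<|a 1<|a (-1)<|a 2<|a 1<|a 1<|b)<|a (a 0<|a 0<|a 0<|a 0<|a 0<|a 0<|a 2<|a 0<|a 2<|a (-2)<|a 2<|a (-2)<|a 6<|a (-2)<|a 4<|a (-4)<|a 4<|a (-2)<|a 6<|a (-2)<|a 2<|a (-2)<|a 2<|a 0<|a 2<|b)<|b)<|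
 a (a (a 2<|b)<|a (a (-2)<|a 2<|a 0<|a 2<|a (-2)<|a 0<|a (-2)<|a 4<|a 0<|a 2<|a (-2)<|a 0<|a 0<|a 2<|b)<|a (a 0<|a (-1)<|a 1<|a (-1)<|a 2<|a (-2)<|a 1<|a (-3)<|a 3<|a (-2)<|a 3<|a (-3)<|a 1<|a (-2)<|a 2<|a (-1)<|a 1<|a (-1)<|b)<|a (a 0<|a (-1)<|a (-1)<|a (-1)<|a 2<|a 2<|a 1<|a (-3)<|a (-3)<|a 0<|a 3<|a 3<|a (-1)<|a (-2)<|a (-2)<|a 1<|a 1<|a 1<|b)<|a (a 0<|a 0<|a 0<|a 0<|a (-2)<|a 0<|a 0<|a 2<|a 0<|a 0<|a (-4)<|a 0<|a 0<|a 2<|a 0<|a 0<|a (-2)<|b)<|b)<|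
 a (a (a 0<|a 0<|a 0<|a 2<|b)<|a (a (-2)<|a 2<|a (-2)<|a 2<|a (-2)<|a 2<|a (-4)<|a 4<|a (-4)<|a 4<|a (-2)<|a 2<|a (-2)<|a 2<|a (-2)<|a 2<|b)<|a (a 1<|a (-1)<|a 2<|a (-3)<|a 3<|a (-3)<|a 5<|a (-4)<|a 5<|a (-6)<|a 5<|a (-4)<|a 5<|a (-3)<|a 3<|a (-3)<|a 2<|a (-1)<|a 1<|b)<|a (a 1<|a (-1)<|a 0<|a (-3)<|a 1<|a (-1)<|a 3<|a (-2)<|a 1<|a (-4)<|a 1<|a (-2)<|a 3<|a (-1)<|a 1<|a (-3)<|a 0<|a (-1)<|a 1<|b)<|a (a 0<|a 0<|a 0<|a 2<|a (-2)<|a 2<|a (-4)<|a 2<|a (-2)<|a 6<|a (-4)<|a 4<|a (-6)<|a 2<|a (-2)<|a 4<|a (-2)<|a 2<|a (-2)<|b)<|b)<|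
 a (a (a 0<|a 0<|a 0<|a 0<|a 0<|a 2<|b)<|a (a 0<|a (-2)<|a 0<|a 0<|a 2<|a (-2)<|a 0<|a (-4)<|a 2<|a 0<|a 2<|a (-2)<|a 0<|a (-2)<|a 2<|b)<|a (a (-1)<|a 1<|a (-1)<|a 2<|a (-2)<|a 1<|a (-3)<|a 3<|a (-2)<|a 3<|a (-3)<|a 1<|a (-2)<|a 2<|a (-1)<|a 1<|a (-1)<|b)<|a (a 1<|a 1<|a 1<|a (-2)<|a (-2)<|a (-1)<|a 3<|a 3<|a 0<|a (-3)<|a (-3)<|a 1<|a 2<|a 2<|a (-1)<|a (-1)<|a (-1)<|b)<|a (a 0<|a 0<|a 0<|a 0<|a 2<|a 0<|a 0<|a (-2)<|a 0<|a 0<|a 4<|a 0<|a 0<|a (-2)<|a 0<|a 0<|a 2<|b)<|b)<|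
 a (a (a 0<|a 0<|a 0<|a 0<|a 0<|a 0<|a 0<|a 0<|a 0<|a 2<|b)<|a (a 0<|a 0<|a (-2)<|a 2<|a (-2)<|a 2<|a (-4)<|a 2<|a (-4)<|a 4<|a (-4)<|a 2<|a (-4)<|a 2<|a (-2)<|a 2<|a (-2)<|b)<|a (a 1<|a (-1)<|a 2<|a (-3)<|a 3<|a (-3)<|a 5<|a (-4)<|a 5<|a (-6)<|a 5<|a (-4)<|a 5<|a (-3)<|a 3<|a (-3)<|a 2<|a (-1)<|a 1<|b)<|a (a 1<|a 1<|a 2<|a (-1)<|a 1<|a (-1)<|a 5<|a 0<|a 3<|a (-4)<|a 3<|a 0<|a 5<|a (-1)<|a 1<|a (-1)<|a 2<|a 1<|a 1<|b)<|a (a (-2)<|a 0<|a (-2)<|a 2<|a (-2)<|a 2<|a (-6)<|a 2<|a (-4)<|a 4<|a (-4)<|a 2<|a (-6)<|a 2<|a (-2)<|a 2<|a (-2)<|a 0<|a (-2)<|b)<|b)<|b) :type_of% (l _)).getD c b).getD i b)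

theorem dat_ok : dat.Ok := by decide +kernel

theorem kl : ∀ ef ∈ [(10, 12)], Kl dat tab (ef : ℕ × ℕ).1 ef.2 := by decide +kernel

end Cfsg.Agent.H632.PQ.TwEb
end

-- part: H632/PQ/DiffE6
section
/-!
# Different orders: `E₆(q)` and `²E₆(q)` (helper632, for S4612)

`kill_E6` : all pairs but `(2, 3)`, `(2, 6)`, `(3, 6)`; `kill_2E6` : all pairs but `(2, 6)`, `(4, 12)`;
`killTwo_E6`, `killTwo_2E6` : by characters of odd degree and defect zero.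
-/

set_option autoImplicit false
set_option maxRecDepth 20000

namespace Cfsg.Agent.H632.PQ

open Cfsg Cfsg.Lie Cfsg.Agent.H317.PQ Cfsg.Agent.H632.PQ.Arith Cfsg.Agent.H996.PQ Cfsg.Agent.H996.Eight.Cert

universe u

theorem ev1 (x : ℤ) : evZ x (Phi 1) = x - 1 := by show evZ x [-1, 1] = _; simp only [evZ]; ring
theorem ev2 (x : ℤ) : evZ x (Phi 2) = x + 1 := by show evZ x [1, 1] = _; simp only [evZ]; ring
theorem ev3 (x : ℤ) : evZ x (Phi 3) = x ^ 2 + x + 1 := by show evZ x [1, 1, 1] = _; simp only [evZ]; ring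
theorem ev4 (x : ℤ) : evZ x (Phi 4) = x ^ 2 + 1 := by show evZ x [1, 0, 1] = _; simp only [evZ]; ring
theorem ev5 (x : ℤ) : evZ x (Phi 5) = x ^ 4 + x ^ 3 + x ^ 2 + x + 1 := by
  show evZ x [1, 1, 1, 1, 1] = _; simp only [evZ]; ring
theorem ev6 (x : ℤ) : evZ x (Phi 6) = x ^ 2 - x + 1 := by show evZ x [1, -1, 1] = _; simp only [evZ]; ring
theorem ev8 (x : ℤ) : evZ x (Phi 8) = x ^ 4 + 1 := by show evZ x [1, 0, 0, 0, 1] = _; simp only [evZ]; ring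
theorem ev9 (x : ℤ) : evZ x (Phi 9) = x ^ 6 + x ^ 3 + 1 := by
  show evZ x [1, 0, 0, 1, 0, 0, 1] = _; simp only [evZ]; ring
theorem ev10 (x : ℤ) : evZ x (Phi 10) = x ^ 4 - x ^ 3 + x ^ 2 - x + 1 := by
  show evZ x [1, -1, 1, -1, 1] = _; simp only [evZ]; ring
theorem ev12 (x : ℤ) : evZ x (Phi 12) = x ^ 4 - x ^ 2 + 1 := by
  show evZ x [1, 0, -1, 0, 1] = _; simp only [evZ]; ring
theorem ev18 (x : ℤ) : evZ x (Phi 18) = x ^ 6 - x ^ 3 + 1 := by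
  show evZ x [1, 0, 0, -1, 0, 0, 1] = _; simp only [evZ]; ring

namespace E6b

/-- certificates of defect zero -/
def dz : List (DzC 5) := (beta% delta% lq260e3a7772 fun a b d _ _ _ _ k _ =>
 (a (k 5 3 (a 5<|b) (a 0<|a 0<|a 0<|a 1<|a 0<|a (-1)<|a 1<|a 2<|a (-1)<|a 0<|a 2<|a 0<|a (-1)<|a 2<|a 1<|a (-1)<|a 0<|a 1<|b) (a (d 1<|d 5<|d (a (-4)<|a (-3)<|a (-2)<|a (-1)<|b) (a 1<|b))<|a (d 2<|d 1<|d (a 0<|a (-1)<|a 0<|a (-1)<|b) (a 1<|b))<|a (d 3<|d 1<|d (a 1<|a 0<|a 0<|a 1<|b) (a 0<|a (-1)<|b))<|a (d 4<|d 1<|d (a 0<|a (-1)<|a (-1)<|b) (a 1<|b))<|a (d 6<|d 1<|d (a 1<|a 2<|a 2<|a 1<|b) (a 0<|a (-1)<|b))<|a (d 8<|d 1<|d (a 1<|a 1<|a 0<|a 1<|b) (a 0<|a (-1)<|a 1<|a (-1)<|b))<|a (d 9<|d 1<|d (a 0<|a (-1)<|a (-1)<|a (-1)<|b) (a 1<|a 0<|a 0<|a 0<|a 0<|a 1<|b))<|a (d 12<|d 1<|d (a (-1)<|a (-1)<|a 0<|a (-2)<|b) (a 2<|a (-1)<|a (-2)<|a 2<|b))<|b))<|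
 a (k 8 3 (a 8<|b) (a 0<|a 0<|a 0<|a 1<|a 1<|a 0<|a 1<|a 2<|a 0<|a 1<|a 3<|a 1<|a 0<|a 2<|a 1<|a 0<|a 1<|a 1<|b) (a (d 1<|d 2<|d (a (-1)<|a (-1)<|a (-1)<|a (-1)<|b) (a 1<|b))<|a (d 2<|d 2<|d (a 1<|a (-1)<|a 1<|a (-1)<|b) (a 1<|b))<|a (d 3<|d 1<|d (a 1<|a 0<|a (-1)<|a 1<|b) (a 0<|a (-1)<|b))<|a (d 4<|d 2<|d (a 1<|a 0<|a (-1)<|b) (a 1<|b))<|a (d 5<|d 1<|d (a 0<|a (-1)<|a 1<|a (-1)<|b) (a 1<|a 1<|a 0<|a 1<|b))<|a (d 6<|d 1<|d (a 1<|a 0<|a (-1)<|a (-1)<|b) (a 0<|a 1<|b))<|a (d 9<|d 1<|d (a 1<|a 1<|a 1<|b) (a 0<|a (-1)<|a (-1)<|a (-1)<|a (-1)<|b))<|a (d 12<|d 1<|d (a 0<|a 0<|a 1<|b) (a 1<|a 0<|a (-1)<|b))<|b))<|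
 a (k 9 3 (a 9<|b) (a 0<|a 0<|a 0<|a 1<|a 1<|a 0<|a 0<|a 2<|a 1<|a 0<|a 1<|a 2<|a 0<|a 0<|a 1<|a 1<|b) (a (d 1<|d 3<|d (a (-2)<|a (-2)<|a (-2)<|a (-1)<|a (-1)<|a (-1)<|b) (a 1<|b))<|a (d 2<|d 1<|d (a 0<|a 0<|a 0<|a (-1)<|a 1<|a (-1)<|b) (a 1<|b))<|a (d 3<|d 3<|d (a 2<|a (-2)<|a 0<|a 1<|a (-1)<|b) (a 1<|b))<|a (d 4<|d 1<|d (a 1<|a (-1)<|a (-1)<|a 1<|a 0<|a (-1)<|b) (a 0<|a 1<|b))<|a (d 5<|d 1<|d (a 1<|a 0<|a 0<|a 0<|a 0<|a 1<|b) (a 0<|a (-1)<|a (-1)<|a (-1)<|b))<|a (d 6<|d 1<|d (a 0<|a 0<|a 0<|a (-1)<|a (-1)<|b) (a 1<|b))<|a (d 8<|d 1<|d (a 0<|a (-1)<|a (-1)<|a (-1)<|a (-1)<|b) (a 1<|a 1<|a 1<|b))<|a (d 12<|d 1<|d (a 1<|a 0<|a 1<|a 1<|a 0<|a 1<|b) (a 0<|a 0<|a 0<|a (-1)<|b))<|b))<|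
 a (k 12 3 (a 12<|b) (a 0<|a 0<|a 0<|a 1<|a 1<|a 1<|a 2<|a 3<|a 2<|a 3<|a 4<|a 3<|a 2<|a 3<|a 2<|a 1<|a 1<|a 1<|b) (a (d 1<|d 1<|d (a 0<|a 0<|a (-1)<|a (-1)<|b) (a 1<|b))<|a (d 2<|d 1<|d (a 0<|a 0<|a 1<|a (-1)<|b) (a 1<|b))<|a (d 3<|d 2<|d (a 2<|a (-1)<|a (-1)<|a 1<|b) (a 0<|a (-1)<|b))<|a (d 4<|d 3<|d (a 2<|a 0<|a (-1)<|b) (a 1<|b))<|a (d 5<|d 1<|d (a 2<|a (-1)<|a (-2)<|a 2<|b) (a (-1)<|a (-1)<|a 0<|a (-2)<|b))<|a (d 6<|d 2<|d (a 2<|a 1<|a (-1)<|a (-1)<|b) (a 0<|a 1<|b))<|a (d 8<|d 1<|d (a 1<|a 0<|a (-1)<|b) (a 0<|a 0<|a 1<|b))<|a (d 9<|d 1<|d (a 0<|a 0<|a 0<|a (-1)<|b) (a 1<|a 0<|a 1<|a 1<|a 0<|a 1<|b))<|b))<|b))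

/-- the factors of the order -/
def od : List (ℕ × ℕ) := (beta% delta% lq260e3a7772 fun a b d _ _ _ _ _ _ =>
 (a (d 1 6)<|a (d 2 4)<|a (d 3 3)<|a (d 4 2)<|a (d 5 1)<|a (d 6 2)<|a (d 8 1)<|a (d 9 1)<|a (d 12 1)<|b))

/-- the pairs of orders -/
def prs : List (ℕ × ℕ) := (beta% delta% lq260e3a7772 fun a b d _ _ _ _ _ _ =>
 (a (d 2 4)<|a (d 2 5)<|a (d 2 8)<|a (d 2 9)<|a (d 2 12)<|a (d 3 4)<|a (d 3 5)<|a (d 3 8)<|a (d 3 9)<|a (d 3 12)<|a (d 4 5)<|a (d 4 6)<|a (d 4 8)<|a (d 4 9)<|a (d 4 12)<|a (d 5 6)<|a (d 5 8)<|a (d 5 9)<|a (d 5 12)<|a (d 6 8)<|a (d 6 9)<|a (d 6 12)<|a (d 8 9)<|a (d 8 12)<|a (d 9 12)<|b))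

theorem dz_ok : ∀ c ∈ dz, c.ok dat.P od = true := by decide +kernel

theorem dz_odd : ∀ c ∈ dz, oddC dat.P c.i = true := by decide +kernel

theorem card_dvd (K : Type u) [Field K] [Fintype K] : ((Nat.card ↥(chevE6.group K) : ℕ) : ℤ) ∣
    ((Fintype.card K : ℕ) : ℤ) ^ 36 * (od.map fun d => evZ (Fintype.card K : ℕ) (Phi d.1) ^ d.2).prod := by
  have h := S1063.result (F := K) rfl
  obtain ⟨x, hx⟩ : ∃ x, x = Fintype.card K := ⟨_, rfl⟩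
  rw [← hx] at h ⊢
  have h1 : 1 ≤ x := by rw [hx]; exact Fintype.card_pos
  have h2 := congrArg (fun n : ℕ => (n : ℤ)) h
  simp only [Nat.cast_mul, Nat.cast_pow, Nat.cast_sub (Nat.one_le_pow _ _ h1), Nat.cast_one] at h2
  refine ⟨(Nat.gcd 3 (x - 1) : ℕ), ?_⟩
  rw [mul_comm (Nat.card _ : ℤ), h2]
  simp only [od, List.map_cons, List.map_nil, List.prod_cons, List.prod_nil, ev1, ev2, ev3, ev4, ev5, ev6, ev8, ev9,
    ev12]
  ring

end E6b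

/-- **Type `E₆`: the pairs of odd primes of different orders.** -/
theorem kill_E6 (K : Type u) [Field K] [Fintype K] : ∀ ef ∈ E6b.prs,
    Kill ↥(chevE6.group K) (Fintype.card K) ef.1 ef.2 := by
  have hx : 2 ≤ Fintype.card K := Fintype.one_lt_card
  have hA : ∀ ef ∈ ((beta% delta% lq260e3a7772 fun a b d _ _ _ _ _ _ =>
 (a (d 2 9)<|a (d 2 12)<|a (d 3 4)<|a (d 3 5)<|a (d 3 8)<|a (d 3 9)<|a (d 3 12)<|a (d 4 6)<|a (d 4 9)<|a (d 5 6)<|a (d 5 9)<|a (d 5 12)<|a (d 6 8)<|a (d 6 9)<|a (d 6 12)<|a (d 8 9)<|a (d 8 12)<|a (d 9 12)<|b) :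
 List (ℕ × ℕ)) : List (ℕ × ℕ)),
      Kill ↥(chevE6.group K) (Fintype.card K) ef.1 ef.2 := fun ef h =>
    kill_of E6a.dat_ok hx (fun i => FullE6a.deg hx i)
      (fun p l hp hl hS => FullE6a.sepX (K := K) hp hl hS) (E6a.kl ef h)
  have hB : ∀ ef ∈ ([(2, 4), (2, 8), (4, 5), (4, 8), (4, 12), (5, 8)] : List (ℕ × ℕ)),
      Kill ↥(chevE6.group K) (Fintype.card K) ef.1 ef.2 := fun ef h =>
    kill_of E6b.dat_ok hx (fun i => FullE6b.deg hx i)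
      (fun p l hp hl hS => FullE6b.sepX (K := K) hp hl hS) (E6b.kl ef h)
  have h25 : Kill ↥(chevE6.group K) (Fintype.card K) 2 5 := by
    intro p l hp hl hp2 hl2 _ _ hlG he hf hS
    obtain ⟨S, k, hk, hSk, h0, hT1, hT2, h1, h2⟩ := exists_both E6b.dat_ok (tab := E6b.tab) hx
      (fun i => FullE6b.deg hx i) hp hp2 he hl hl2 hf (FullE6b.sepX (K := K) hp hl hS)
    have key : ∀ k < 2 ^ 5, k.testBit 0 = true → Bad E6b.dat E6b.tab 2 k = false → Bad E6b.dat E6b.tab 5 k = false →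
        k.testBit 3 = true := by decide +kernel
    refine DzC.not_mem (c := E6b.dz.getD 0 ⟨0, 0, [], [], []⟩) (od := E6b.od) (P := E6b.dat.P) (by decide +kernel) hx
      (fun i => FullE6b.deg hx i) Nat.card_pos.ne' (E6b.card_dvd K) hl hl2 hf hlG hT2 ((hSk _).2 (key k hk h0 h1 h2))
  intro ef h
  have hl : ef ∈ ((beta% delta% lq260e3a7772 fun a b d _ _ _ _ _ _ =>
 (a (d 2 9)<|a (d 2 12)<|a (d 3 4)<|a (d 3 5)<|a (d 3 8)<|a (d 3 9)<|a (d 3 12)<|a (d 4 6)<|a (d 4 9)<|a (d 5 6)<|a (d 5 9)<|a (d 5 12)<|a (d 6 8)<|a (d 6 9)<|a (d 6 12)<|a (d 8 9)<|a (d 8 12)<|a (d 9 12)<|b) :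
 List (ℕ × ℕ)) : List (ℕ × ℕ)) ∨
      ef ∈ ([(2, 4), (2, 8), (4, 5), (4, 8), (4, 12), (5, 8)] : List (ℕ × ℕ)) ∨ ef = (2, 5) := by
    revert ef
    decide
  rcases hl with hl | hl | rfl
  · exact hA ef hl
  · exact hB ef hl
  · exact h25

/-- **Type `E₆`: the prime `2`.** -/
theorem killTwo_E6 (K : Type u) [Field K] [Fintype K] (h4 : Fintype.card K % 4 = 3) :
    ∀ f ∈ ([5, 8, 9, 12] : List ℕ), KillTwo ↥(chevE6.group K) (Fintype.card K) f := by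
  have hx : 2 ≤ Fintype.card K := Fintype.one_lt_card
  intro f hf
  obtain ⟨c, hc, rfl⟩ : ∃ c ∈ E6b.dz, c.e = f := by
    revert f
    decide
  exact killTwo_of_dz (E6b.dz_ok c hc) (E6b.dz_odd c hc) h4 hx (fun i => FullE6b.deg hx i) rfl Nat.card_pos.ne'
    (E6b.card_dvd K) (fun p l hp hl hS => FullE6b.sepX (K := K) hp hl hS)

namespace TwEa

/-- certificates of defect zero -/
def dz : List (DzC 5) := (beta% delta% lq260e3a7772 fun a b d _ _ _ _ k _ =>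
 (a (k 3 4 (a 3<|b) (a 0<|a 0<|a 0<|a 1<|a (-1)<|a 1<|a (-2)<|a 3<|a (-2)<|a 3<|a (-4)<|a 3<|a (-2)<|a 3<|a (-2)<|a 1<|a (-1)<|a 1<|b) (a (d 1<|d 3<|d (a (-2)<|a (-1)<|b) (a 1<|b))<|a (d 2<|d 1<|d (a 0<|a (-1)<|b) (a 1<|b))<|a (d 4<|d 1<|d (a 1<|a 1<|b) (a 0<|a (-1)<|b))<|a (d 6<|d 2<|d (a 1<|a 1<|b) (a 1<|a (-1)<|b))<|a (d 8<|d 1<|d (a 0<|a (-1)<|b) (a 1<|a 0<|a (-1)<|a 1<|b))<|a (d 10<|d 1<|d (a 0<|a 1<|b) (a 1<|a (-2)<|a 2<|a (-1)<|b))<|a (d 12<|d 2<|d (a 0<|a (-1)<|b) (a 2<|a (-1)<|a (-1)<|a 1<|b))<|a (d 18<|d 1<|d (a 1<|b) (a 0<|a 0<|a 0<|a 1<|a (-1)<|b))<|b))<|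
 a (k 8 4 (a 8<|b) (a 0<|a 0<|a 0<|a 1<|a 1<|a 2<|a (-1)<|a 0<|a (-2)<|a 3<|a 1<|a 3<|a (-2)<|a 0<|a (-1)<|a 2<|a 1<|a 1<|b) (a (d 1<|d 2<|d (a (-1)<|a (-1)<|a (-1)<|a (-1)<|b) (a 1<|b))<|a (d 2<|d 2<|d (a 1<|a (-1)<|a 1<|a (-1)<|b) (a 1<|b))<|a (d 3<|d 1<|d (a 1<|a 0<|a (-1)<|a 1<|b) (a 0<|a (-1)<|b))<|a (d 4<|d 2<|d (a 1<|a 0<|a (-1)<|b) (a 1<|b))<|a (d 6<|d 1<|d (a 1<|a 0<|a (-1)<|a (-1)<|b) (a 0<|a 1<|b))<|a (d 10<|d 1<|d (a 0<|a 1<|a 1<|a 1<|b) (a 1<|a (-1)<|a 0<|a (-1)<|b))<|a (d 12<|d 1<|d (a 0<|a 0<|a 1<|b) (a 1<|a 0<|a (-1)<|b))<|a (d 18<|d 1<|d (a 1<|a (-1)<|a 1<|b) (a 0<|a 1<|a (-1)<|a 1<|a (-1)<|b))<|b))<|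
 a (k 10 4 (a 10<|b) (a 0<|a 0<|a 0<|a 1<|a 2<|a 3<|a 1<|a 0<|a (-1)<|a 2<|a 2<|a 2<|a (-1)<|a 0<|a 1<|a 3<|a 2<|a 1<|b) (a (d 1<|d 1<|d (a 0<|a (-1)<|a 0<|a (-1)<|b) (a 1<|b))<|a (d 2<|d 5<|d (a 4<|a (-3)<|a 2<|a (-1)<|b) (a 1<|b))<|a (d 3<|d 1<|d (a 1<|a (-2)<|a 2<|a (-1)<|b) (a 0<|a 1<|b))<|a (d 4<|d 1<|d (a 0<|a 1<|a (-1)<|b) (a 1<|b))<|a (d 6<|d 1<|d (a 1<|a 0<|a 0<|a (-1)<|b) (a 0<|a 1<|b))<|a (d 8<|d 1<|d (a 1<|a (-1)<|a 0<|a (-1)<|b) (a 0<|a 1<|a 1<|a 1<|b))<|a (d 12<|d 1<|d (a (-1)<|a 1<|a 0<|a 2<|b) (a 2<|a 1<|a (-2)<|a (-2)<|b))<|a (d 18<|d 1<|d (a 0<|a 1<|a (-1)<|a 1<|b) (a 1<|a 0<|a 0<|a 0<|a 0<|a (-1)<|b))<|b))<|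
 a (k 18 4 (a 18<|b) (a 0<|a 0<|a 0<|a 1<|a 1<|a 2<|a 0<|a 2<|a 1<|a 4<|a 1<|a 2<|a 0<|a 2<|a 1<|a 1<|b) (a (d 1<|d 1<|d (a 0<|a 0<|a 0<|a (-1)<|a (-1)<|a (-1)<|b) (a 1<|b))<|a (d 2<|d 3<|d (a 2<|a (-2)<|a 2<|a (-1)<|a 1<|a (-1)<|b) (a 1<|b))<|a (d 3<|d 1<|d (a 0<|a 0<|a 0<|a 1<|a (-1)<|b) (a 1<|b))<|a (d 4<|d 1<|d (a 1<|a 1<|a (-1)<|a (-1)<|a 0<|a 1<|b) (a 0<|a (-1)<|b))<|a (d 6<|d 3<|d (a 2<|a 2<|a 0<|a (-1)<|a (-1)<|b) (a 1<|b))<|a (d 8<|d 1<|d (a 0<|a 1<|a (-1)<|a 1<|a (-1)<|b) (a 1<|a (-1)<|a 1<|b))<|a (d 10<|d 1<|d (a 1<|a 0<|a 0<|a 0<|a 0<|a (-1)<|b) (a 0<|a 1<|a (-1)<|a 1<|b))<|a (d 12<|d 1<|d (a 1<|a 0<|a 1<|a (-1)<|a 0<|a (-1)<|b) (a 0<|a 0<|a 0<|a 1<|b))<|b))<|b))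

/-- the factors of the order -/
def od : List (ℕ × ℕ) := (beta% delta% lq260e3a7772 fun a b d _ _ _ _ _ _ =>
 (a (d 1 4)<|a (d 2 6)<|a (d 3 2)<|a (d 4 2)<|a (d 6 3)<|a (d 8 1)<|a (d 10 1)<|a (d 12 1)<|a (d 18 1)<|b))

/-- the pairs of orders -/
def prs : List (ℕ × ℕ) := (beta% delta% lq260e3a7772 fun a b d _ _ _ _ _ _ =>
 (a (d 2 3)<|a (d 2 4)<|a (d 2 8)<|a (d 2 10)<|a (d 2 12)<|a (d 2 18)<|a (d 3 4)<|a (d 3 6)<|a (d 3 8)<|a (d 3 10)<|a (d 3 12)<|a (d 3 18)<|a (d 4 6)<|a (d 4 8)<|a (d 4 10)<|a (d 4 18)<|a (d 6 8)<|a (d 6 10)<|a (d 6 12)<|a (d 6 18)<|a (d 8 10)<|a (d 8 12)<|a (d 8 18)<|a (d 10 12)<|a (d 10 18)<|a (d 12 18)<|b))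

theorem card_dvd {K : Type u} [Field K] [Fintype K] {x : ℕ} (hq : IsPrimePow x) (hK : Fintype.card K = x ^ 2) :
    ((Nat.card ↥(twistedE6 K x) : ℕ) : ℤ) ∣ (x : ℤ) ^ 36 * (od.map fun d => evZ x (Phi d.1) ^ d.2).prod := by
  have h := S1066.result hq hK
  have h1 : 1 ≤ x := hq.two_le.trans' one_le_two
  have h2 := congrArg (fun n : ℕ => (n : ℤ)) h
  simp only [Nat.cast_mul, Nat.cast_pow, Nat.cast_sub (Nat.one_le_pow _ _ h1), Nat.cast_add, Nat.cast_one] at h2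
  refine ⟨(Nat.gcd 3 (x + 1) : ℕ), ?_⟩
  rw [mul_comm (Nat.card _ : ℤ), h2]
  simp only [od, List.map_cons, List.map_nil, List.prod_cons, List.prod_nil, ev1, ev2, ev3, ev4, ev6, ev8, ev10,
    ev12, ev18]
  ring

end TwEa

/-- finiteness -/
theorem finite_twE6 (K : Type u) [Field K] [Fintype K] (x : ℕ) : Finite ↥(twistedE6 K x) := by
  have : Finite (GL chevE6.Idx K) := by
    have : Finite (Matrix chevE6.Idx chevE6.Idx K) := inferInstance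
    infer_instance
  infer_instance

/-- **Type `²E₆`: the pairs of odd primes of different orders.** -/
theorem kill_2E6 {K : Type u} [Field K] [Fintype K] {x : ℕ} (hq : IsPrimePow x) (hK : Fintype.card K = x ^ 2) :
    ∀ ef ∈ TwEa.prs, Kill ↥(twistedE6 K x) x ef.1 ef.2 := by
  have hx : 2 ≤ x := hq.two_le
  have := finite_twE6 K x
  have hA : ∀ ef ∈ ((beta% delta% lq260e3a7772 fun a b d _ _ _ _ _ _ =>
 (a (d 2 3)<|a (d 2 4)<|a (d 2 8)<|a (d 2 10)<|a (d 2 12)<|a (d 3 4)<|a (d 3 6)<|a (d 3 8)<|a (d 3 10)<|a (d 3 12)<|a (d 3 18)<|a (d 4 6)<|a (d 4 8)<|a (d 4 18)<|a (d 6 8)<|a (d 6 10)<|a (d 6 12)<|a (d 6 18)<|a (d 8 10)<|a (d 8 12)<|a (d 8 18)<|a (d 10 18)<|a (d 12 18)<|b) :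
 List (ℕ × ℕ)) : List (ℕ × ℕ)),
      Kill ↥(twistedE6 K x) x ef.1 ef.2 := fun ef h =>
    kill_of TwEa.dat_ok hx (fun i => FullTwEa.deg hx i)
      (fun p l hp hl hS => FullTwEa.sepX hq hK hp hl hS) (TwEa.kl ef h)
  have h1012 : Kill ↥(twistedE6 K x) x 10 12 :=
    kill_of TwEb.dat_ok hx (fun i => FullTwEb.deg hx i)
      (fun p l hp hl hS => FullTwEb.sepX hq hK hp hl hS) (TwEb.kl (10, 12) (by decide))
  have h410 : Kill ↥(twistedE6 K x) x 4 10 := by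
    intro p l hp hl hp2 hl2 _ _ hlG he hf hS
    obtain ⟨S, k, hk, hSk, h0, hT1, hT2, h1, h2⟩ := exists_both TwEa.dat_ok (tab := TwEa.tab) hx
      (fun i => FullTwEa.deg hx i) hp hp2 he hl hl2 hf (FullTwEa.sepX hq hK hp hl hS)
    have key : ∀ k < 2 ^ 5, k.testBit 0 = true → Bad TwEa.dat TwEa.tab 4 k = false →
        Bad TwEa.dat TwEa.tab 10 k = false → k.testBit 4 = true := by decide +kernel
    refine DzC.not_mem (c := TwEa.dz.getD 2 ⟨0, 0, [], [], []⟩) (od := TwEa.od) (P := TwEa.dat.P) (by decide +kernel) hx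
      (fun i => FullTwEa.deg hx i) Nat.card_pos.ne' (TwEa.card_dvd hq hK) hl hl2 hf hlG hT2
      ((hSk _).2 (key k hk h0 h1 h2))
  have h218 : Kill ↥(twistedE6 K x) x 2 18 := by
    intro p l hp hl hp2 hl2 _ hpG hlG he hf hS
    obtain ⟨S, k, hk, hSk, h0, hT1, hT2, h1, h2⟩ := exists_both TwEa.dat_ok (tab := TwEa.tab) hx
      (fun i => FullTwEa.deg hx i) hp hp2 he hl hl2 hf (FullTwEa.sepX hq hK hp hl hS)
    have key : ∀ k < 2 ^ 5, k.testBit 0 = true → Bad TwEa.dat TwEa.tab 2 k = false →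
        Bad TwEa.dat TwEa.tab 18 k = false → k.testBit 4 = true ∨ k = 5 := by decide +kernel
    rcases key k hk h0 h1 h2 with h3 | rfl
    · exact DzC.not_mem (c := TwEa.dz.getD 3 ⟨0, 0, [], [], []⟩) (od := TwEa.od) (P := TwEa.dat.P) (by decide +kernel)
        hx (fun i => FullTwEa.deg hx i) Nat.card_pos.ne' (TwEa.card_dvd hq hK) hl hl2 hf hlG hT2 ((hSk _).2 h3)
    · have hPhi := dvd_Phi hp he (by decide)
      have hdeg := fun i => FullTwEa.deg hx i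
      have h3 := Rs.dvd TwEa.dat_ok hx hdeg hp hp2 hPhi hSk hT1.toTst (c := (beta% delta% lq260e3a7772 fun a b _ f _ _ _ _ _ =>
 f 42 (a 1<|b) (a 40<|a (-40)<|a 38<|a (-36)<|a 34<|a (-32)<|a 28<|a (-26)<|a 22<|a (-18)<|a 14<|a (-12)<|a 8<|a (-6)<|a 4<|a (-2)<|b)))
        (by decide +kernel)
      have h4 := Rs.dvd TwEa.dat_ok hx hdeg hp hp2 hPhi hSk hT1.toTst
        (c := (beta% delta% lq260e3a7772 fun a b _ _ _ h _ _ _ =>
 h 1 (a 1<|a 1<|a 1<|a 0<|a 1<|a 1<|a 2<|a 1<|a 1<|a 1<|a 2<|a 2<|a 1<|a 1<|a 1<|a 2<|a 1<|a 1<|a 0<|a 1<|a 1<|a 1<|b) 24 (a 1<|b) (a 22<|a (-22)<|a 20<|a (-20)<|a 18<|a (-16)<|a 14<|a (-12)<|a 8<|a (-8)<|a 6<|a (-4)<|a 2<|a (-2)<|b)))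
        (by decide +kernel)
      have h5 : p ∣ 2 * 3 := Nat.dvd_gcd h3 h4
      have hp3 : p = 3 := by
        rcases (Nat.Prime.dvd_mul hp).1 h5 with h6 | h6
        · exact absurd ((Nat.prime_dvd_prime_iff_eq hp Nat.prime_two).1 h6) hp2
        · exact (Nat.prime_dvd_prime_iff_eq hp Nat.prime_three).1 h6
      subst hp3
      have h6 : x % 9 < 9 := Nat.mod_lt _ (by norm_num)
      have h7 : (x : ℤ) % 9 = ((x % 9 : ℕ) : ℤ) := by push_cast; rfl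
      have h8 : evZ ((x % 9 : ℕ) : ℤ) (Phi 2) % 3 = 0 := by
        have h9 := Int.emod_eq_zero_of_dvd hPhi
        have h10 := evZ_emod 9 x (Phi 2)
        rw [h7] at h10
        push_cast at h9
        omega
      have tab : ∀ r < 9, evZ ((r : ℕ) : ℤ) (Phi 2) % 3 = 0 →
          evZ ((r : ℕ) : ℤ) TwEa.dat.P.N % 9 = 0 ∧ evZ ((r : ℕ) : ℤ) (TwEa.dat.T 5) % 9 ≠ 0 := by decide +kernel
      obtain ⟨h9, h10⟩ := tab _ h6 h8
      rw [← h7, ← evZ_emod] at h9 h10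
      apply h10
      have h12 : ((3 : ℕ) : ℤ) ^ 2 = 9 := by norm_num
      have h11 := hT1.tr 2 (by
        rw [h12]
        exact Int.dvd_of_emod_eq_zero h9)
      rw [T_eq TwEa.dat_ok hdeg hSk]
      refine Int.emod_eq_zero_of_dvd (Dvd.dvd.mul_left ?_ 2)
      rw [h12] at h11
      exact h11
  intro ef h
  have hl : ef ∈ ((beta% delta% lq260e3a7772 fun a b d _ _ _ _ _ _ =>
 (a (d 2 3)<|a (d 2 4)<|a (d 2 8)<|a (d 2 10)<|a (d 2 12)<|a (d 3 4)<|a (d 3 6)<|a (d 3 8)<|a (d 3 10)<|a (d 3 12)<|a (d 3 18)<|a (d 4 6)<|a (d 4 8)<|a (d 4 18)<|a (d 6 8)<|a (d 6 10)<|a (d 6 12)<|a (d 6 18)<|a (d 8 10)<|a (d 8 12)<|a (d 8 18)<|a (d 10 18)<|a (d 12 18)<|b) :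
 List (ℕ × ℕ)) : List (ℕ × ℕ)) ∨ ef = (10, 12) ∨ ef = (4, 10) ∨ ef = (2, 18) := by
    revert ef
    decide
  rcases hl with hl | rfl | rfl | rfl
  · exact hA ef hl
  · exact h1012
  · exact h410
  · exact h218

end Cfsg.Agent.H632.PQ
end

private theorem dce_b514435ef7eb : _root_.True := by
  try have : _root_.True := by simp only [_root_.Cfsg.Agent.H632.PQ.E6b.od.eq_1]
  try have : _root_.True := by simp only [_root_.Cfsg.Agent.H632.PQ.TwEa.od.eq_1]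
  exact _root_.True.intro
end

-- part: H154/PQE8/Num
section
prune_inst 0x10088000000000000080000000000001c010000
set_option linter.all false
open scoped Cfsg.Agent.FastGrp

/-!
# `E₈`, the orders `5` and `15`: polynomials (helper154, for S4612; made by a program)

The constituents `567` and `a12` of `1_P^G`, `P` of node `6`: their eigenvalues `lam5`, `lam12` are congruent modulo
`Phi 5`; `567` has defect zero for the primes of order `15`. The constituent `84` of node `7`: congruent to the trivial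
character modulo `Phi 15`.
-/

set_option autoImplicit false
set_option maxRecDepth 20000

namespace Cfsg.Agent.H154.PQE8

open Cfsg Cfsg.Lie Cfsg.Agent.H317.PQ Cfsg.Agent.H632.PQ Cfsg.Agent.H632.PQ.Arith Cfsg.Agent.H996.PQ Cfsg.Agent.H996.Eight
  Cfsg.Agent.H996.Eight.Cert Cfsg.Agent.H64.Dl.Sph Cfsg.Agent.H35.ExcIdx

universe u

/-- the quotients by `Phi 15` for `84` -/
def quo84 (c : Fin 5) : List ℤ := ([[], [-1, -2, -3, -3, -3, -3, -3, -3, -3, -4, -4, -4, -3, -3, -3, -3, -3, -3, -3, -2, -1], [0, 0, 0, 0, 0, 1, 1, 1, 0, 1, 0, 0, -2, -1, -2, -2, -4, -4, -5, -6, -7, -7, -6, -7, -7, -8, -7, -8, -7, -7, -5, -5, -4, -4, -3, -3, -2, -1], [0, 0, 0, 0, 0, 0, 0, 0, 0, 0, 0, 0, 0, -1, -1, -1, 0, 0, 0, 0, 0, 0, -1, 0, 0, 1, 0, 0, -1, -2, -3, -3, -2, -2, -2, -3, -3, -4, -4, -4, -3, -3, -3, -3, -3, -3, -3, -2, -1], [0, 0, 0, 0, 0, 0, 0, 0, 0, 0, 0, 0, 0, 0, 0, 0, 0, 0, 0,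 0, 0, 0, 0, 0, 0, 0, 0, 1, 1, 1, 0, 0, -1, -1, -1, 0, 0, 0, 0, 0, 0, 0, 1, 1, 1, 0, 0, -1, -1, -1]] : List (List ℤ)).getD c []

/-- the eigenvalues of `84` -/
def lam84 (c : Fin 5) : List ℤ := FullE8a.lam 3 c

theorem cls7 : TabE8a.data.t.cls TabE8a.data.t.o = 0 := by decide +kernel

theorem lam84_ok : ∀ c, pEq (pMul (lam84 c) (TabE8a.c3.nu 0)) (pMul (TabE8a.data.kk c) (TabE8a.c3.nu c)) = true := by
  (simp only [Cfsg.Agent.H996.Eight.Kq.pEq_eq]; decide +kernel)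

theorem quo84_ok : ∀ c, pEq (pAdd (lam84 c) (pNeg (TabE8a.data.kk c))) (pMul (Phi 15) (quo84 c)) = true := by
  (simp only [Cfsg.Agent.H996.Eight.Kq.pEq_eq]; decide +kernel)

/-- the factors of the order of `E₈(q)` -/
def od : List (ℕ × ℕ) :=
  [(1, 8), (2, 8), (3, 4), (4, 4), (5, 2), (6, 4), (7, 1), (8, 2), (9, 1), (10, 2), (12, 2), (14, 1), (15, 1), (18, 1), (20, 1), (24, 1), (30, 1)]

/-- certificate of defect zero -/
def dz : DzC 1 :=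
  ⟨15, 0, [15], [0, 0, 0, 0, 0, 0, 1, 1, 2, 1, 3, 1, 4, 1, 7, 2, 10, 2, 13, 1, 15, 0, 20, 1, 24, 0, 28, -1, 30, -2, 34, -2, 36, -2, 38, -3, 37, -3, 38, -2, 36, -2, 34, -2, 30, -1, 28, 0, 24, 1, 20, 0, 15, 1, 13, 2, 10, 2, 7, 1, 4, 1, 3, 1, 2, 1, 1], [(1, 1, [0, -1, -1, 0, -1, 0, 0, -1], [1]), (2, 1, [0, 1, -1, 0, 1, -2, 2, -1], [1]), (3, 5, [4, -4, 1, 2, -3, 1, 1, -1], [1, 1]), (4, 1, [0, 1, 0, -2, 1, 1, -1], [1]), (5, 3, [2, -2, 0, 0, 0, 1, -1], [1, 1, 1]), (6, 1, [2, 0, -1, 0, -1, 1, 1, -1], [-1, 1]), (7, 1, [1, -2, 0, 1, -1, 1, 0, -1], [0, 1, 2, 2, 2, 1]), (8, 1, [-2, 1, 2, -1, 1, -2, -2, 2], [3, 2, 0, -2]), (9, 1, [0, 0, 1, -1, 0, 0, -1, 1], [1, 1, 0, 0, 0, -1]), (10, 1, [0, 0, 0, 0, 0, -1, -1], [1, 1, 1]), (12, 1, [1, -1, 0, 0, -1, 0, -1, -1], [0, 1, 2, 1]), (14, 1, [1, -2, -2, -1, -3, -1, -2, -3], [0, 3, 2, 4, 2, 3]), (18, 1, [0, 0, 1, 1, 0, 0, 1, 1], [1,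 1, 0, -2, -2, -1]), (20, 1, [1, 0, 1, 0, 0, 1, 0, 1], [0, 0, 0, 0, 0, -1, -1, -1]), (24, 1, [1, -1, 1, 0, 0, 1, -1, 1], [0, 1, 0, 0, 0, -1, 0, -1]), (30, 2, [1, -1, 1, 0, 0, 1, -1, 1], [1, 1, 1, 0, 0, -1, -1, -1])]⟩

theorem card_dvd (K : Type u) [Field K] [Fintype K] : ((Nat.card ↥(chevE8.group K) : ℕ) : ℤ) ∣
    ((Fintype.card K : ℕ) : ℤ) ^ 120 * (od.map fun d => evZ (Fintype.card K : ℕ) (Phi d.1) ^ d.2).prod := by
  have h := S1065.result (F := K) rfl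
  obtain ⟨x, hx⟩ : ∃ x, x = Fintype.card K := ⟨_, rfl⟩
  rw [← hx] at h ⊢
  have h1 : 1 ≤ x := by rw [hx]; exact Fintype.card_pos
  have h2 := congrArg (fun n : ℕ => (n : ℤ)) h
  simp only [Nat.cast_mul, Nat.cast_pow, Nat.cast_sub (Nat.one_le_pow _ _ h1), Nat.cast_one] at h2
  rw [h2]
  refine dvd_of_eq ?_
  simp only [od, List.map_cons, List.map_nil, List.prod_cons, List.prod_nil]
  exact Cfsg.Agent.H996.Eight.Kq.eq_of (x : ℤ) (by decide +kernel)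

end Cfsg.Agent.H154.PQE8

private theorem dce_e349ebc0403d : _root_.True := by
  try have : _root_.True := by simp only [_root_.Cfsg.Agent.H154.PQE8.od.eq_1]
  exact _root_.True.intro
end

-- part: H154/PQE8/Gen
section
prune_inst 0x10088000000000000080000000000001c010000
set_option linter.all false
open scoped Cfsg.Agent.FastGrp

/-!
# `E₈`: the orders `e` and `f` from a link between a constituent of node `7` and `567` (helper154, for S4612)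

`Link C e`: the constituent `C` of node `7` and `567` (node `6`) are in the same `p`-block for `p ∣ Phi e (q)`.
`kill_of_link`: if `C` is in the principal `l`-block for `l ∣ Phi f (q)` and `567` has defect zero for `l`, then the
principal blocks for `p` and `l` are different.
-/

set_option autoImplicit false
set_option maxRecDepth 20000

namespace Cfsg.Agent.H154.PQE8

open Cfsg Cfsg.Agent.H967.Sph Cfsg.Agent.H317.PQ Cfsg.Agent.Blocks.Basic Cfsg.Agent.Blocks.Local Cfsg.Agent.H64.Dl.Sph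
  Cfsg.Agent.H996.Eight Cfsg.Agent.H996.Eight.Cert Cfsg.Agent.H996.PQ Cfsg.Agent.H632.PQ.Arith Cfsg.Agent.H790.PQ
open CoxeterSystem Cfsg.Agent.ChevalleyStructure.CoxeterGeom Cfsg.Agent.Tits.Roots Cfsg.Agent.Tits.Core
  Cfsg.Agent.Nodes.Reps Cfsg.Agent.Nodes.BNOf Cfsg.Agent.Nodes.Bruhat Cfsg.Agent.Nodes.LeviDec
open Cfsg.Lie Cfsg.Agent.ChevalleyStructure Cfsg.Agent.ChevalleyStructure.CoxeterGeomTypes Cfsg.Agent.Nodes.RGDChev
  Cfsg.Agent.H35.ExcIdx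

universe u

/-- the data of node `7`, over the table of node `6` -/
def data7 : Data TabE8c.A 7 240 5 := TabE8a.data

/-- the constituent `C` of node `7` and `567` are in the same `l`-block for odd `l ∣ Phi e (q)` -/
def Link (C : Crt 5) (e : ℕ) : Prop :=
  ∀ (W : Type) (Y : Type u) [Group W] [Finite W] [Group Y] [Finite Y] (M : CoxeterMatrix (Fin 8))
    (cs : CoxeterSystem M W) (h : IsCartan M TabE8c.A) (p : ℕ) (T : Subgroup Y) (n : Fin 8 → Y)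
    (X : (Fin 8 → ℤ) → Subgroup Y) (R : RGD cs h p T n X) (hG : GG cs h T X = ⊤) (x : ℕ), 2 ≤ x →
    (∀ i, Nat.card (X (sr i)) = x) → ∀ (χ χ' : Y → ℂ) (d d' : ℕ),
    HasVal R hG H594.PQ.tabP χ d (fun c => ev x (C.nu c) / ev x (C.nu 0)) →
    HasVal R hG TabE8c.data.t χ' d' (fun c => ev x (E567.C.nu c) / ev x (E567.C.nu 0)) →
    ∀ l : ℕ, l.Prime → l ≠ 2 → (l : ℤ) ∣ evZ x (Phi e) → ∀ M' : Ideal AlgInt, IsPModular l M' → SameBlock M' χ χ'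

theorem not_same_E8 {W : Type} {Y : Type u} [Group W] [Finite W] [Group Y] [Finite Y]
    {M : CoxeterMatrix (Fin 8)} {cs : CoxeterSystem M W} {A : Fin 8 → Fin 8 → ℤ} {h : IsCartan M A} {p : ℕ}
    {T : Subgroup Y} {n : Fin 8 → Y} {X : (Fin 8 → ℤ) → Subgroup Y}
    (R : RGD cs h p T n X) (hG : GG cs h T X = ⊤) (hA : A = TabE8c.A) {x : ℕ} (hx : 2 ≤ x)
    (hq : ∀ i, Nat.card (X (sr i)) = x) {e f : ℕ}
    (hem : e ∈ [2, 3, 4, 5, 6, 7, 8, 9, 10, 12, 14, 15, 18, 20, 24, 30])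
    (hfm : f ∈ [2, 3, 4, 5, 6, 7, 8, 9, 10, 12, 14, 15, 18, 20, 24, 30])
    (C : Crt 5) (hC : ok1 C 0 TabE8a.data.bb TabE8a.data.kk) (hU : Uq C.th C.nu 0 TabE8a.data.bb)
    (hD : pDvd C.den C.dn) {lam quo : Fin 5 → List ℤ}
    (hlam : ∀ c, pEq (pMul (lam c) (C.nu 0)) (pMul (TabE8a.data.kk c) (C.nu c)) = true)
    (hquo : ∀ c, pEq (pAdd (lam c) (pNeg (TabE8a.data.kk c))) (pMul (Phi f) (quo c)) = true)
    {dz : DzC 1} (hdz : dz.ok (polOf E567.C) od = true) (hdf : dz.e = f) (hL : Link.{u} C e)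
    {p' l' : ℕ} (hp : p'.Prime) (hl : l'.Prime) (hp2 : p' ≠ 2) (hl2 : l' ≠ 2)
    (he : ord x p' = e) (hf : ord x l' = f) (hlY : l' ∣ Nat.card Y)
    (hgd : ((Nat.card Y : ℕ) : ℤ) ∣ (x : ℤ) ^ 120 * (od.map fun d => evZ x (Phi d.1) ^ d.2).prod) :
    ¬ Same p' l' Y := by
  subst hA
  have hdz' : (Nat.card Y).factorization l' ≤ (val E567.C.den E567.C.dn x).factorization l' := by
    have hdeg : ∀ i, ((polOf E567.C).den i : ℤ) * ((polOf E567.C).deg x i : ℤ) = evZ x ((polOf E567.C).dn i) := by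
      intro i
      have h1 := val_spec E567.ok.2.2.2.2 E567.dvd E567.ok.2.1 hx
      have h2 := evZ_cast (x : ℤ) E567.C.dn
      push_cast at h2
      rw [← h2] at h1
      exact_mod_cast h1
    exact DzC.spec hdz hx hdeg Nat.card_pos.ne' hgd hl hl2 (hf.trans hdf.symm)
  refine not_same R hG data7 TabE8c.data hx (fun i => ?_) (fun i => ?_) cls7 H594.PQ.cls_o C
    hC hU hD E567.C E567.ok E567.uq E567.dvd hlam hp hl (fun c => ?_) hlY hdz' ?_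
  · have h9 : ∀ i, TabE8a.data.e i = 1 := by decide +kernel
    rw [hq, show data7.e i = 1 from h9 i, pow_one]
  · rw [hq, H594.PQ.e_eq, pow_one]
  · have h1 := evZ_of_pEq (x : ℤ) (hquo c)
    rw [evZ_pAdd, evZ_pNeg, evZ_pMul] at h1
    rw [sub_eq_add_neg]
    show (l' : ℤ) ∣ evZ x (lam c) + -evZ x (TabE8a.data.kk c)
    rw [h1]
    exact (dvd_Phi hl hf hfm).mul_right _
  · intro χ χ' H H' M' hM
    exact hL W Y M cs h p T n X R hG x hx hq χ χ' _ _ H H' p' hp hp2 (dvd_Phi hp he hem) M' hM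

/-- **Type `E₈`, the orders `e` and `f`**, from a link. -/
theorem kill_of_link (K : Type u) [Field K] [Fintype K] {e f : ℕ}
    (hem : e ∈ [2, 3, 4, 5, 6, 7, 8, 9, 10, 12, 14, 15, 18, 20, 24, 30])
    (hfm : f ∈ [2, 3, 4, 5, 6, 7, 8, 9, 10, 12, 14, 15, 18, 20, 24, 30])
    (C : Crt 5) (hC : ok1 C 0 TabE8a.data.bb TabE8a.data.kk) (hU : Uq C.th C.nu 0 TabE8a.data.bb)
    (hD : pDvd C.den C.dn) {lam quo : Fin 5 → List ℤ}
    (hlam : ∀ c, pEq (pMul (lam c) (C.nu 0)) (pMul (TabE8a.data.kk c) (C.nu c)) = true)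
    (hquo : ∀ c, pEq (pAdd (lam c) (pNeg (TabE8a.data.kk c))) (pMul (Phi f) (quo c)) = true)
    {dz : DzC 1} (hdz : dz.ok (polOf E567.C) od = true) (hdf : dz.e = f) (hL : Link.{u} C e) :
    Kill ↥(chevE8.group K) (Fintype.card K) e f := by
  intro p' l' hp' hl' hp2 hl2 _ _ hlG he' hf'
  obtain ⟨r, hr⟩ := CharP.exists K
  have : Fact r.Prime := ⟨CharP.char_is_prime K r⟩
  have := finite_W hpE8 CoxeterMatrix.E₈.toCoxeterSystem
  have := finite_group chevE8 K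
  have hA : cartanOf chevE8 8 = TabE8c.A := by
    funext i k
    revert i k
    decide +kernel
  exact not_same_E8 (rgd (K := K) hpE8 CoxeterMatrix.E₈.toCoxeterSystem r)
    (GG_eq_top hpE8 K CoxeterMatrix.E₈.toCoxeterSystem) hA Fintype.one_lt_card
    (fun i => by rw [card_XX hpE8 K CoxeterMatrix.E₈.toCoxeterSystem (isRoot_sr _ _ i), Nat.card_eq_fintype_card])
    hem hfm C hC hU hD hlam hquo hdz hdf hL hp' hl' hp2 hl2 he' hf' hlG (card_dvd K)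

end Cfsg.Agent.H154.PQE8
end

-- part: H154/PQE8/Kill
section
set_option linter.all false

/-!
# `E₈`, the orders `5` and `15` (helper154, for S4612)

`84` (node `7`) is in the principal `l`-block for `l ∣ Phi 15 (q)`, `567` (node `6`) has defect zero for `l`, and `84`,
`567` are in the same `p`-block for `p ∣ Phi 5 (q)` (helper594, helper739, helper996, helper317).
-/

set_option autoImplicit false
set_option maxRecDepth 20000

namespace Cfsg.Agent.H154.PQE8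

open Cfsg Cfsg.Lie Cfsg.Agent.H317.PQ Cfsg.Agent.H996.Eight Cfsg.Agent.H996.Eight.Cert Cfsg.Agent.H996.PQ
  Cfsg.Agent.H632.PQ.Arith Cfsg.Agent.H790.PQ

universe u

theorem link84 : Link.{u} TabE8a.c3 5 := by
  intro W Y _ _ _ _ M cs h p T n X R hG x hx hq χ χ' d d' H H' l hl _ hd M' hM
  exact H594.PQ.same_84_567' R hG hx hq H H' hl hd hM

theorem dz567 : dz.ok (polOf E567.C) od = true := by decide +kernel

/-- **Type `E₈`, the orders `5` and `15`.** -/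
theorem kill_E8_515 (K : Type u) [Field K] [Fintype K] : Kill ↥(chevE8.group K) (Fintype.card K) 5 15 :=
  kill_of_link K (by decide) (by decide) TabE8a.c3 (ok1_of_ok TabE8a.ok3) (uq_of_ok TabE8a.ok3) TabE8a.dvd3 lam84_ok
    quo84_ok dz567 rfl link84

end Cfsg.Agent.H154.PQE8
end

-- part: H766/PQ/WeilLe
section
prune_inst 0x80000000000000000000000000000000000
set_option linter.all false
open scoped Cfsg.Agent.FastGrp

/-!
# The Weil character of degree `q ^ 2 - q` of `PSU 3 F q` on elements without norm one eigenvalues (helper766)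

* `exists_irr_le` : `exists_irr` of helper596, with `‖χ g‖ ≤ 1` for `g` without eigenvector of norm one eigenvalue.
* `weil_le` : the same for `PSU 3 F q`.
-/

set_option autoImplicit false

open scoped ComplexConjugate

namespace Cfsg.Agent.H766.PQ.WeilLe

open Module Cfsg Cfsg.Agent Cfsg.Agent.Characters.Ito Cfsg.Agent.Characters.Core
open Cfsg.Agent.LieClassical.HermBasic Cfsg.Agent.LieClassical.HermSiegel
open Cfsg.Agent.H596.Weil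

section

variable {F : Type} [Field F] [Fintype F] {q : ℕ}

attribute [local instance] suAction

/-- the action of `SU × Nm` on vectors -/
@[reducible] def prAction (F : Type) [Field F] (q : ℕ) : DistribMulAction (SU 3 F q × Nm F q) (Fin 3 → F) where
  smul x v := ((x.2 : Fˣ) : F) • act x.1 v
  one_smul v := by
    change (1 : F) • act (1 : SU 3 F q) v = v
    rw [one_smul, act_one]
  mul_smul x y v := by
    change (((x.2 : Fˣ) : F) * ((y.2 : Fˣ) : F)) • act (x.1 * y.1) v =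
      ((x.2 : Fˣ) : F) • act x.1 (((y.2 : Fˣ) : F) • act y.1 v)
    rw [act_mul, act_smul, smul_smul]
  smul_zero x := by
    change ((x.2 : Fˣ) : F) • act x.1 (0 : Fin 3 → F) = 0
    rw [act_zero, smul_zero]
  smul_add x v w := by
    change ((x.2 : Fˣ) : F) • act x.1 (v + w) = ((x.2 : Fˣ) : F) • act x.1 v + ((x.2 : Fˣ) : F) • act x.1 w
    rw [act_add, smul_add]

attribute [local instance] prAction

omit [Fintype F] in
theorem pr_smul (x : SU 3 F q × Nm F q) (v : Fin 3 → F) : x • v = x.2 • x.1 • v := rfl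

theorem hb_pr (hF : Fintype.card F = q ^ 2) (x : SU 3 F q × Nm F q) (v w : Fin 3 → F) :
    hb hF (x • v) (x • w) = hb hF v w := by
  rw [pr_smul, pr_smul, hb_Nm, hb_su]

/-- **The Weil character of degree `q ^ 2 - q`, with a bound.** -/
theorem exists_irr_le (hF : Fintype.card F = q ^ 2)
    (htr : ∀ u v : Fin 3 → F, u ≠ 0 → v ≠ 0 → hermForm 3 F q u u = hermForm 3 F q v v → ∃ g : SU 3 F q, act g u = v) :
    ∃ χ : SU 3 F q → ℂ, IsIrrCharacter (SU 3 F q) χ ∧ (∃ d : ℕ, χ 1 = d ∧ d + q = q ^ 2) ∧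
      ∀ g, (∀ (c : F) (v : Fin 3 → F), c ^ (q + 1) = 1 → act g v = c • v → v = 0) → ‖χ g‖ ≤ 1 := by
  classical
  have hq2 := two_le hF
  obtain ⟨l, hl⟩ := exists_lam hF
  obtain ⟨n, ρ, hρ, hv, hn⟩ := exists_rho (hb hF) l hl
  have := hρ
  have hcV : Fintype.card (Fin 3 → F) = (q ^ 3) ^ 2 := by
    rw [Fintype.card_fun, Fintype.card_fin, hF]
    ring
  have hn3 : n = q ^ 3 := by
    rw [hcV] at hn
    exact Nat.pow_left_injective (by norm_num : 2 ≠ 0) hn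
  have : Fintype (Nm F q) := Fintype.ofFinite _
  have hA : Fintype.card (Nm F q) = q + 1 := by rw [← Nat.card_eq_fintype_card, card_Nm hF]
  set α := Hs.aut (hb hF) (hb_Nm hF) with hα
  set β := Hs.aut (hb hF) (hb_su hF) with hβ
  have hαg : ∀ a, Good ρ (α a) := fun a => good_aut hv (hb_Nm hF) a
  have hβg : ∀ a, Good ρ (β a) := fun a => good_aut hv (hb_su hF) a
  have hαβ : ∀ a g, α a * β g = β g * α a := by
    intro a g
    ext x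
    · show (a • (g • x.v)) _ = (g • (a • x.v)) _
      have e : ∀ x : Fin 3 → F, a • x = ((a : Fˣ) : F) • x := fun x => rfl
      rw [e, e, su_smul, su_smul, act_smul]
    · rfl
  obtain ⟨τ, hτ⟩ := exists_tau ρ α hαg
  have hτW : ∀ a, ∃ c : ℂ, τ a = c • W ρ (α a) := fun a => tau_eq ρ α hαg hτ a
  have htrA : ∀ a : Nm F q, a ≠ 1 → LinearMap.trace ℂ _ (τ a) * LinearMap.trace ℂ _ (τ a⁻¹) = 1 := by
    intro a ha
    rw [trace_mul_trace_eq hv hn (hb_Nm hF) hτW a]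
    have h1 : Nat.card {v : Fin 3 → F // a • v = v} = 1 := by
      rw [Nat.card_eq_one_iff_unique]
      refine ⟨⟨fun x y => ?_⟩, ⟨⟨0, smul_zero a⟩⟩⟩
      have h2 : ∀ x : {v : Fin 3 → F // a • v = v}, x.1 = 0 := by
        rintro ⟨x, hx⟩
        have e : a • x = ((a : Fˣ) : F) • x := rfl
        rw [e] at hx
        have h3 : (((a : Fˣ) : F) - 1) • x = 0 := by rw [sub_smul, one_smul, hx, sub_self]
        rcases smul_eq_zero.1 h3 with h4 | h4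
        · exact absurd (Subtype.ext (Units.ext (sub_eq_zero.1 h4))) ha
        · exact h4
      exact Subtype.ext ((h2 x).trans (h2 y).symm)
    rw [h1, Nat.cast_one]
  obtain ⟨l₀, hl₀, hls⟩ := exists_dims τ hA (by rw [finrank_fin_fun]; exact hn3) htrA
  obtain ⟨m, hm⟩ : ∃ m : AddChar (Additive (Nm F q)) ℂ, m ≠ l₀ := by
    have h1 : 1 < Fintype.card (AddChar (Additive (Nm F q)) ℂ) := by
      rw [card_addChar, hA]
      omega
    exact Fintype.exists_ne_of_one_lt_card h1 l₀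
  have hlm : finrank ℂ (wsp τ m) = finrank ℂ (wsp τ l₀) + 1 := by
    have := hls m hm
    omega
  obtain ⟨ω, hω, hωτ⟩ := exists_omega ρ α hαg β hβg hαβ hτ hlm
  have hsq : q + 1 ≤ q ^ 2 := by nlinarith
  have hpos : ∀ l, 0 < finrank ℂ (wsp τ l) := by
    intro l
    by_cases h : l = l₀
    · subst h; omega
    · have := hls l h
      omega
  -- the norm of the trace of `ω`
  have : Fintype (SU 3 F q) := Fintype.ofFinite _
  have hN : classInner (fun g => LinearMap.trace ℂ _ (ω g)) (fun g => LinearMap.trace ℂ _ (ω g)) =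
      (Nat.card (Quotient (MulAction.orbitRel (SU 3 F q) (Fin 3 → F))) : ℂ) := by
    have h1 : ∀ g, LinearMap.trace ℂ _ (ω g) * conj (LinearMap.trace ℂ _ (ω g)) =
        (Fintype.card (MulAction.fixedBy (Fin 3 → F) g) : ℂ) := by
      intro g
      have h2 : conj (LinearMap.trace ℂ _ (ω g)) = LinearMap.trace ℂ _ (ω g⁻¹) := (S0158.char_inv ω g).symm
      rw [h2, trace_mul_trace_eq hv hn (hb_su hF) hω g, ← Nat.card_eq_fintype_card]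
      rfl
    have h2 := MulAction.sum_card_fixedBy_eq_card_orbits_mul_card_group (SU 3 F q) (Fin 3 → F)
    rw [classInner_def, Finset.sum_congr rfl fun g _ => h1 g]
    have h3 : (∑ g : SU 3 F q, (Fintype.card (MulAction.fixedBy (Fin 3 → F) g) : ℂ)) =
        (Fintype.card (Quotient (MulAction.orbitRel (SU 3 F q) (Fin 3 → F))) : ℂ) * Fintype.card (SU 3 F q) := by
      exact_mod_cast h2
    rw [h3, Nat.card_eq_fintype_card, Nat.card_eq_fintype_card]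
    have h4 : (Fintype.card (SU 3 F q) : ℂ) ≠ 0 := Nat.cast_ne_zero.2 Fintype.card_ne_zero
    field_simp
  -- the representation of `SU × Nm`
  let ω' : Representation ℂ (SU 3 F q × Nm F q) (Fin n → ℂ) :=
    { toFun := fun x => ω x.1 * τ x.2
      map_one' := by
        change ω 1 * τ 1 = 1
        rw [map_one, map_one, mul_one]
      map_mul' := fun x y => by
        change ω (x.1 * y.1) * τ (x.2 * y.2) = (ω x.1 * τ x.2) * (ω y.1 * τ y.2)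
        rw [map_mul, map_mul, mul_assoc, mul_assoc, ← mul_assoc (ω y.1), hωτ, mul_assoc] }
  have hω' : ∀ x, ∃ c : ℂ, ω' x = c • W ρ (Hs.aut (hb hF) (hb_pr hF) x) := by
    intro x
    obtain ⟨c₁, h1⟩ := hω x.1
    obtain ⟨c₂, h2⟩ := hτW x.2
    have e : β x.1 * α x.2 = Hs.aut (hb hF) (hb_pr hF) x := by
      rw [← hαβ]
      ext y
      · rfl
      · rfl
    obtain ⟨c, -, hc⟩ := exists_cocycle ρ (hβg x.1) (hαg x.2) (by rw [e]; exact good_aut hv (hb_pr hF) x)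
    refine ⟨c₁ * c₂ * c, ?_⟩
    change ω x.1 * τ x.2 = _
    rw [h1, h2, smul_mul_smul_comm, hc, e, smul_smul]
  have hfin : Finite (SU 3 F q × Nm F q) := inferInstance
  have hbd : ∀ g : SU 3 F q, (∀ (c : F) (v : Fin 3 → F), c ^ (q + 1) = 1 → act g v = c • v → v = 0) →
      ∀ a : Nm F q, ‖LinearMap.trace ℂ _ (ω g * τ a)‖ = 1 := by
    intro g hg a
    have h1 := trace_mul_trace_eq hv hn (hb_pr hF) hω' (g, a)
    have h2 : LinearMap.trace ℂ _ (ω' (g, a)⁻¹) = conj (LinearMap.trace ℂ _ (ω' (g, a))) :=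
      S0158.char_inv ω' (g, a)
    have h3 : Nat.card {v : Fin 3 → F // (g, a) • v = v} = 1 := by
      rw [Nat.card_eq_one_iff_unique]
      refine ⟨⟨fun x y => ?_⟩, ⟨⟨0, smul_zero _⟩⟩⟩
      have h2 : ∀ x : {v : Fin 3 → F // (g, a) • v = v}, x.1 = 0 := by
        rintro ⟨x, hx⟩
        rw [pr_smul] at hx
        have h4 : g • x = a⁻¹ • x := by rw [eq_inv_smul_iff]; exact hx
        have h5 : (((a⁻¹ : Nm F q) : Fˣ) : F) ^ (q + 1) = 1 := by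
          have h2 := (a⁻¹).2
          rw [MonoidHom.mem_ker, powMonoidHom_apply] at h2
          rw [← Units.val_pow_eq_pow_val, h2, Units.val_one]
        exact hg _ x h5 h4
      exact Subtype.ext ((h2 x).trans (h2 y).symm)
    rw [h2, Complex.mul_conj, h3, Nat.cast_one, Complex.normSq_eq_norm_sq] at h1
    have h4 : ‖LinearMap.trace ℂ _ (ω' (g, a))‖ ^ 2 = 1 := by exact_mod_cast h1
    have h5 : 0 ≤ ‖LinearMap.trace ℂ _ (ω' (g, a))‖ := norm_nonneg _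
    have h6 : ‖LinearMap.trace ℂ _ (ω' (g, a))‖ = 1 := by nlinarith
    exact h6
  refine ⟨_, isIrr_wt τ ω hωτ hpos (by rw [hA]; exact orbits_le hF htr) hN l₀, ⟨finrank ℂ (wsp τ l₀), ?_, hl₀⟩, ?_⟩
  · show LinearMap.trace ℂ _ (ω 1 * wt τ l₀) = _
    rw [map_one, one_mul, trace_wt]
  · intro g hg
    show ‖LinearMap.trace ℂ _ (ω g * wt τ l₀)‖ ≤ 1
    have hA0 : (0 : ℝ) < (Fintype.card (Nm F q) : ℝ) := Nat.cast_pos.2 Fintype.card_pos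
    rw [wt_def, mul_smul_comm, map_smul, Finset.mul_sum, map_sum, smul_eq_mul, _root_.norm_mul, norm_inv, Complex.norm_natCast]
    rw [inv_mul_le_iff₀ hA0, mul_one]
    refine (norm_sum_le _ _).trans ?_
    have h1 : ∀ a : Nm F q, ‖LinearMap.trace ℂ (Fin n → ℂ) (ω g * l₀ (Additive.ofMul a⁻¹) • τ a)‖ = 1 := by
      intro a
      rw [mul_smul_comm, map_smul, smul_eq_mul, _root_.norm_mul, hbd g hg, mul_one]
      exact l₀.norm_apply _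
    rw [Finset.sum_congr rfl fun a _ => h1 a, Finset.sum_const, Finset.card_univ, nsmul_eq_mul, mul_one]

end

/-- **The Weil character of degree `q ^ 2 - q` of `PSU 3 F q`.** -/
theorem weil_le {K : Type} [Field K] [Fintype K] {q : ℕ} (hF : Fintype.card K = q ^ 2) (h2 : 2 < q) :
    ∃ χ : IrrCharacter (PSU 3 K q), (χ : PSU 3 K q → ℂ) 1 = (q : ℂ) ^ 2 - q ∧
      ∀ g : SU 3 K q, (∀ (c : K) (v : Fin 3 → K), c ^ (q + 1) = 1 → act g v = c • v → v = 0) →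
        ‖(χ : PSU 3 K q → ℂ) (QuotientGroup.mk' (Subgroup.center (SU 3 K q)) g)‖ ≤ 1 := by
  classical
  obtain ⟨χ, hχ, ⟨d, hd, hdq⟩, hle⟩ := exists_irr_le hF (fun u v hu hv h => H644.T9.su_trans hF hu hv h)
  have hperf := LieClassical.HermPerfect.commutator_SU_eq_top (n := 3) hF le_rfl (fun h => by omega)
  have hker : ∀ z ∈ Subgroup.center (SU 3 K q), χ z = χ 1 := by
    intro z hz
    obtain ⟨c, hcn, hcq, rfl⟩ := (LieClassical.SUBasic.mem_center_SU_iff hF le_rfl z).1 hz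
    have h4 : ∀ (k : ℕ) (v : Fin 3 → K), act ((LieClassical.SUBasic.suScalar q c hcn hcq) ^ k) v =
        c ^ k • v := by
      intro k
      induction k with
      | zero => intro v; rw [pow_zero, pow_zero, one_smul, act_one]
      | succ k ih =>
        intro v
        rw [pow_succ, act_mul, ih, pow_succ, mul_smul]
        congr 1
        rw [act_def, mat_def, LieClassical.SUBasic.coe_suScalar]
        funext i
        rw [Matrix.mulVec_diagonal, Pi.smul_apply, smul_eq_mul]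
    by_cases hq3 : q % 3 = 2
    · have hcop : Nat.Coprime d 3 := by
        rw [Nat.coprime_comm, Nat.Prime.coprime_iff_not_dvd Nat.prime_three]
        intro h3
        have h4 : (d + q) % 3 = q ^ 2 % 3 := by rw [hdq]
        rw [Nat.pow_mod, hq3] at h4
        omega
      refine trivial_of_coprime hperf hχ hd hcop hz ?_
      apply ext_act
      intro v
      rw [h4, hcn, one_smul, act_one]
    · have hc1 : c = 1 := by
        have h5 : orderOf c ∣ 3 := orderOf_dvd_of_pow_eq_one hcn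
        have h6 : orderOf c ∣ q + 1 := orderOf_dvd_of_pow_eq_one hcq
        rcases (Nat.dvd_prime Nat.prime_three).1 h5 with h7 | h7
        · exact orderOf_eq_one_iff.1 h7
        · rw [h7] at h6
          omega
      have h5 : LieClassical.SUBasic.suScalar q c hcn hcq = 1 := by
        apply ext_act
        intro v
        have := h4 1 v
        rw [pow_one, pow_one] at this
        rw [this, hc1, one_smul, act_one]
      rw [h5]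
  have : Fintype (Subgroup.center (SU 3 K q)) := Fintype.ofFinite _
  obtain ⟨χ', hχ'⟩ := Blocks.Deflate.exists_deflation (Subgroup.center (SU 3 K q)) χ hχ (by
    rw [Finset.sum_congr rfl fun (n : Subgroup.center (SU 3 K q)) _ => hker n n.2, Finset.sum_const, nsmul_eq_mul]
    refine mul_ne_zero ?_ (isIrr_apply_one_ne_zero hχ)
    exact Nat.cast_ne_zero.2 (Finset.card_ne_zero.2 ⟨1, Finset.mem_univ _⟩))
  have hval : ∀ g : SU 3 K q, (χ' : PSU 3 K q → ℂ) (QuotientGroup.mk' (Subgroup.center (SU 3 K q)) g) = χ g := by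
    intro g
    rw [hχ']
    rfl
  refine ⟨χ', ?_, fun g hg => by rw [hval]; exact hle g hg⟩
  have h1 := hval 1
  rw [map_one] at h1
  rw [h1, hd]
  have h2 : ((d + q : ℕ) : ℂ) = ((q ^ 2 : ℕ) : ℂ) := by rw [hdq]
  push_cast at h2
  linear_combination h2

end Cfsg.Agent.H766.PQ.WeilLe
end

-- part: H251/PQ/TorNorm
section
prune_inst 0x401403455036202000005058611007897850004900008800088060140000000224902294008203109420a220000050020021000d0404000000e844000000101000028040441c0009180001800008801000010088000000000000080000000000401c010000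
set_option linter.all false
open scoped Cfsg.Agent.FastGrp

-- part: H251/PQ/Tor
section
/-!
# Twisted tori of finite groups of Lie type, and their centralisers (helper251, S4612)

* `exists_sub` : a subgroup of order `∏ d i` of the torus, fixed by a Frobenius frame automorphism;
* `exists_tor` : the abelian subgroup of order `∏ d i` of the finite group;
* `mem_TT_of_set` : the centraliser of a subset of the torus on which no root is trivial.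
-/

set_option autoImplicit false
set_option linter.unusedSectionVars false

namespace Cfsg.Agent.H251.PQ

open CoxeterSystem Cfsg Cfsg.Lie Cfsg.Lie.ChevalleyDatum
open Cfsg.Agent.ChevalleyStructure Cfsg.Agent.ChevalleyStructure.Elts Cfsg.Agent.ChevalleyStructure.CoxeterGeom
  Cfsg.Agent.ChevalleyStructure.CoxeterGeomTypes Cfsg.Agent.ChevalleyStructure.NPerm
open Cfsg.Agent.Tits.Roots Cfsg.Agent.Tits.Core Cfsg.Agent.Nodes Cfsg.Agent.Nodes.Reps Cfsg.Agent.Nodes.BNOf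
  Cfsg.Agent.Nodes.RGDChev Cfsg.Agent.Nodes.Bruhat Cfsg.Agent.Nodes.SubComb Cfsg.Agent.Nodes.Coroot
  Cfsg.Agent.Nodes.NormalForm
open Cfsg.Agent.KFacts.RgdField Cfsg.Agent.KFacts.RgdChevCoord Cfsg.Agent.BpExc.TorCent Cfsg.Agent.BpExc.TorChev
open Cfsg.Agent.GpExc.Field Cfsg.Agent.BpExc.Tow Cfsg.Agent.BpExc.TowChev Cfsg.Agent.BpExc.Fr
  Cfsg.Agent.BpExc.LangFr Cfsg.Agent.LangThm Cfsg.Agent.BpExc Cfsg.Agent.H129.TorusChar Cfsg.Agent.H129.TorusMain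
open Cfsg.Agent.H720.TorusReal Cfsg.Agent.Nodes.Unique Cfsg.Agent.H897.T5Cent Cfsg.Agent.H795.SetCent
open Cfsg.Agent.H897.T5Lat (Frm bf bf_apply)

universe u v

section

variable {D : ChevalleyDatum} {l : ℕ} {M : CoxeterMatrix (Fin l)} (hp : IsType D l M) {k : Type u} [Field k]
  [IsAlgClosed k] {W : Type v} [Group W] [Finite W] (cs : CoxeterSystem M W) (hk : LocFin k) {p e : ℕ} [Fact p.Prime]
  [CharP k p] {τ : MulAut ↥(D.group k)} {g : (Fin l → ℤ) ≃+ (Fin l → ℤ)}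

/-- the value of the element of the torus with parameters `a` -/
noncomputable def vl (ζ : Fin l → k) (U : Fin l → Fin l → ℤ) (a x : Fin l → ℤ) : k :=
  ∏ i, ζ i ^ (a i * ∑ j, U i j * x j)

include cs hk in
/-- **Fixed points in the torus**: a subgroup of order `∏ d i`. -/
theorem exists_sub (hτ : IsFrob p e τ) (F : Fr cs hp.isCartan (TT D k) (XX D l k) τ g) {d' : ℕ}
    {B' : Fin l → Fin l → ℤ} (hB : InvC D l d' B') (hd' : d' ≠ 0) (d : Fin l → ℕ) (hd0 : ∀ i, d i ≠ 0)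
    (hdp : ∀ i, (d i).Coprime p) (U f : Fin l → Fin l → ℤ)
    (hUf : ∀ i j, ∑ m, U i m * f j m = if i = j then 1 else 0)
    (hU : ∀ i m, (d i : ℤ) ∣ ∑ j, U i j * (g (sr m) - ((p ^ e : ℕ) : ℤ) • (sr m : Fin l → ℤ)) j) :
    ∃ (S : Subgroup ↥(D.group k)) (ζ : Fin l → k), Nat.card S = ∏ i, d i ∧ (∀ i, IsPrimitiveRoot (ζ i) (d i)) ∧
      (∀ t ∈ S, t ∈ TT D k ∧ τ t = t) ∧ (∀ a : Fin l → ℤ, ∃ t ∈ S, ∀ x, cX hp t x = vl ζ U a x) := by
  classical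
  have hζ : ∀ i, ∃ ζ : k, IsPrimitiveRoot ζ (d i) := fun i =>
    Cfsg.Agent.H942.CB.exists_prim' p (hd0 i) (hdp i)
  choose ζ hζ using hζ
  have hζ0 : ∀ i, ζ i ≠ 0 := fun i => (hζ i).ne_zero (hd0 i)
  let ℓ : Fin l → (Fin l → ℤ) →+ ℤ := fun i => AddMonoidHom.mk' (fun x => ∑ j, U i j * x j) (by
    intro x y
    simp only [Pi.add_apply, mul_add, Finset.sum_add_distrib])
  have hℓ : ∀ i x, ℓ i x = ∑ j, U i j * x j := fun _ _ => rfl
  -- the functional modulo `d i`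
  have hℓg : ∀ i x, (d i : ℤ) ∣ ℓ i (g x - ((p ^ e : ℕ) : ℤ) • x) := by
    intro i x
    have h1 : g x - ((p ^ e : ℕ) : ℤ) • x = ∑ m, x m • (g (sr m) - ((p ^ e : ℕ) : ℤ) • (sr m : Fin l → ℤ)) := by
      conv_lhs => rw [IsMC.eq_sum_sr x]
      rw [map_sum, Finset.smul_sum, ← Finset.sum_sub_distrib]
      refine Finset.sum_congr rfl fun m _ => ?_
      rw [map_zsmul, smul_sub, smul_comm]
    rw [h1, map_sum]
    refine Finset.dvd_sum fun m _ => ?_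
    rw [map_zsmul, smul_eq_mul]
    exact Dvd.dvd.mul_left (hU i m) _
  have hφ : ∀ a : Fin l → ℤ, IsMC (vl ζ U a) := by
    intro a
    refine ⟨?_, fun x y => ?_⟩
    · unfold vl
      simp only [_root_.Pi.zero_apply, _root_.MulZeroClass.mul_zero, _root_.Finset.sum_const_zero, _root_.zpow_ofNat, _root_.pow_zero, _root_.Finset.prod_const_one]
    · unfold vl
      rw [← Finset.prod_mul_distrib]
      refine Finset.prod_congr rfl fun i _ => ?_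
      rw [← hℓ, ← hℓ, ← hℓ, map_add, mul_add, zpow_add₀ (hζ0 i)]
  have hex : ∀ a, ∃ t ∈ TT D k, ∀ x, cX hp t x = vl ζ U a x := fun a =>
    exists_cX hp hB hd' (hφ a) (fun i => IsAlgClosed.exists_pow_nat_eq _ (Nat.pos_of_ne_zero hd'))
  choose t ht htφ using hex
  have hadd : ∀ a b x, vl ζ U (a + b) x = vl ζ U a x * vl ζ U b x := by
    intro a b x
    unfold vl
    rw [← Finset.prod_mul_distrib]
    refine Finset.prod_congr rfl fun i _ => ?_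
    rw [Pi.add_apply, add_mul, zpow_add₀ (hζ0 i)]
  have hneg : ∀ a x, vl ζ U (-a) x = (vl ζ U a x)⁻¹ := by
    intro a x
    unfold vl
    rw [← Finset.prod_inv_distrib]
    refine Finset.prod_congr rfl fun i _ => ?_
    rw [Pi.neg_apply, neg_mul, zpow_neg]
  have hzero : ∀ x, vl ζ U 0 x = 1 := by
    intro x
    unfold vl
    simp only [_root_.Pi.zero_apply, _root_.MulZeroClass.zero_mul, _root_.zpow_ofNat, _root_.pow_zero, _root_.Finset.prod_const_one]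
  let S : Subgroup ↥(D.group k) :=
    { carrier := {s | s ∈ TT D k ∧ ∃ a : Fin l → ℤ, ∀ x, cX hp s x = vl ζ U a x}
      one_mem' := ⟨one_mem _, 0, fun x => by rw [cX_one, hzero]⟩
      mul_mem' := by
        rintro s s' ⟨hs, a, ha⟩ ⟨hs', b, hb⟩
        exact ⟨mul_mem hs hs', a + b, fun x => by rw [cX_mul hp hs hs', ha, hb, hadd]⟩
      inv_mem' := by
        rintro s ⟨hs, a, ha⟩
        refine ⟨inv_mem hs, -a, fun x => ?_⟩
        have h1 : cX hp s x * cX hp s⁻¹ x = 1 := by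
          rw [← cX_mul hp hs (inv_mem hs), mul_inv_cancel, cX_one]
        rw [hneg, ← ha]
        exact (inv_eq_of_mul_eq_one_right h1).symm }
  have hmemS : ∀ s, s ∈ S ↔ s ∈ TT D k ∧ ∃ a : Fin l → ℤ, ∀ x, cX hp s x = vl ζ U a x := fun _ => Iff.rfl
  -- the cardinality
  have hval : ∀ (a : Fin l → ℤ) i, vl ζ U a (f i) = ζ i ^ a i := by
    intro a i
    unfold vl
    rw [Finset.prod_eq_single i]
    · rw [hUf, if_pos rfl, mul_one]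
    · intro j _ hj
      rw [hUf, if_neg hj, mul_zero, zpow_zero]
    · intro h
      exact absurd (Finset.mem_univ i) h
  have hmod : ∀ (a : Fin l → ℤ) x, vl ζ U a x = vl ζ U (fun i => ((a i) % (d i : ℤ))) x := by
    intro a x
    unfold vl
    refine Finset.prod_congr rfl fun i _ => ?_
    rw [zpow_mul, zpow_mul]
    congr 1
    conv_lhs => rw [← Int.mul_ediv_add_emod (a i) (d i)]
    rw [zpow_add₀ (hζ0 i), zpow_mul, zpow_natCast, (hζ i).pow_eq_one, one_zpow, one_mul]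
  let Φ : (∀ i, Fin (d i)) → ↥S := fun a => ⟨t (fun i => ((a i : ℕ) : ℤ)), ht _, _, htφ _⟩
  have hΦ : Function.Bijective Φ := by
    constructor
    · intro a b hab
      funext i
      have h0 : t (fun i => ((a i : ℕ) : ℤ)) = t (fun i => ((b i : ℕ) : ℤ)) := congrArg Subtype.val hab
      have h1 : vl ζ U (fun i => ((a i : ℕ) : ℤ)) (f i) = vl ζ U (fun i => ((b i : ℕ) : ℤ)) (f i) := by
        rw [← htφ, ← htφ, h0]
      rw [hval, hval, zpow_natCast, zpow_natCast] at h1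
      exact Fin.ext ((hζ i).pow_inj (a i).2 (b i).2 h1)
    · rintro ⟨s, hs⟩
      obtain ⟨hs1, a, ha⟩ := (hmemS s).1 hs
      have hpos : ∀ i, (0 : ℤ) < d i := fun i => Int.natCast_pos.2 (Nat.pos_of_ne_zero (hd0 i))
      refine ⟨fun i => ⟨((a i) % (d i : ℤ)).toNat, ?_⟩, ?_⟩
      · have := Int.emod_lt_of_pos (a i) (hpos i)
        have h2 := Int.emod_nonneg (a i) (hpos i).ne'
        omega
      · apply Subtype.ext
        show t _ = s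
        refine cX_inj hp (ht _) hs1 fun i => ?_
        rw [htφ, ha, hmod a]
        congr 1
        funext j
        exact Int.toNat_of_nonneg (Int.emod_nonneg _ (hpos j).ne')
  refine ⟨S, ζ, ?_, hζ, ?_, fun a => ⟨t a, (hmemS _).2 ⟨ht a, a, htφ a⟩, htφ a⟩⟩
  · rw [← Nat.card_congr (Equiv.ofBijective Φ hΦ), Nat.card_eq_fintype_card, Fintype.card_pi]
    simp only [_root_.Fintype.card_fin]
  · intro y hy
    obtain ⟨hy1, a, ha⟩ := (hmemS y).1 hy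
    refine ⟨hy1, ?_⟩
    have hτt : τ y ∈ TT D k := (F.tor y).2 hy1
    refine cX_inj hp hτt hy1 fun i => ?_
    have h1 := cX_sigma hp cs hτ F hy1 (g.symm (sr i))
    rw [AddEquiv.apply_symm_apply] at h1
    rw [h1, ha, ha]
    unfold vl
    rw [← Finset.prod_pow]
    refine Finset.prod_congr rfl fun j _ => ?_
    obtain ⟨c, hc⟩ := hℓg j (g.symm (sr i))
    rw [AddEquiv.apply_symm_apply, map_sub, map_zsmul, smul_eq_mul] at hc
    have h2 : ℓ j (sr i) = ((p ^ e : ℕ) : ℤ) * ℓ j (g.symm (sr i)) + (d j : ℤ) * c := by linarith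
    rw [← hℓ, ← hℓ, h2, mul_add, zpow_add₀ (hζ0 j)]
    have h3 : ζ j ^ (a j * ((d j : ℤ) * c)) = 1 := by
      rw [mul_left_comm, zpow_mul, zpow_natCast, (hζ j).pow_eq_one, one_zpow]
    rw [h3, mul_one, ← zpow_natCast, ← zpow_mul]
    congr 1
    ring

/-! ### the finite group -/

variable {G0 : Type*} [Group G0] {e0 : G0 →* ↥(D.group k)}

include cs hk in
/-- **Twisted tori** of the finite group `G0` of the fixed points of `σ`. -/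
theorem exists_tor (he : 0 < e) {σ : MulAut ↥(D.group k)} (hσ : IsFrob p e σ)
    (F : Fr cs hp.isCartan (TT D k) (XX D l k) σ g) {d' : ℕ} {B' : Fin l → Fin l → ℤ} (hB : InvC D l d' B')
    (hd' : d' ≠ 0) (w : W) (he0 : Function.Injective e0) (hran : ∀ y, σ y = y → y ∈ e0.range)
    (d : Fin l → ℕ) (hd0 : ∀ i, d i ≠ 0)
    (hdp : ∀ i, (d i).Coprime p) (U f : Fin l → Fin l → ℤ)
    (hUf : ∀ i j, ∑ m, U i m * f j m = if i = j then 1 else 0)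
    (hU : ∀ i m, (d i : ℤ) ∣
      ∑ j, U i j * (theta hp cs w g (sr m) - ((p ^ e : ℕ) : ℤ) • (sr m : Fin l → ℤ)) j) :
    ∃ (z : ↥(D.group k)) (A : Subgroup G0) (ζ : Fin l → k), Nat.card A = ∏ i, d i ∧ IsMulCommutative ↥A ∧
      (∀ x ∈ A, z⁻¹ * e0 x * z ∈ TT D k) ∧ (∀ i, IsPrimitiveRoot (ζ i) (d i)) ∧
      (∀ a : Fin l → ℤ, ∃ x ∈ A, ∀ v, cX hp (z⁻¹ * e0 x * z) v = vl ζ U a v) := by
  classical
  have hN : NSys M (TT D k) (nc hp k) := Cfsg.Agent.H942.CB.nsysT hp hk p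
  obtain ⟨n, hn⟩ := exists_rp cs hN w
  obtain ⟨z, hz⟩ := lang_all hp cs he hσ F 1 n
  rw [map_one, one_mul] at hz
  have hτF : IsFrob p e (MulAut.conj n * σ) := hσ.conj_mul n
  have F1 : Fr cs hp.isCartan (TT D k) (XX D l k) (MulAut.conj n * σ) (g.trans (repAut cs hp.isCartan w)) :=
    (fr_conj hp cs hk p hn).mul F
  obtain ⟨S, ζ, hSc, hζ, hS, hSa⟩ := exists_sub hp cs hk hτF F1 hB hd' d hd0 hdp U f hUf hU
  let c : MulAut ↥(D.group k) := MulAut.conj z⁻¹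
  let A : Subgroup G0 := S.comap (c.toMonoidHom.comp e0)
  have hmem : ∀ x, x ∈ A ↔ z⁻¹ * e0 x * z ∈ S := by
    intro x
    show z⁻¹ * e0 x * (z⁻¹)⁻¹ ∈ S ↔ _
    rw [inv_inv]
  have hfix : ∀ s ∈ S, ∃ x : G0, e0 x = z * s * z⁻¹ := by
    intro s hs
    apply hran
    have h1 : n * σ s * n⁻¹ = s := (hS s hs).2
    have h2 : σ z = z * n := by rw [hz]; group
    rw [map_mul, map_mul, map_inv, h2]
    calc z * n * σ s * (z * n)⁻¹ = z * (n * σ s * n⁻¹) * z⁻¹ := by group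
      _ = _ := by rw [h1]
  have hbij : Function.Bijective (fun x : ↥A => (⟨z⁻¹ * e0 x * z, (hmem x).1 x.2⟩ : ↥S)) := by
    constructor
    · intro x y hxy
      have h1 : z⁻¹ * e0 x * z = z⁻¹ * e0 y * z := congrArg Subtype.val hxy
      exact Subtype.ext (he0 (mul_left_cancel (mul_right_cancel h1)))
    · rintro ⟨s, hs⟩
      obtain ⟨x, hx⟩ := hfix s hs
      have h1 : z⁻¹ * e0 x * z = s := by rw [hx]; group
      exact ⟨⟨x, (hmem x).2 (by rw [h1]; exact hs)⟩, Subtype.ext h1⟩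
  refine ⟨z, A, ζ, ?_, ⟨⟨?_⟩⟩, fun x hx => (hS _ ((hmem x).1 hx)).1, hζ, ?_⟩
  · rw [← hSc]
    exact Nat.card_congr (Equiv.ofBijective _ hbij)
  · intro x y
    apply hbij.1
    apply Subtype.ext
    have hx := (hS _ ((hmem x).1 x.2)).1
    have hy := (hS _ ((hmem y).1 y.2)).1
    have h1 := _root_.Cfsg.Agent.H720.TorusReal.TT_comm hp hx hy
    show z⁻¹ * e0 (x * y) * z = z⁻¹ * e0 (y * x) * z
    rw [map_mul, map_mul]
    calc z⁻¹ * (e0 x * e0 y) * z = (z⁻¹ * e0 x * z) * (z⁻¹ * e0 y * z) := by group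
      _ = (z⁻¹ * e0 y * z) * (z⁻¹ * e0 x * z) := h1
      _ = _ := by group
  · intro a
    obtain ⟨s, hs, h1⟩ := hSa a
    obtain ⟨x, hx⟩ := hfix s hs
    have h2 : z⁻¹ * e0 x * z = s := by rw [hx]; group
    refine ⟨x, (hmem x).2 (by rw [h2]; exact hs), fun v => ?_⟩
    rw [h2]
    exact h1 v

/-! ### centralisers -/

end

end Cfsg.Agent.H251.PQ
end

-- part: H251/PQ/TorCen
section
/-!
# Regular `r`-subgroups of twisted tori (helper251, S4612)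

* `exists_reg` : an `r`-subgroup of a twisted torus with abelian centraliser;
* `not_same_of_cent` : an `r`-subgroup with abelian centraliser of order divisible by `l`.
-/

set_option autoImplicit false
set_option linter.unusedSectionVars false

namespace Cfsg.Agent.H251.PQ

open CoxeterSystem Cfsg Cfsg.Lie Cfsg.Lie.ChevalleyDatum
open Cfsg.Agent.ChevalleyStructure Cfsg.Agent.ChevalleyStructure.Elts Cfsg.Agent.ChevalleyStructure.CoxeterGeom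
  Cfsg.Agent.ChevalleyStructure.CoxeterGeomTypes Cfsg.Agent.ChevalleyStructure.NPerm
open Cfsg.Agent.Tits.Roots Cfsg.Agent.Tits.Core Cfsg.Agent.Nodes Cfsg.Agent.Nodes.Reps Cfsg.Agent.Nodes.BNOf
  Cfsg.Agent.Nodes.RGDChev
open Cfsg.Agent.KFacts.RgdField Cfsg.Agent.KFacts.RgdChevCoord Cfsg.Agent.BpExc.TorCent Cfsg.Agent.BpExc.TorChev
open Cfsg.Agent.GpExc.Field Cfsg.Agent.BpExc.Tow Cfsg.Agent.BpExc.TowChev Cfsg.Agent.BpExc.Fr
  Cfsg.Agent.BpExc.LangFr Cfsg.Agent.LangThm Cfsg.Agent.BpExc Cfsg.Agent.H129.TorusChar Cfsg.Agent.H129.TorusMain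
open Cfsg.Agent.H720.TorusReal Cfsg.Agent.Nodes.Unique Cfsg.Agent.H897.T5Cent Cfsg.Agent.H795.SetCent
open Cfsg.Agent.H317.PQ

universe u v

section

variable {D : ChevalleyDatum} {l : ℕ} {M : CoxeterMatrix (Fin l)} (hp : IsType D l M) {k : Type u} [Field k]
  [IsAlgClosed k] {W : Type v} [Group W] [Finite W] (cs : CoxeterSystem M W) (hk : LocFin k)
  {G0 : Type*} [Group G0] [Finite G0] {e0 : G0 →* ↥(D.group k)}

end

end Cfsg.Agent.H251.PQ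
end

-- part: H251/PQ/TorExc
section
/-!
# Twisted tori of `G₂(q)` and `³D₄(q)` (helper251, S4612)
-/

set_option autoImplicit false
set_option linter.unusedSectionVars false

namespace Cfsg.Agent.H251.PQ

open CoxeterSystem Cfsg Cfsg.Lie Cfsg.Lie.ChevalleyDatum
open Cfsg.Agent.ChevalleyStructure Cfsg.Agent.ChevalleyStructure.Elts Cfsg.Agent.ChevalleyStructure.CoxeterGeom
  Cfsg.Agent.ChevalleyStructure.CoxeterGeomTypes Cfsg.Agent.ChevalleyStructure.NPerm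
open Cfsg.Agent.Tits.Roots Cfsg.Agent.Tits.Core Cfsg.Agent.Nodes Cfsg.Agent.Nodes.Reps Cfsg.Agent.Nodes.BNOf
  Cfsg.Agent.Nodes.RGDChev
open Cfsg.Agent.KFacts.RgdField Cfsg.Agent.KFacts.RgdChevCoord Cfsg.Agent.BpExc.TorCent Cfsg.Agent.BpExc.TorChev
open Cfsg.Agent.GpExc.Field Cfsg.Agent.BpExc.Tow Cfsg.Agent.BpExc.TowChev Cfsg.Agent.BpExc.Fr
  Cfsg.Agent.BpExc.LangFr Cfsg.Agent.LangThm Cfsg.Agent.BpExc Cfsg.Agent.H129.TorusChar Cfsg.Agent.H129.TorusMain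
open Cfsg.Agent.BpExc.FamUntw Cfsg.Agent.BpExc.FamInst Cfsg.Agent.BpExc.FamField
open Cfsg.Agent.H129

universe u

instance finite_WG2 : Finite CoxeterMatrix.G₂.Group :=
  Nat.finite_of_card_ne_zero (by
    rw [Cfsg.Agent.S1092.result (⟨2, CoxeterMatrix.G₂⟩, 12) (by simp)]; norm_num)

section D4

variable {K : Type u} [Field K] [Fintype K] {q : ℕ} (hq : IsPrimePow q) (hK : Fintype.card K = q ^ 3)

/-- the embedding of `³D₄(q)` -/
noncomputable abbrev eD4 (hq : IsPrimePow q) (hK : Fintype.card K = q ^ 3) :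
    ↥(twistedD4 K q) →* ↥(chevD4.group (AlgebraicClosure K)) :=
  TriD4.embT (algebraMap K (AlgebraicClosure K)) hq hK

include hq hK in
/-- the closure -/
theorem closure_D4 : ∃ (p e : ℕ) (_ : Fact p.Prime) (_ : CharP K p) (_ : CharP (AlgebraicClosure K) p), 0 < e ∧
    q = p ^ e ∧ LocFin (AlgebraicClosure K) := by
  obtain ⟨p, e', hpF, hpc, hpk, -, hpe, hk⟩ := TorusUntw.exists_closure hK
  obtain ⟨p', e, hp', he, hqe'⟩ := id hq
  have hpp : p' = p := by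
    have h1 : p' ∣ p ^ e' := by
      rw [← hpe, ← hqe']
      exact dvd_pow (dvd_pow_self p' he.ne') (by norm_num)
    exact (Nat.prime_dvd_prime_iff_eq hp'.nat_prime hpF.out).1 (hp'.nat_prime.dvd_of_dvd_pow h1)
  subst hpp
  exact ⟨p', e, hpF, hpc, hpk, he, hqe'.symm, hk⟩

/-- **Twisted tori of `³D₄(q)`** -/
theorem exists_tor_D4 {L : List (Fin 4 × WData.Mat 4)} (hL : WData.ChainOK DataD4C.Am L) (d : Fin 4 → ℕ)
    (hdq : ∀ i, (d i).Coprime q) (U f : Fin 4 → Fin 4 → ℤ)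
    (hUf : ∀ i j, ∑ m, U i m * f j m = if i = j then 1 else 0)
    (hU : ∀ i m, (d i : ℤ) ∣ ∑ j, U i j *
      (WData.hd L ((![2, 1, 3, 0] : Fin 4 → Fin 4) m) j - (q : ℤ) * (if m = j then 1 else 0))) :
    ∃ (z : ↥(chevD4.group (AlgebraicClosure K))) (A : Subgroup ↥(twistedD4 K q)) (ζ : Fin 4 → AlgebraicClosure K),
      Nat.card A = ∏ i, d i ∧ IsMulCommutative ↥A ∧
      (∀ x ∈ A, z⁻¹ * eD4 hq hK x * z ∈ TT chevD4 (AlgebraicClosure K)) ∧ (∀ i, IsPrimitiveRoot (ζ i) (d i)) ∧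
      (∀ a : Fin 4 → ℤ, ∃ x ∈ A, ∀ v, cX RGDTwD4.hp (z⁻¹ * eD4 hq hK x * z) v = vl ζ U a v) := by
  obtain ⟨p, e, hpF, hpc, hpk, he, hqe, hk⟩ := closure_D4 hq hK
  have hp1 : 1 < p := hpF.out.one_lt
  have hq1 : 1 < q := hq.one_lt
  have hd0 : ∀ i, d i ≠ 0 := by
    intro i h0
    have h1 := hdq i
    rw [h0, Nat.coprime_zero_left] at h1
    omega
  have hdp : ∀ i, (d i).Coprime p := fun i =>
    Nat.Coprime.coprime_dvd_right (by rw [hqe]; exact dvd_pow_self p he.ne') (hdq i)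
  refine exists_tor (k := AlgebraicClosure K) RGDTwD4.hp coxeterD4.toCoxeterSystem hk (p := p) (e := e) he
    (σ := TriD4.tau (AlgebraicClosure K) p e) TriD4.isFrob_tau (TriD4.fr_tau coxeterD4.toCoxeterSystem) invC_D4
    (by norm_num) (coxeterD4.toCoxeterSystem.wordProd (L.map Prod.fst)) (e0 := eD4 hq hK)
    (TriD4.embT_injective _ hq hK) (fun y hy => ?_) d hd0 hdp U f hUf (fun i m => ?_)
  · exact TriD4.tau_range _ hqe hq hK hy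
  · have h1 := TwD4Cyc.lin_tri coxeterD4.toCoxeterSystem DataD4C.hA hL (fun _ => rfl) m
    have h2 := hU i m
    convert h2 using 2
    rename_i j _
    congr 1
    rw [h1, ← hqe, Pi.sub_apply, Pi.smul_apply, smul_eq_mul]
    congr 2
    by_cases h : m = j
    · subst h; rw [if_pos rfl, sr_self]
    · rw [if_neg h, sr_ne (Ne.symm h)]

end D4

end Cfsg.Agent.H251.PQ
end

-- part: H251/PQ/KillTor
section
/-!
# Principal blocks of `G₂(q)` and `³D₄(q)`: pairs of primes of the same order (helper251, S4612)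

* `tor_G2` : `Kill G₂(q) q e e`, `e = 2, 3, 6`;
* `tor_D4` : `Kill ³D₄(q) q e e`, `e = 2, 3, 6, 12`.
-/

set_option autoImplicit false
set_option linter.unusedSectionVars false

namespace Cfsg.Agent.H251.PQ

open CoxeterSystem Cfsg Cfsg.Lie Cfsg.Lie.ChevalleyDatum
open Cfsg.Agent.H129 Cfsg.Agent.H317.PQ Cfsg.Agent.Nodes

universe u

/-! ### arithmetic -/

section Arith

variable {q p : ℕ}

theorem ord_pow (n : ℕ) (hn : ord q p ∣ n) : (q : ZMod p) ^ n = 1 :=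
  orderOf_dvd_iff_pow_eq_one.1 hn

theorem ord_pow_ne (n : ℕ) (hn : ¬ ord q p ∣ n) : (q : ZMod p) ^ n ≠ 1 := fun h =>
  hn (orderOf_dvd_iff_pow_eq_one.2 h)

theorem rel3 [Fact p.Prime] (h : ord q p = 3) : (q : ZMod p) ^ 2 + q + 1 = 0 := by
  have h1 := ord_pow (q := q) (p := p) 3 (by rw [h])
  have h2 := ord_pow_ne (q := q) (p := p) 1 (by rw [h]; decide)
  rw [pow_one] at h2
  have h3 : ((q : ZMod p) - 1) * ((q : ZMod p) ^ 2 + q + 1) = 0 := by linear_combination h1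
  exact (mul_eq_zero.1 h3).resolve_left (sub_ne_zero.2 h2)

end Arith

/-! ### the test -/

/-! ### `G₂(q)` -/

section G2

variable {F : Type u} [Field F] [Fintype F] {q : ℕ} (hq : Fintype.card F = q)

include hq

end G2

end Cfsg.Agent.H251.PQ
end

-- part: H251/PQ/KillD4
section
/-!
# Principal blocks of `³D₄(q)`: pairs of primes of the same order (helper251, S4612)

* `tor_D4` : `Kill ³D₄(q) q e e`, `e = 2, 3, 6, 12`.
-/

set_option autoImplicit false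
set_option linter.unusedSectionVars false

namespace Cfsg.Agent.H251.PQ

open CoxeterSystem Cfsg Cfsg.Lie Cfsg.Lie.ChevalleyDatum
open Cfsg.Agent.H129 Cfsg.Agent.H317.PQ Cfsg.Agent.Nodes

universe u

section

variable {K : Type u} [Field K] [Fintype K] {q : ℕ} (hq : IsPrimePow q) (hK : Fintype.card K = q ^ 3)

include hq hK

end

end Cfsg.Agent.H251.PQ
end

-- part: H251/PQ/TorNorm
section
/-!
# `r`-subgroups of twisted tori on which no root is trivial (helper251, S4612)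

* `mem_norm_of_set` : the centraliser of a subset of the torus on which no root is trivial normalises the torus;
* `not_same_of_root` : the principal blocks for `r` and `l` differ if the torus has an `r`-subgroup on which no root is
  trivial, and order divisible by `l`;
* `two_D4_3` : `KillTwo ³D₄(q) q 3`, `q` odd.
-/

set_option autoImplicit false
set_option linter.unusedSectionVars false

namespace Cfsg.Agent.H251.PQ

open CoxeterSystem Cfsg Cfsg.Lie Cfsg.Lie.ChevalleyDatum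
open Cfsg.Agent.ChevalleyStructure Cfsg.Agent.ChevalleyStructure.Elts Cfsg.Agent.ChevalleyStructure.CoxeterGeom
  Cfsg.Agent.ChevalleyStructure.CoxeterGeomTypes Cfsg.Agent.ChevalleyStructure.NPerm
open Cfsg.Agent.Tits.Roots Cfsg.Agent.Tits.Core Cfsg.Agent.Nodes Cfsg.Agent.Nodes.Reps Cfsg.Agent.Nodes.BNOf
  Cfsg.Agent.Nodes.RGDChev
open Cfsg.Agent.KFacts.RgdField Cfsg.Agent.KFacts.RgdChevCoord Cfsg.Agent.BpExc.TorCent Cfsg.Agent.BpExc.TorChev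
open Cfsg.Agent.GpExc.Field Cfsg.Agent.BpExc.Tow Cfsg.Agent.BpExc.TowChev Cfsg.Agent.BpExc.Fr
  Cfsg.Agent.BpExc.LangFr Cfsg.Agent.LangThm Cfsg.Agent.BpExc Cfsg.Agent.H129.TorusChar Cfsg.Agent.H129.TorusMain
open Cfsg.Agent.H720.TorusReal Cfsg.Agent.Nodes.Unique Cfsg.Agent.H897.T5Cent Cfsg.Agent.H795.SetCent
open Cfsg.Agent.H129 Cfsg.Agent.H317.PQ
open Cfsg.Agent.ChevalleyStructure.RootVec (rt)

universe u v w

/-- **An `r`-subgroup whose centraliser normalises an abelian subgroup** -/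
theorem not_same_of_normal {G : Type u} [Group G] [Finite G] {p l : ℕ} (hp : p.Prime) (hl : l.Prime) (hpl : p ≠ l)
    (E B : Subgroup G) (hE : IsPGroup p E) (hB : IsMulCommutative ↥B) (hEB : E ≤ B)
    (hn : ∀ c ∈ Subgroup.centralizer (E : Set G), ∀ b ∈ B, c * b * c⁻¹ ∈ B)
    (hlB : l ∣ Nat.card B) : ¬ Same p l G := by
  intro h
  have hBC : B ≤ Subgroup.centralizer (E : Set G) := fun b hb => Subgroup.mem_centralizer_iff.2 fun e he =>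
    congrArg Subtype.val (hB.is_comm.comm (⟨e, hEB he⟩ : ↥B) ⟨b, hb⟩)
  have h1 := H358.A3.PQ.of_same hl h
  have h2 := H358.A3.PQ.centralizer_subgroup hp hl hpl h1 E hE
  have hN : (B.subgroupOf (Subgroup.centralizer (E : Set G))).Normal :=
    ⟨fun b hb c => hn c.1 c.2 b.1 hb⟩
  have h3 := H358.A3.PQ.normal hp hl hpl h2 (B.subgroupOf (Subgroup.centralizer (E : Set G)))
  have h4 := H990.PQ.PQ.core_abelian hp hl hpl h3 ⊤
    ⟨⟨fun a b => by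
      have h5 := congrArg Subtype.val (hB.is_comm.comm (⟨a.1.1.1, a.1.2⟩ : ↥B) ⟨b.1.1.1, b.1.2⟩)
      exact Subtype.ext (Subtype.ext (Subtype.ext h5))⟩⟩
    (by rw [Subgroup.index_top]; exact hp.not_dvd_one)
  rw [Subgroup.card_top, Nat.card_congr (Subgroup.subgroupOfEquivOfLe hBC).toEquiv] at h4
  exact h4 hlB

section

variable {D : ChevalleyDatum} {l : ℕ} {M : CoxeterMatrix (Fin l)} (hp : IsType D l M) {k : Type u} [Field k]
  [IsAlgClosed k] {W : Type v} [Group W] [Finite W] (cs : CoxeterSystem M W) (hk : LocFin k)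

include cs hk in
/-- **The centraliser of a subset of the torus** on which no root is trivial normalises the torus. -/
theorem mem_norm_of_set (p : ℕ) [Fact p.Prime] [CharP k p] {Z : Set ↥(D.group k)} (hfin : Z.Finite)
    (hZ : ∀ t ∈ Z, t ∈ TT D k) (hroot : ∀ a, IsRoot cs hp.isCartan a → ∃ t ∈ Z, cX hp t a ≠ 1)
    {c : ↥(D.group k)} (hc : ∀ t ∈ Z, c * t = t * c) {t : ↥(D.group k)} (ht : t ∈ TT D k) :
    c * t * c⁻¹ ∈ TT D k := by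
  have hZ' : Z ⊆ TL (Tj hp (k := k)) := fun t ht => (mem_TL' hp hk).2 (hZ t ht)
  obtain ⟨m, hm, w, kk, hkk, hkt, rfl⟩ := exists_form_centralizer (tow hp cs hk p) (coL hp cs hk p)
    (GG_eq_top hp cs hk) hfin hZ' (c := c) hc
  have hm1 : m = 1 := by
    have h1 : MMZ cs hp.isCartan (XL (Xj hp)) (ch (K := k) hp) Z = ⊥ := by
      rw [eq_bot_iff]
      refine RGD.Sup_le fun a ha => ?_
      exfalso
      obtain ⟨t, ht, h2⟩ := hroot a ha.1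
      apply h2
      rw [cX_root hp cs (hZ t ht) ha.1]
      exact ha.2 t ht
    rw [h1] at hm
    exact Subgroup.mem_bot.1 hm
  rw [hm1, one_mul]
  exact (mem_TL' hp hk).1 ((Subgroup.mem_normalizer_iff.1 hkk.mem_normalizer t).1 ((mem_TL' hp hk).2 ht))

variable {G0 : Type w} [Group G0] [Finite G0] {e0 : G0 →* ↥(D.group k)}

include cs hk in
/-- **Different principal blocks from a torus.** -/
theorem not_same_of_root (p : ℕ) [Fact p.Prime] [CharP k p] (he0 : Function.Injective e0) {z : ↥(D.group k)}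
    {A : Subgroup G0} {ζ : Fin l → k} {d : Fin l → ℕ} {U : Fin l → Fin l → ℤ}
    (hAT : ∀ x ∈ A, z⁻¹ * e0 x * z ∈ TT D k) (hd0 : ∀ i, d i ≠ 0) (hζ : ∀ i, IsPrimitiveRoot (ζ i) (d i))
    (hval : ∀ a : Fin l → ℤ, ∃ x ∈ A, ∀ v, cX hp (z⁻¹ * e0 x * z) v = vl ζ U a v) {r s : ℕ}
    (hr : r.Prime) (hs : s.Prime) (hrs : r ≠ s)
    (m : Fin l → ℕ) (hmd : ∀ i, m i ∣ d i) (hm : ∀ i, ∃ j, m i = r ^ j)
    (hroot : ∀ a, IsRoot cs hp.isCartan a → ¬ ∀ i, (m i : ℤ) ∣ ∑ j, U i j * a j)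
    (hsA : s ∣ Nat.card A) : ¬ Same r s G0 := by
  classical
  let B : Subgroup G0 := (TT D k).comap ((MulAut.conj z⁻¹).toMonoidHom.comp e0)
  have hmem : ∀ x, x ∈ B ↔ z⁻¹ * e0 x * z ∈ TT D k := by
    intro x
    show z⁻¹ * e0 x * (z⁻¹)⁻¹ ∈ TT D k ↔ _
    rw [inv_inv]
  have hAB : A ≤ B := fun x hx => (hmem x).2 (hAT x hx)
  have hcm : ∀ x ∈ B, ∀ y ∈ B, x * y = y * x := by
    intro a ha b hb
    apply he0
    have h1 := _root_.Cfsg.Agent.H720.TorusReal.TT_comm hp ((hmem a).1 ha) ((hmem b).1 hb)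
    have h2 : z⁻¹ * (e0 a * e0 b) * z = z⁻¹ * (e0 b * e0 a) * z := by
      calc z⁻¹ * (e0 a * e0 b) * z = (z⁻¹ * e0 a * z) * (z⁻¹ * e0 b * z) := by group
        _ = (z⁻¹ * e0 b * z) * (z⁻¹ * e0 a * z) := h1
        _ = _ := by group
    rw [map_mul, map_mul]
    exact mul_left_cancel (mul_right_cancel h2)
  let E : Subgroup G0 :=
    { carrier := {x | x ∈ B ∧ ∃ j : ℕ, x ^ r ^ j = 1}
      one_mem' := ⟨one_mem _, 0, one_pow _⟩
      mul_mem' := by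
        rintro x y ⟨hx, i, hi⟩ ⟨hy, j, hj⟩
        refine ⟨mul_mem hx hy, i + j, ?_⟩
        rw [(show Commute x y from hcm x hx y hy).mul_pow, pow_add, pow_mul, hi, one_pow, one_mul, mul_comm,
          pow_mul, hj, one_pow]
      inv_mem' := by
        rintro x ⟨hx, i, hi⟩
        exact ⟨inv_mem hx, i, by rw [inv_pow, hi, inv_one]⟩ }
  have hEB : E ≤ B := fun x hx => hx.1
  -- the elements
  have hex : ∀ i, ∃ x ∈ E, ∀ v, cX hp (z⁻¹ * e0 x * z) v = 1 ↔ (m i : ℤ) ∣ ∑ j, U i j * v j := by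
    intro i
    obtain ⟨c, hc⟩ := hmd i
    have hm0 : m i ≠ 0 := by rintro h; rw [h, zero_mul] at hc; exact hd0 i hc
    have hc0 : c ≠ 0 := by rintro h; rw [h, mul_zero] at hc; exact hd0 i hc
    obtain ⟨x, hx, hx2⟩ := hval (Pi.single i (c : ℤ))
    have hv : ∀ v, cX hp (z⁻¹ * e0 x * z) v = ζ i ^ ((c : ℤ) * ∑ j, U i j * v j) := by
      intro v
      rw [hx2]
      unfold vl
      rw [Finset.prod_eq_single i]
      · rw [Pi.single_eq_same]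
      · intro j _ hj
        rw [Pi.single_eq_of_ne hj, zero_mul, zpow_zero]
      · intro h
        exact absurd (Finset.mem_univ i) h
    refine ⟨x, ⟨hAB hx, ?_⟩, fun v => ?_⟩
    · obtain ⟨j, hj⟩ := hm i
      refine ⟨j, ?_⟩
      rw [← hj]
      apply he0
      rw [map_one, map_pow]
      have h1 : (z⁻¹ * e0 x * z) ^ m i = 1 := by
        refine cX_inj hp (pow_mem (hAT x hx) _) (one_mem _) fun i' => ?_
        rw [cX_pow hp (hAT x hx), cX_one, hv, ← zpow_natCast, ← zpow_mul]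
        have e1 : (c : ℤ) * (∑ j, U i j * (sr i' : Fin l → ℤ) j) * (m i : ℤ) =
            (d i : ℤ) * ∑ j, U i j * (sr i' : Fin l → ℤ) j := by
          rw [hc]; push_cast; ring
        rw [e1, zpow_mul, zpow_natCast, (hζ i).pow_eq_one, one_zpow]
      have h2 : e0 x = z * (z⁻¹ * e0 x * z) * z⁻¹ := by group
      rw [h2, conj_pow, h1, mul_one, mul_inv_cancel]
    · rw [hv, (hζ i).zpow_eq_one_iff_dvd, hc]
      push_cast
      rw [mul_comm (m i : ℤ) (c : ℤ)]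
      exact mul_dvd_mul_iff_left (Nat.cast_ne_zero.2 hc0)
  choose x hxE hx using hex
  refine not_same_of_normal hr hs hrs E B ?_ ⟨⟨fun a b => Subtype.ext (hcm a a.2 b b.2)⟩⟩ hEB ?_
    (hsA.trans (Subgroup.card_dvd_of_le hAB))
  · rintro ⟨y, hy⟩
    obtain ⟨j, hj⟩ := hy.2
    exact ⟨j, Subtype.ext hj⟩
  · intro c hc b hb
    rw [hmem] at hb ⊢
    have h1 := mem_norm_of_set hp cs hk p (Z := (fun y : G0 => z⁻¹ * e0 y * z) '' (E : Set G0)) (Set.toFinite _)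
      (c := z⁻¹ * e0 c * z) ?_ ?_ ?_ hb
    · convert h1 using 1
      rw [map_mul, map_mul, map_inv]
      group
    · rintro _ ⟨y, hy, rfl⟩
      exact (hmem y).1 (hEB hy)
    · intro a ha
      have h1 := hroot a ha
      push Not at h1
      obtain ⟨i, hi⟩ := h1
      exact ⟨_, ⟨x i, hxE i, rfl⟩, fun h => hi ((hx i a).1 h)⟩
    · rintro _ ⟨y, hy, rfl⟩
      have h1 : y * c = c * y := Subgroup.mem_centralizer_iff.1 hc y hy
      show z⁻¹ * e0 c * z * (z⁻¹ * e0 y * z) = z⁻¹ * e0 y * z * (z⁻¹ * e0 c * z)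
      calc z⁻¹ * e0 c * z * (z⁻¹ * e0 y * z) = z⁻¹ * (e0 c * e0 y) * z := by group
        _ = z⁻¹ * (e0 y * e0 c) * z := by rw [← map_mul, ← h1, map_mul]
        _ = _ := by group

end

/-! ### `³D₄(q)` -/

/-- the functionals for the torus `(q³-1)(q-1)` -/
def uD4o (q : ℤ) : Fin 4 → Fin 4 → ℤ := ![![1, 0, q, q ^ 2], ![0, 1, 0, 0], ![0, 0, 1, 0], ![0, 0, 0, 1]]

def vD4o (q : ℤ) : Fin 4 → Fin 4 → ℤ := ![![1, 0, 0, 0], ![0, 1, 0, 0], ![-q, 0, 1, 0], ![-q ^ 2, 0, 0, 1]]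

theorem uvD4o (q : ℤ) : ∀ i j, ∑ m, uD4o q i m * vD4o q j m = if i = j then 1 else 0 := by
  intro i j
  (revert i j; simp only [uD4o, vD4o, Fin.sum_univ_succ, _root_.Fin.forall_fin_succ, _root_.Matrix.cons_val', _root_.Matrix.cons_val_fin_one, Fin.isValue, _root_.Matrix.cons_val_zero, _root_.Matrix.cons_val_succ, _root_.Finset.univ_unique, _root_.Fin.default_eq_zero, _root_.Finset.sum_const, _root_.Finset.card_singleton, _root_.Int.nsmul_eq_mul, _root_.Nat.cast_one, _root_.one_mul, _root_.mul_one, _root_.MulZeroClass.mul_zero, _root_.add_zero, _root_.zero_add, _root_.Fin.succ_zero_eq_one, _root_.mul_neg, _root_.Fin.succ_one_eq_two, Fin.reduceSucc, _root_.IsEmpty.forall_iff, _root_.and_true, ↓reduceIte, _root_.zero_ne_one, _root_.neg_add_cancel, Fin.reduceEq, _root_.and_self, _root_.Fin.succ_ne_zero, _root_.MulZeroClass.zero_mul, _root_.neg_zero, _root_.right_eq_ite_iff,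 _root_.imp_false, _root_.left_eq_ite_iff, _root_.one_ne_zero, _root_.Decidable.not_not, _root_.true_and, _root_.not_false_eq_true])

theorem dvD4o (q N n : ℕ) (hN : (N : ℤ) = (q : ℤ) ^ 3 - 1) (hn : (n : ℤ) = (q : ℤ) - 1) :
    ∀ i m, ((![N, n, 1, 1] : Fin 4 → ℕ) i : ℤ) ∣ ∑ j, uD4o q i j *
      (WData.hd ([] : List (Fin 4 × WData.Mat 4)) ((![2, 1, 3, 0] : Fin 4 → Fin 4) m) j -
        (q : ℤ) * (if m = j then 1 else 0)) := by
  intro i m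
  (revert i m; simp only [WData.hd, uD4o, Fin.sum_univ_succ, hN, hn, _root_.Fin.forall_fin_succ, _root_.Nat.succ_eq_add_one, Nat.reduceAdd, _root_.Matrix.cons_val', _root_.Matrix.cons_val_fin_one, Fin.isValue, _root_.mul_ite, _root_.mul_one, _root_.MulZeroClass.mul_zero, _root_.Matrix.cons_val_zero, _root_.Matrix.cons_val_succ, _root_.Fin.succ_zero_eq_one, _root_.Fin.succ_one_eq_two, _root_.Finset.univ_unique, _root_.Fin.default_eq_zero, _root_.Finset.sum_singleton, Fin.reduceSucc, Fin.reduceEq, ↓reduceIte, _root_.zero_sub, _root_.mul_neg, _root_.zero_ne_one, _root_.sub_self, _root_.sub_zero, _root_.add_zero, _root_.zero_add, _root_.Fin.succ_ne_zero, _root_.one_ne_zero, _root_.neg_zero, _root_.IsEmpty.forall_iff, _root_.and_true, _root_.one_mul, _root_.neg_add_cancel, _root_.dvd_zero, _root_.MulZeroClass.zero_mul, _root_.true_and, _root_.and_self, _root_.Nat.cast_one,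 _root_.dvd_refl, _root_.isUnit_one, _root_.IsUnit.dvd, _root_.implies_true]) <;> (repeat' with_reducible apply And.intro) <;>
    first | done | (refine ⟨0, ?_⟩; ring1) | (refine ⟨-1, ?_⟩; ring1) | (refine ⟨1, ?_⟩; ring1)

theorem rootD4 : ∀ r : Fin chevD4.nroots,
    ¬ ((2 : ℤ) ∣ rt chevD4 r 0 + rt chevD4 r 2 + rt chevD4 r 3 ∧ (2 : ℤ) ∣ rt chevD4 r 1) := by
  decide +kernel

/-- **`KillTwo ³D₄(q) q 3`**, all odd `q` -/
theorem two_D4_3 {K : Type v} [Field K] [Fintype K] {q : ℕ} (hq : IsPrimePow q) (hK : Fintype.card K = q ^ 3)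
    (h2 : q % 2 = 1) : KillTwo ↥(twistedD4 K q) q 3 := by
  intro s hs hs2 _ h3
  have := Fact.mk hs
  obtain ⟨p, e, hpF, hpc, hpk, he, hqe, hk⟩ := closure_D4 hq hK
  have hq1 : 1 < q := hq.one_lt
  have h0 : 1 ≤ q := hq1.le
  have h03 : 1 ≤ q ^ 3 := Nat.one_le_pow _ _ h0
  have hN : ((q ^ 3 - 1 : ℕ) : ℤ) = (q : ℤ) ^ 3 - 1 := by push_cast [Nat.cast_sub h03]; ring
  have hn : ((q - 1 : ℕ) : ℤ) = (q : ℤ) - 1 := by push_cast [Nat.cast_sub h0]; ring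
  obtain ⟨z, A, ζ, hA, -, hT, hζ, hval⟩ := exists_tor_D4 hq hK (L := []) trivial ![q ^ 3 - 1, q - 1, 1, 1]
    (by
      intro i
      fin_cases i
      · exact Nat.isCoprime_iff_coprime.1 ⟨-1, (q : ℤ) ^ 2, by
          show -1 * ((q ^ 3 - 1 : ℕ) : ℤ) + (q : ℤ) ^ 2 * (q : ℤ) = 1
          rw [hN]; ring⟩
      · exact Nat.isCoprime_iff_coprime.1 ⟨-1, 1, by
          show -1 * ((q - 1 : ℕ) : ℤ) + 1 * (q : ℤ) = 1
          rw [hn]; ring⟩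
      · exact Nat.coprime_one_left q
      · exact Nat.coprime_one_left q)
    (uD4o q) (vD4o q) (uvD4o q) (dvD4o q _ _ hN hn)
  have h23 : 2 ∣ q ^ 3 - 1 := by
    have h4 : q ^ 3 % 2 = 1 := by rw [Nat.pow_mod, h2]
    (clear * - h4; omega)
  refine not_same_of_root RGDTwD4.hp coxeterD4.toCoxeterSystem hk p (TriD4.embT_injective _ hq hK) hT
    (by
      intro i
      fin_cases i
      · show q ^ 3 - 1 ≠ 0
        have : 2 ^ 3 ≤ q ^ 3 := Nat.pow_le_pow_left hq1 3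
        omega
      · show q - 1 ≠ 0
        omega
      · exact one_ne_zero
      · exact one_ne_zero) hζ hval Nat.prime_two hs hs2.symm ![2, 2, 1, 1] ?_ ?_ ?_ ?_
  · intro i
    fin_cases i
    · exact h23
    · show 2 ∣ q - 1
      omega
    · exact one_dvd _
    · exact one_dvd _
  · intro i
    fin_cases i
    · exact ⟨1, rfl⟩
    · exact ⟨1, rfl⟩
    · exact ⟨0, rfl⟩
    · exact ⟨0, rfl⟩
  · intro a ha hd
    obtain ⟨r, hr, hra⟩ := (RGDChev.isRoot_iff RGDTwD4.hp coxeterD4.toCoxeterSystem a).1 ha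
    refine rootD4 ⟨r, hr⟩ ?_
    have h4 : (2 : ℤ) ∣ ∑ j, uD4o q 0 j * a j := hd 0
    have h5 : (2 : ℤ) ∣ ∑ j, uD4o q 1 j * a j := hd 1
    have e4 : ∑ j, uD4o q 0 j * a j = a 0 + q * a 2 + q ^ 2 * a 3 := by
      simp only [uD4o, Fin.sum_univ_succ, _root_.Fin.isValue, _root_.Matrix.cons_val', _root_.Matrix.cons_val_fin_one, _root_.Matrix.cons_val_zero, _root_.one_mul, _root_.Matrix.cons_val_succ, _root_.Fin.succ_zero_eq_one, _root_.MulZeroClass.zero_mul, _root_.Fin.succ_one_eq_two, _root_.Finset.univ_unique, _root_.Fin.default_eq_zero, _root_.Finset.sum_singleton, _root_.Fin.reduceSucc, _root_.zero_add]; ring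
    have e5 : ∑ j, uD4o q 1 j * a j = a 1 := by
      simp [uD4o, Fin.sum_univ_succ]
    rw [e4] at h4
    rw [e5] at h5
    rw [← hra] at h4 h5
    refine ⟨?_, h5⟩
    change (2 : ℤ) ∣ rt chevD4 r 0 + q * rt chevD4 r 2 + q ^ 2 * rt chevD4 r 3 at h4
    obtain ⟨t, ht⟩ : ∃ t : ℤ, (q : ℤ) = 2 * t + 1 := ⟨((q / 2 : ℕ) : ℤ), by push_cast; omega⟩
    have e6 : rt chevD4 r 0 + rt chevD4 r 2 + rt chevD4 r 3 = (rt chevD4 r 0 + q * rt chevD4 r 2 + q ^ 2 * rt chevD4 r 3)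
        - 2 * (t * rt chevD4 r 2 + (2 * t ^ 2 + 2 * t) * rt chevD4 r 3) := by
      rw [ht]; ring
    show (2 : ℤ) ∣ rt chevD4 r 0 + rt chevD4 r 2 + rt chevD4 r 3
    rw [e6]
    exact dvd_sub h4 (dvd_mul_right _ _)
  · have h4 := rel3 h3
    rw [hA]
    have h5 : s ∣ q ^ 3 - 1 := by
      rw [← Int.natCast_dvd_natCast, hN, ← ZMod.intCast_zmod_eq_zero_iff_dvd]
      push_cast
      linear_combination ((q : ZMod s) - 1) * h4
    exact h5.trans (Finset.dvd_prod_of_mem (![q ^ 3 - 1, q - 1, 1, 1] : Fin 4 → ℕ) (Finset.mem_univ 0))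

end Cfsg.Agent.H251.PQ
end

private theorem dce_4d41b1d531c6 : _root_.True := by
  try have : _root_.True := by simp only [_root_.Cfsg.Agent.H129.WData.hd.eq_1]
  try have : _root_.True := by simp only [_root_.Cfsg.Agent.H129.WData.hd.eq_2]
  try have : _root_.True := by simp only [_root_.Cfsg.Agent.H129.TorusChar.cX.congr_simp]
  try have : _root_.True := by simp only [_root_.Cfsg.Agent.H251.PQ.vD4o.eq_1]
  try have : _root_.True := by simp only [_root_.Cfsg.Agent.H251.PQ.uD4o.eq_1]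
  exact _root_.True.intro
end

-- part: H604/PQ/FourA
section
prune_inst 0x4315065557762020000050596730066b57700059000200000e8c609460d89e362c9422960aea0300b42cea28410350028131000d0424000000e844000011e018000288606d1c90099c8001900008c01000010088000000000000080000000000401c010000
set_option linter.all false
open scoped Cfsg.Agent.FastGrp

/-!
# S4612, the row `F₄(q)`: arithmetic (helper604)

`S` = the set of the constituents (order of `FullF4d`: `1`, `q P4 P8 P12 / 2`, `q P2² P6² P8 / 2`, `q² P3² P6² P12`,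
`q³ P4² P8 P12`) in the principal `p`-block, `e` the order of `q` modulo `p`:
`e = 2`: `{0,1,3,4}`, (`p = 5`) `{0,3}`: excluded by the coset test, (`p = 7`) `{0,4}`, (`p = 3`) `{0,1,4}`;
`e = 3`: `{0,1}`, `{0,1,2,4}`; `e = 4`: `{0,2,3}`; `e = 6`: `{0,1,4}`; `e = 8`: `{0,3}`, `{0,3,4}`; `e = 12`: `{0,2}`.
-/

set_option autoImplicit false

namespace Cfsg.Agent.H604.PQ

open Cfsg Cfsg.Lie Cfsg.Agent.H317.PQ Cfsg.Agent.H996.PQ Cfsg.Agent.H996.Eight.Cert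
open Cfsg.Agent.H64.Dl.Sph (ev ev_cons ev_nil)
open Cfsg.Agent.H996.PQ.FullF4d (pol evN evD1 evD2 evD3 evD4 evdn1 evdn2 evdn3 evdn4 deg)

universe u

section vals

variable {q p : ℕ} [Fact p.Prime] {S : Finset (Fin 5)}

/-- the tests modulo `p` -/
structure V (q p : ℕ) (S : Finset (Fin 5)) (d1 d2 d3 d4 : ZMod p) : Prop where
  v1 : 2 * d1 = (q : ZMod p) * ((q : ZMod p) ^ 2 + 1) * ((q : ZMod p) ^ 4 + 1) * ((q : ZMod p) ^ 4 - (q : ZMod p) ^ 2 + 1)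
  v2 : 2 * d2 = (q : ZMod p) * ((q : ZMod p) + 1) ^ 2 * ((q : ZMod p) ^ 2 - (q : ZMod p) + 1) ^ 2 * ((q : ZMod p) ^ 4 + 1)
  v3 : d3 = (q : ZMod p) ^ 2 * ((q : ZMod p) ^ 2 + (q : ZMod p) + 1) ^ 2 * ((q : ZMod p) ^ 2 - (q : ZMod p) + 1) ^ 2 *
    ((q : ZMod p) ^ 4 - (q : ZMod p) ^ 2 + 1)
  v4 : d4 = (q : ZMod p) ^ 3 * ((q : ZMod p) ^ 2 + 1) ^ 2 * ((q : ZMod p) ^ 4 + 1) *
    ((q : ZMod p) ^ 4 - (q : ZMod p) ^ 2 + 1)
  c1 : 1 ∈ S → ((q : ZMod p) - 1) * ((q : ZMod p) ^ 7 * ((q : ZMod p) + 1) ^ 2 * ((q : ZMod p) ^ 2 + (q : ZMod p) + 1) *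
    ((q : ZMod p) ^ 2 - (q : ZMod p) + 1) ^ 2) = 0
  c2 : 2 ∈ S → ((q : ZMod p) - 1) * ((q : ZMod p) ^ 7 * ((q : ZMod p) ^ 2 + (q : ZMod p) + 1) * ((q : ZMod p) ^ 2 + 1) *
    ((q : ZMod p) ^ 4 - (q : ZMod p) ^ 2 + 1)) = 0
  c3 : 3 ∈ S → ((q : ZMod p) - 1) * ((q : ZMod p) ^ 8 * ((q : ZMod p) + 1) * ((q : ZMod p) ^ 2 + 1) *
    ((q : ZMod p) ^ 4 + 1)) = 0
  c4 : 4 ∈ S → ((q : ZMod p) - 1) * ((q : ZMod p) ^ 6 * ((q : ZMod p) + 1) * ((q : ZMod p) ^ 2 + (q : ZMod p) + 1) *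
    ((q : ZMod p) ^ 2 - (q : ZMod p) + 1) * ((q : ZMod p) ^ 4 + 1)) = 0
  s : ((q : ZMod p) + 1) * ((q : ZMod p) ^ 2 + (q : ZMod p) + 1) * ((q : ZMod p) ^ 2 + 1) *
    ((q : ZMod p) ^ 2 - (q : ZMod p) + 1) * ((q : ZMod p) ^ 4 + 1) * ((q : ZMod p) ^ 4 - (q : ZMod p) ^ 2 + 1) = 0 →
    1 + (if 1 ∈ S then d1 else 0) + (if 2 ∈ S then d2 else 0) + (if 3 ∈ S then d3 else 0) + (if 4 ∈ S then d4 else 0) = 0

theorem sum_eq (h0 : (0 : Fin 5) ∈ S) (f : Fin 5 → ℤ) : ∑ i ∈ S, f i =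
    f 0 + (if 1 ∈ S then f 1 else 0) + (if 2 ∈ S then f 2 else 0) + (if 3 ∈ S then f 3 else 0) +
      (if 4 ∈ S then f 4 else 0) := by
  rw [← Finset.univ_inter S, ← Finset.sum_ite_mem, Fin.sum_univ_five]
  simp only [Finset.univ_inter, h0, if_true]

theorem deg0 (hq : 2 ≤ q) : (pol.deg q 0 : ℤ) = 1 := by
  have h := deg hq 0
  have h1 : (pol.den 0 : ℤ) = 1 := by decide
  have h2 : evZ (q : ℤ) (pol.dn 0) = 1 := by
    show evZ (q : ℤ) [1] = 1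
    simp only [evZ]
    ring
  rw [h1, h2, one_mul] at h
  exact h

theorem deg1 (hq : 2 ≤ q) : 2 * (pol.deg q 1 : ℤ) = q * ((q : ℤ) ^ 2 + 1) * ((q : ℤ) ^ 4 + 1) *
    ((q : ℤ) ^ 4 - (q : ℤ) ^ 2 + 1) := by
  rw [← evdn1, ← deg hq 1]
  rfl

theorem deg2 (hq : 2 ≤ q) : 2 * (pol.deg q 2 : ℤ) = q * ((q : ℤ) + 1) ^ 2 * ((q : ℤ) ^ 2 - (q : ℤ) + 1) ^ 2 *
    ((q : ℤ) ^ 4 + 1) := by
  rw [← evdn2, ← deg hq 2]
  rfl

theorem deg3 (hq : 2 ≤ q) : (pol.deg q 3 : ℤ) = (q : ℤ) ^ 2 * ((q : ℤ) ^ 2 + (q : ℤ) + 1) ^ 2 *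
    ((q : ℤ) ^ 2 - (q : ℤ) + 1) ^ 2 * ((q : ℤ) ^ 4 - (q : ℤ) ^ 2 + 1) := by
  rw [← evdn3, ← deg hq 3]
  exact (one_mul _).symm

theorem deg4 (hq : 2 ≤ q) : (pol.deg q 4 : ℤ) = (q : ℤ) ^ 3 * ((q : ℤ) ^ 2 + 1) ^ 2 * ((q : ℤ) ^ 4 + 1) *
    ((q : ℤ) ^ 4 - (q : ℤ) ^ 2 + 1) := by
  rw [← evdn4, ← deg hq 4]
  exact (one_mul _).symm

theorem exists_V (hq : 2 ≤ q) (h0 : (0 : Fin 5) ∈ S) (hT : Tst pol q p S) :
    V q p S ((pol.deg q 1 : ℤ) : ZMod p) ((pol.deg q 2 : ℤ) : ZMod p) ((pol.deg q 3 : ℤ) : ZMod p)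
      ((pol.deg q 4 : ℤ) : ZMod p) := by
  have hc : ∀ i ∈ S, ((((q : ℤ) - 1) * evZ (q : ℤ) (pol.D i) : ℤ) : ZMod p) = 0 := fun i hi =>
    (ZMod.intCast_zmod_eq_zero_iff_dvd _ _).2 (hT.cls i hi)
  refine ⟨?_, ?_, ?_, ?_, ?_, ?_, ?_, ?_, ?_⟩
  · have h := congrArg (Int.cast : ℤ → ZMod p) (deg1 hq)
    push_cast at h ⊢
    exact h
  · have h := congrArg (Int.cast : ℤ → ZMod p) (deg2 hq)
    push_cast at h ⊢
    exact h
  · have h := congrArg (Int.cast : ℤ → ZMod p) (deg3 hq)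
    push_cast at h ⊢
    exact h
  · have h := congrArg (Int.cast : ℤ → ZMod p) (deg4 hq)
    push_cast at h ⊢
    exact h
  · intro h1
    have h := hc 1 h1
    rw [evD1] at h
    push_cast at h
    exact h
  · intro h1
    have h := hc 2 h1
    rw [evD2] at h
    push_cast at h
    exact h
  · intro h1
    have h := hc 3 h1
    rw [evD3] at h
    push_cast at h
    exact h
  · intro h1
    have h := hc 4 h1
    rw [evD4] at h
    push_cast at h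
    exact h
  · intro h1
    have hN : (p : ℤ) ^ 1 ∣ evZ (q : ℤ) pol.N := by
      rw [pow_one, ← ZMod.intCast_zmod_eq_zero_iff_dvd, evN]
      push_cast
      exact h1
    have h2 := hT.tr 1 hN
    rw [pow_one, ← ZMod.intCast_zmod_eq_zero_iff_dvd, sum_eq h0, deg0 hq] at h2
    push_cast [apply_ite (Int.cast : ℤ → ZMod p)] at h2 ⊢
    exact h2

end vals

section pat

variable {q p : ℕ} [hF : Fact p.Prime] {S : Finset (Fin 5)} {e : ℕ} {d1 d2 d3 d4 : ZMod p}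

theorem pw_ne (he : ord q p = e) {k : ℕ} (hk : ¬ e ∣ k) : (q : ZMod p) ^ k ≠ 1 := by
  intro h
  apply hk
  rw [← he]
  exact orderOf_dvd_of_pow_eq_one h

theorem pw_eq (he : ord q p = e) : (q : ZMod p) ^ e = 1 := by
  rw [← he]
  exact pow_orderOf_eq_one _

theorem f0 (he : ord q p = e) (h0 : e ≠ 0) : (q : ZMod p) ≠ 0 := by
  intro h
  have h1 := pw_eq he
  rw [h, zero_pow h0] at h1
  exact zero_ne_one h1

theorem f1 (he : ord q p = e) (h : ¬ e ∣ 1) : (q : ZMod p) - 1 ≠ 0 := fun h1 => pw_ne he h (by linear_combination h1)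

theorem f2 (he : ord q p = e) (h : ¬ e ∣ 2) : (q : ZMod p) + 1 ≠ 0 := fun h1 =>
  pw_ne he h (by linear_combination ((q : ZMod p) - 1) * h1)

theorem f3 (he : ord q p = e) (h : ¬ e ∣ 3) : (q : ZMod p) ^ 2 + (q : ZMod p) + 1 ≠ 0 := fun h1 =>
  pw_ne he h (by linear_combination ((q : ZMod p) - 1) * h1)

theorem f4 (he : ord q p = e) (h : ¬ e ∣ 4) : (q : ZMod p) ^ 2 + 1 ≠ 0 := fun h1 =>
  pw_ne he h (by linear_combination ((q : ZMod p) ^ 2 - 1) * h1)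

theorem f6 (he : ord q p = e) (h : ¬ e ∣ 6) : (q : ZMod p) ^ 2 - (q : ZMod p) + 1 ≠ 0 := fun h1 =>
  pw_ne he h (by linear_combination ((q : ZMod p) + 1) * ((q : ZMod p) ^ 3 - 1) * h1)

theorem f8 (he : ord q p = e) (h : ¬ e ∣ 8) : (q : ZMod p) ^ 4 + 1 ≠ 0 := fun h1 =>
  pw_ne he h (by linear_combination ((q : ZMod p) ^ 4 - 1) * h1)

theorem f12 (he : ord q p = e) (h : ¬ e ∣ 12) : (q : ZMod p) ^ 4 - (q : ZMod p) ^ 2 + 1 ≠ 0 := fun h1 =>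
  pw_ne he h (by linear_combination ((q : ZMod p) ^ 6 - 1) * ((q : ZMod p) ^ 2 + 1) * h1)

theorem dvd_sub_one (he : ord q p = e) (h0 : e ≠ 0) : e ∣ p - 1 := by
  rw [← he]
  exact orderOf_dvd_of_pow_eq_one (ZMod.pow_card_sub_one_eq_one (f0 he h0))

theorem ge_of (he : ord q p = e) (h0 : 3 ≤ e) : 5 ≤ p := by
  have h1 := dvd_sub_one he (by omega)
  have h2 := hF.out.two_le
  have h3 := Nat.le_of_dvd (by omega) h1
  have h4 : p ≠ 4 := by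
    rintro rfl
    exact absurd hF.out (by norm_num)
  omega

theorem nat_ne {n : ℕ} (h : ¬ p ∣ n) : ((n : ℕ) : ZMod p) ≠ 0 := fun h1 => h ((ZMod.natCast_eq_zero_iff n p).1 h1)

theorem lt_ne {n : ℕ} (h0 : n ≠ 0) (h : n < p) : ((n : ℕ) : ZMod p) ≠ 0 :=
  nat_ne fun h1 => absurd (Nat.le_of_dvd (Nat.pos_of_ne_zero h0) h1) (by omega)

theorem root2 (he : ord q p = 2) : (q : ZMod p) + 1 = 0 := by
  have h : ((q : ZMod p) - 1) * ((q : ZMod p) + 1) = 0 := by linear_combination pw_eq he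
  exact (mul_eq_zero.1 h).resolve_left (f1 he (by decide))

theorem root3 (he : ord q p = 3) : (q : ZMod p) ^ 2 + (q : ZMod p) + 1 = 0 := by
  have h : ((q : ZMod p) - 1) * ((q : ZMod p) ^ 2 + (q : ZMod p) + 1) = 0 := by linear_combination pw_eq he
  exact (mul_eq_zero.1 h).resolve_left (f1 he (by decide))

theorem root4 (he : ord q p = 4) : (q : ZMod p) ^ 2 + 1 = 0 := by
  have h : (((q : ZMod p) - 1) * ((q : ZMod p) + 1)) * ((q : ZMod p) ^ 2 + 1) = 0 := by linear_combination pw_eq he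
  exact (mul_eq_zero.1 h).resolve_left (mul_ne_zero (f1 he (by decide)) (f2 he (by decide)))

theorem root6 (he : ord q p = 6) : (q : ZMod p) ^ 2 - (q : ZMod p) + 1 = 0 := by
  have h : ((((q : ZMod p) - 1) * ((q : ZMod p) ^ 2 + (q : ZMod p) + 1)) * ((q : ZMod p) + 1)) *
      ((q : ZMod p) ^ 2 - (q : ZMod p) + 1) = 0 := by linear_combination pw_eq he
  exact (mul_eq_zero.1 h).resolve_left
    (mul_ne_zero (mul_ne_zero (f1 he (by decide)) (f3 he (by decide))) (f2 he (by decide)))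

theorem root8 (he : ord q p = 8) : (q : ZMod p) ^ 4 + 1 = 0 := by
  have h : (((q : ZMod p) - 1) * ((q : ZMod p) + 1) * ((q : ZMod p) ^ 2 + 1)) * ((q : ZMod p) ^ 4 + 1) = 0 := by
    linear_combination pw_eq he
  exact (mul_eq_zero.1 h).resolve_left
    (mul_ne_zero (mul_ne_zero (f1 he (by decide)) (f2 he (by decide))) (f4 he (by decide)))

theorem root12 (he : ord q p = 12) : (q : ZMod p) ^ 4 - (q : ZMod p) ^ 2 + 1 = 0 := by
  have h : (((q : ZMod p) - 1) * ((q : ZMod p) ^ 2 + (q : ZMod p) + 1) * ((q : ZMod p) + 1) *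
      ((q : ZMod p) ^ 2 - (q : ZMod p) + 1) * ((q : ZMod p) ^ 2 + 1)) *
      ((q : ZMod p) ^ 4 - (q : ZMod p) ^ 2 + 1) = 0 := by linear_combination pw_eq he
  exact (mul_eq_zero.1 h).resolve_left
    (mul_ne_zero (mul_ne_zero (mul_ne_zero (mul_ne_zero (f1 he (by decide)) (f3 he (by decide))) (f2 he (by decide)))
      (f6 he (by decide))) (f4 he (by decide)))

theorem half {a b : ZMod p} (hp2 : p ≠ 2) (h : 2 * a = 2 * b) : a = b := by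
  have h2 : (2 : ZMod p) ≠ 0 := by
    have := nat_ne (p := p) (n := 2) (fun h => hp2 ((Nat.prime_dvd_prime_iff_eq hF.out Nat.prime_two).1 h))
    exact_mod_cast this
  exact mul_left_cancel₀ h2 h

theorem pat2 (hp2 : p ≠ 2) (hp3 : p ≠ 3) (he : ord q p = 2) (hV : V q p S d1 d2 d3 d4) :
    2 ∉ S ∧ ((1 ∈ S ∧ 3 ∈ S ∧ 4 ∈ S) ∨ (p = 5 ∧ 1 ∉ S ∧ 3 ∈ S ∧ 4 ∉ S) ∨ (p = 7 ∧ 1 ∉ S ∧ 3 ∉ S ∧ 4 ∈ S)) := by
  have hz : (q : ZMod p) = -1 := by linear_combination root2 he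
  have hdvd : ∀ n : ℕ, ((n : ℕ) : ZMod p) = 0 → p ∣ n := fun n h => (ZMod.natCast_eq_zero_iff n p).1 h
  have h5 : 5 ≤ p := by
    have h2 := hF.out.two_le
    have h4 : p ≠ 4 := by
      rintro rfl
      exact absurd hF.out (by norm_num)
    omega
  have e1 : d1 = -2 := half hp2 (by rw [hV.v1, hz]; ring)
  have e3 : d3 = 9 := by rw [hV.v3, hz]; ring
  have e4 : d4 = -8 := by rw [hV.v4, hz]; ring
  have h2S : 2 ∉ S := by
    intro h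
    have h1 := hV.c2 h
    rw [hz] at h1
    have h3 : ((4 : ℕ) : ZMod p) = 0 := by push_cast; linear_combination h1
    exact lt_ne (by norm_num) (by omega) h3
  have hs := hV.s (by rw [hz]; ring)
  rw [if_neg h2S, e1, e3, e4] at hs
  refine ⟨h2S, ?_⟩
  have ha : ∀ n : ℕ, n ∈ [1, 2, 8, 9] → ((n : ℕ) : ZMod p) ≠ 0 := by
    intro n hn h
    have h1 := hdvd n h
    simp only [List.mem_cons, List.not_mem_nil, or_false] at hn
    have hlt := Nat.le_of_dvd (by omega) h1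
    have hp := hF.out
    rcases hn with rfl | rfl | rfl | rfl
    · omega
    · omega
    · have h6 : p ∣ 2 ^ 3 := h1
      have := (Nat.prime_dvd_prime_iff_eq hp Nat.prime_two).1 (hp.dvd_of_dvd_pow h6)
      omega
    · have h6 : p ∣ 3 ^ 2 := h1
      have := (Nat.prime_dvd_prime_iff_eq hp Nat.prime_three).1 (hp.dvd_of_dvd_pow h6)
      omega
  by_cases b1 : 1 ∈ S <;> by_cases b3 : 3 ∈ S <;> by_cases b4 : 4 ∈ S <;>
    simp only [b1, b3, b4, if_true, if_false] at hs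
  · exact Or.inl ⟨b1, b3, b4⟩
  · exfalso
    apply ha 8 (by decide)
    push_cast; linear_combination hs
  · exfalso
    apply ha 9 (by decide)
    push_cast; linear_combination -hs
  · exfalso
    apply ha 1 (by decide)
    push_cast; linear_combination -hs
  · exfalso
    apply ha 2 (by decide)
    push_cast; linear_combination hs
  · refine Or.inr (Or.inl ⟨?_, b1, b3, b4⟩)
    have h6 : p ∣ 2 * 5 := hdvd 10 (by push_cast; linear_combination hs)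
    rcases (Nat.Prime.dvd_mul hF.out).1 h6 with h | h
    · exact absurd (Nat.le_of_dvd (by norm_num) h) (by omega)
    · exact (Nat.prime_dvd_prime_iff_eq hF.out (by norm_num)).1 h
  · refine Or.inr (Or.inr ⟨?_, b1, b3, b4⟩)
    have h6 : p ∣ 7 := hdvd 7 (by push_cast; linear_combination -hs)
    exact (Nat.prime_dvd_prime_iff_eq hF.out (by norm_num)).1 h6
  · exfalso
    apply ha 1 (by decide)
    push_cast; linear_combination hs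

theorem pat3 (he : ord q p = 3) (hV : V q p S d1 d2 d3 d4) : 3 ∉ S ∧ 1 ∈ S ∧ (2 ∈ S ↔ 4 ∈ S) := by
  have h5 := ge_of he le_rfl
  have hp2 : p ≠ 2 := by omega
  have hr := root3 he
  have hz2 : (q : ZMod p) ^ 2 = -(q : ZMod p) - 1 := by linear_combination hr
  have hz3 : (q : ZMod p) ^ 3 = 1 := pw_eq he
  have hz4 : (q : ZMod p) ^ 4 = (q : ZMod p) := by linear_combination (q : ZMod p) * hz3
  have e1 : d1 = -1 := half hp2 (by
    rw [hV.v1]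
    linear_combination (2 - (q : ZMod p) - (q : ZMod p) ^ 2 + 2 * (q : ZMod p) ^ 3 - (q : ZMod p) ^ 4 +
      (q : ZMod p) ^ 6 - (q : ZMod p) ^ 8 + (q : ZMod p) ^ 9) * hr)
  have e2 : d2 = -2 := half hp2 (by
    rw [hV.v2]
    linear_combination (4 - 3 * (q : ZMod p) - (q : ZMod p) ^ 2 + 4 * (q : ZMod p) ^ 3 - (q : ZMod p) ^ 4 -
      2 * (q : ZMod p) ^ 5 + 3 * (q : ZMod p) ^ 6 - (q : ZMod p) ^ 8 + (q : ZMod p) ^ 9) * hr)
  have e4 : d4 = 2 := by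
    rw [hV.v4]
    linear_combination (-2 + 2 * (q : ZMod p) - (q : ZMod p) ^ 3 + (q : ZMod p) ^ 4 + (q : ZMod p) ^ 5 -
      2 * (q : ZMod p) ^ 6 + 2 * (q : ZMod p) ^ 7 + (q : ZMod p) ^ 11 - (q : ZMod p) ^ 12 + (q : ZMod p) ^ 13) * hr
  have h3S : 3 ∉ S := fun h =>
    (mul_ne_zero (f1 he (by decide)) (mul_ne_zero (mul_ne_zero (mul_ne_zero (pow_ne_zero 8 (f0 he (by norm_num)))
      (f2 he (by decide))) (f4 he (by decide))) (f8 he (by decide)))) (hV.c3 h)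
  have hs := hV.s (by rw [hr]; ring)
  rw [if_neg h3S, e1, e2, e4] at hs
  have k1 : ((1 : ℕ) : ZMod p) ≠ 0 := lt_ne (by norm_num) (by omega)
  have k2 : ((2 : ℕ) : ZMod p) ≠ 0 := lt_ne (by norm_num) (by omega)
  have k3 : ((3 : ℕ) : ZMod p) ≠ 0 := lt_ne (by norm_num) (by omega)
  push_cast at k1 k2 k3
  refine ⟨h3S, ?_⟩
  by_cases b1 : 1 ∈ S <;> by_cases b2 : 2 ∈ S <;> by_cases b4 : 4 ∈ S <;>
    simp only [b1, b2, b4, if_true, if_false] at hs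
  · exact ⟨b1, by simp [b2, b4]⟩
  · exact absurd (by linear_combination -hs) k2
  · exact absurd (by linear_combination hs) k2
  · exact ⟨b1, by simp [b2, b4]⟩
  · exact absurd (by linear_combination hs) k1
  · exact absurd (by linear_combination -hs) k1
  · exact absurd (by linear_combination hs) k3
  · exact absurd (by linear_combination hs) k1

theorem pat4 (he : ord q p = 4) (hV : V q p S d1 d2 d3 d4) : 1 ∉ S ∧ 4 ∉ S ∧ 2 ∈ S ∧ 3 ∈ S := by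
  have h5 := ge_of he (by norm_num)
  have hp2 : p ≠ 2 := by omega
  have hr := root4 he
  have hz2 : (q : ZMod p) ^ 2 = -1 := by linear_combination hr
  have hz4 : (q : ZMod p) ^ 4 = 1 := pw_eq he
  have k1 : ((1 : ℕ) : ZMod p) ≠ 0 := lt_ne (by norm_num) (by omega)
  have k2 : ((2 : ℕ) : ZMod p) ≠ 0 := lt_ne (by norm_num) (by omega)
  have k3 : ((3 : ℕ) : ZMod p) ≠ 0 := lt_ne (by norm_num) (by omega)
  push_cast at k1 k2 k3
  have e2 : d2 = 2 := half hp2 (by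
    rw [hV.v2]
    linear_combination (-4 + (q : ZMod p) + 4 * (q : ZMod p) ^ 2 - (q : ZMod p) ^ 3 - 2 * (q : ZMod p) ^ 4 +
      2 * (q : ZMod p) ^ 5 + 2 * (q : ZMod p) ^ 6 - (q : ZMod p) ^ 7 + (q : ZMod p) ^ 9) * hr)
  have e3 : d3 = -3 := by
    rw [hV.v3]
    linear_combination (3 - 2 * (q : ZMod p) ^ 2 + 3 * (q : ZMod p) ^ 4 - (q : ZMod p) ^ 6 + 2 * (q : ZMod p) ^ 8 +
      (q : ZMod p) ^ 12) * hr
  have h1S : 1 ∉ S := fun h =>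
    (mul_ne_zero (f1 he (by decide)) (mul_ne_zero (mul_ne_zero (mul_ne_zero (pow_ne_zero 7 (f0 he (by norm_num)))
      (pow_ne_zero 2 (f2 he (by decide)))) (f3 he (by decide))) (pow_ne_zero 2 (f6 he (by decide))))) (hV.c1 h)
  have h48 : (q : ZMod p) ^ 4 + 1 ≠ 0 := fun h => k2 (by rw [hz4] at h; linear_combination h)
  have h4S : 4 ∉ S := fun h =>
    (mul_ne_zero (f1 he (by decide)) (mul_ne_zero (mul_ne_zero (mul_ne_zero (mul_ne_zero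
      (pow_ne_zero 6 (f0 he (by norm_num))) (f2 he (by decide))) (f3 he (by decide))) (f6 he (by decide))) h48))
      (hV.c4 h)
  have hs := hV.s (by rw [hr]; ring)
  rw [if_neg h1S, if_neg h4S, e2, e3] at hs
  refine ⟨h1S, h4S, ?_⟩
  by_cases b2 : 2 ∈ S <;> by_cases b3 : 3 ∈ S <;> simp only [b2, b3, if_true, if_false] at hs
  · exact ⟨b2, b3⟩
  · exact absurd (by linear_combination hs) k3
  · exact absurd (by linear_combination -hs) k2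
  · exact absurd (by linear_combination hs) k1

theorem pat6 (he : ord q p = 6) (hV : V q p S d1 d2 d3 d4) : 2 ∉ S ∧ 3 ∉ S ∧ 1 ∈ S ∧ 4 ∈ S := by
  have h5 := ge_of he (by norm_num)
  have hp2 : p ≠ 2 := by omega
  have hr := root6 he
  have hz2 : (q : ZMod p) ^ 2 = (q : ZMod p) - 1 := by linear_combination hr
  have hz3 : (q : ZMod p) ^ 3 = -1 := by linear_combination ((q : ZMod p) + 1) * hr
  have hz4 : (q : ZMod p) ^ 4 = -(q : ZMod p) := by linear_combination (q : ZMod p) * hz3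
  have k1 : ((1 : ℕ) : ZMod p) ≠ 0 := lt_ne (by norm_num) (by omega)
  have k2 : ((2 : ℕ) : ZMod p) ≠ 0 := lt_ne (by norm_num) (by omega)
  push_cast at k1 k2
  have e1 : d1 = 1 := half hp2 (by
    rw [hV.v1]
    linear_combination (-2 - (q : ZMod p) + (q : ZMod p) ^ 2 + 2 * (q : ZMod p) ^ 3 + (q : ZMod p) ^ 4 -
      (q : ZMod p) ^ 6 + (q : ZMod p) ^ 8 + (q : ZMod p) ^ 9) * hr)
  have e4 : d4 = -2 := by
    rw [hV.v4]
    linear_combination (2 + 2 * (q : ZMod p) - (q : ZMod p) ^ 3 - (q : ZMod p) ^ 4 + (q : ZMod p) ^ 5 +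
      2 * (q : ZMod p) ^ 6 + 2 * (q : ZMod p) ^ 7 + (q : ZMod p) ^ 11 + (q : ZMod p) ^ 12 + (q : ZMod p) ^ 13) * hr
  have h2S : 2 ∉ S := by
    intro h
    have h12 : (q : ZMod p) ^ 4 - (q : ZMod p) ^ 2 + 1 ≠ 0 := by
      intro h12
      rw [hz4, hz2] at h12
      have h13 : (2 : ZMod p) * ((q : ZMod p) - 1) = 0 := by linear_combination -h12
      exact (mul_ne_zero k2 (f1 he (by decide))) h13
    exact (mul_ne_zero (f1 he (by decide)) (mul_ne_zero (mul_ne_zero (mul_ne_zero (pow_ne_zero 7 (f0 he (by norm_num)))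
      (f3 he (by decide))) (f4 he (by decide))) h12)) (hV.c2 h)
  have h3S : 3 ∉ S := fun h =>
    (mul_ne_zero (f1 he (by decide)) (mul_ne_zero (mul_ne_zero (mul_ne_zero (pow_ne_zero 8 (f0 he (by norm_num)))
      (f2 he (by decide))) (f4 he (by decide))) (f8 he (by decide)))) (hV.c3 h)
  have hs := hV.s (by rw [hr]; ring)
  rw [if_neg h2S, if_neg h3S, e1, e4] at hs
  refine ⟨h2S, h3S, ?_⟩
  by_cases b1 : 1 ∈ S <;> by_cases b4 : 4 ∈ S <;> simp only [b1, b4, if_true, if_false] at hs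
  · exact ⟨b1, b4⟩
  · exact absurd (by linear_combination hs) k2
  · exact absurd (by linear_combination -hs) k1
  · exact absurd (by linear_combination hs) k1

theorem pat8 (he : ord q p = 8) (hV : V q p S d1 d2 d3 d4) : 1 ∉ S ∧ 2 ∉ S ∧ 3 ∈ S := by
  have h5 := ge_of he (by norm_num)
  have hp2 : p ≠ 2 := by omega
  have hr := root8 he
  have hz4 : (q : ZMod p) ^ 4 = -1 := by linear_combination hr
  have k1 : ((1 : ℕ) : ZMod p) ≠ 0 := lt_ne (by norm_num) (by omega)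
  push_cast at k1
  have e3 : d3 = -1 := by
    rw [hV.v3]
    linear_combination (1 + (q : ZMod p) ^ 2 + (q : ZMod p) ^ 6 + (q : ZMod p) ^ 8 + (q : ZMod p) ^ 10) * hr
  have e4 : d4 = 0 := by
    rw [hV.v4]
    linear_combination (q : ZMod p) ^ 3 * ((q : ZMod p) ^ 2 + 1) ^ 2 * ((q : ZMod p) ^ 4 - (q : ZMod p) ^ 2 + 1) * hr
  have h1S : 1 ∉ S := fun h =>
    (mul_ne_zero (f1 he (by decide)) (mul_ne_zero (mul_ne_zero (mul_ne_zero (pow_ne_zero 7 (f0 he (by norm_num)))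
      (pow_ne_zero 2 (f2 he (by decide)))) (f3 he (by decide))) (pow_ne_zero 2 (f6 he (by decide))))) (hV.c1 h)
  have h2S : 2 ∉ S := fun h =>
    (mul_ne_zero (f1 he (by decide)) (mul_ne_zero (mul_ne_zero (mul_ne_zero (pow_ne_zero 7 (f0 he (by norm_num)))
      (f3 he (by decide))) (f4 he (by decide))) (f12 he (by decide)))) (hV.c2 h)
  have hs := hV.s (by rw [hr]; ring)
  rw [if_neg h1S, if_neg h2S, e3, e4] at hs
  refine ⟨h1S, h2S, ?_⟩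
  by_contra b3
  simp only [b3, if_false, ite_self, add_zero] at hs
  exact k1 hs

theorem pat12 (he : ord q p = 12) (hV : V q p S d1 d2 d3 d4) : 1 ∉ S ∧ 3 ∉ S ∧ 4 ∉ S ∧ 2 ∈ S := by
  have h5 := ge_of he (by norm_num)
  have hr := root12 he
  have k1 : ((1 : ℕ) : ZMod p) ≠ 0 := lt_ne (by norm_num) (by omega)
  push_cast at k1
  have h1S : 1 ∉ S := fun h =>
    (mul_ne_zero (f1 he (by decide)) (mul_ne_zero (mul_ne_zero (mul_ne_zero (pow_ne_zero 7 (f0 he (by norm_num)))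
      (pow_ne_zero 2 (f2 he (by decide)))) (f3 he (by decide))) (pow_ne_zero 2 (f6 he (by decide))))) (hV.c1 h)
  have h3S : 3 ∉ S := fun h =>
    (mul_ne_zero (f1 he (by decide)) (mul_ne_zero (mul_ne_zero (mul_ne_zero (pow_ne_zero 8 (f0 he (by norm_num)))
      (f2 he (by decide))) (f4 he (by decide))) (f8 he (by decide)))) (hV.c3 h)
  have h4S : 4 ∉ S := fun h =>
    (mul_ne_zero (f1 he (by decide)) (mul_ne_zero (mul_ne_zero (mul_ne_zero (mul_ne_zero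
      (pow_ne_zero 6 (f0 he (by norm_num))) (f2 he (by decide))) (f3 he (by decide))) (f6 he (by decide)))
        (f8 he (by decide)))) (hV.c4 h)
  have hs := hV.s (by rw [hr]; ring)
  rw [if_neg h1S, if_neg h3S, if_neg h4S] at hs
  refine ⟨h1S, h3S, h4S, ?_⟩
  by_contra b2
  simp only [b2, if_false, add_zero] at hs
  exact k1 hs

end pat

section small

variable {q : ℕ} {S : Finset (Fin 5)}

theorem nine_val : ∀ z : ZMod 9, z = 2 ∨ z = 5 ∨ z = 8 →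
    5 * (z * (z ^ 2 + 1) * (z ^ 4 + 1) * (z ^ 4 - z ^ 2 + 1)) = 7 ∧
    z ^ 2 * (z ^ 2 + z + 1) ^ 2 * (z ^ 2 - z + 1) ^ 2 * (z ^ 4 - z ^ 2 + 1) = 0 ∧
    z ^ 3 * (z ^ 2 + 1) ^ 2 * (z ^ 4 + 1) * (z ^ 4 - z ^ 2 + 1) = 1 := by
  decide +kernel

/-- the prime `3`, `e = 2` -/
theorem patThree (hq : 2 ≤ q) (he : ord q 3 = 2) (h0 : (0 : Fin 5) ∈ S) (hT : Tst pol q 3 S) :
    2 ∉ S ∧ 1 ∈ S ∧ 4 ∈ S := by
  have hF : Fact (Nat.Prime 3) := ⟨Nat.prime_three⟩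
  have hV := exists_V hq h0 hT
  have hz : (q : ZMod 3) = -1 := by linear_combination root2 he
  have h2S : 2 ∉ S := by
    intro h
    have h1 := hV.c2 h
    rw [hz] at h1
    have h3 : ((4 : ℕ) : ZMod 3) = 0 := by push_cast; linear_combination h1
    have h4 := (ZMod.natCast_eq_zero_iff _ _).1 h3
    omega
  have hmod : q % 3 = 2 := by
    have h1 : ((q + 1 : ℕ) : ZMod 3) = 0 := by push_cast; rw [hz]; ring
    have h2 := (ZMod.natCast_eq_zero_iff _ _).1 h1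
    omega
  have hz9 : (q : ZMod 9) = 2 ∨ (q : ZMod 9) = 5 ∨ (q : ZMod 9) = 8 := by
    have h1 : ((q % 9 : ℕ) : ZMod 9) = (q : ZMod 9) := ZMod.natCast_mod q 9
    have h2 : q % 9 = 2 ∨ q % 9 = 5 ∨ q % 9 = 8 := by omega
    rcases h2 with h2 | h2 | h2 <;> rw [← h1, h2]
    · left; rfl
    · right; left; rfl
    · right; right; rfl
  obtain ⟨k, hk⟩ : ∃ k : ℤ, (q : ℤ) = 3 * k + 2 := ⟨(q : ℤ) / 3, by omega⟩
  have hN : ((3 : ℕ) : ℤ) ^ 2 ∣ evZ (q : ℤ) pol.N := by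
    rw [evN]
    have h1 : (q : ℤ) + 1 = 3 * (k + 1) := by rw [hk]; ring
    have h2 : (q : ℤ) ^ 2 - q + 1 = 3 * (3 * k ^ 2 + 3 * k + 1) := by rw [hk]; ring
    rw [h1, h2]
    exact ⟨(k + 1) * ((q : ℤ) ^ 2 + q + 1) * ((q : ℤ) ^ 2 + 1) * (3 * k ^ 2 + 3 * k + 1) * ((q : ℤ) ^ 4 + 1) *
      ((q : ℤ) ^ 4 - (q : ℤ) ^ 2 + 1), by push_cast; ring⟩
  have hs := hT.tr 2 hN
  have h9 : (((3 : ℕ) : ℤ) ^ 2) = ((9 : ℕ) : ℤ) := by norm_num
  rw [h9, ← ZMod.intCast_zmod_eq_zero_iff_dvd, sum_eq h0, deg0 hq, if_neg h2S] at hs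
  obtain ⟨v1, v3, v4⟩ := nine_val _ hz9
  have e1 : ((pol.deg q 1 : ℤ) : ZMod 9) = 7 := by
    rw [← v1]
    have h := congrArg (Int.cast : ℤ → ZMod 9) (deg1 hq)
    push_cast at h ⊢
    rw [← h]
    have h10 : (10 : ZMod 9) = 1 := rfl
    linear_combination -(pol.deg q 1 : ZMod 9) * h10
  have e3 : ((pol.deg q 3 : ℤ) : ZMod 9) = 0 := by
    rw [← v3]
    have h := congrArg (Int.cast : ℤ → ZMod 9) (deg3 hq)
    push_cast at h ⊢
    exact h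
  have e4 : ((pol.deg q 4 : ℤ) : ZMod 9) = 1 := by
    rw [← v4]
    have h := congrArg (Int.cast : ℤ → ZMod 9) (deg4 hq)
    push_cast at h ⊢
    exact h
  push_cast [apply_ite (Int.cast : ℤ → ZMod 9)] at hs e1 e3 e4
  rw [e1, e3, e4] at hs
  refine ⟨h2S, ?_⟩
  by_cases b1 : 1 ∈ S <;> by_cases b4 : 4 ∈ S <;> simp only [b1, b4, if_true, if_false, ite_self] at hs
  · exact ⟨b1, b4⟩
  · exact absurd hs (by decide)
  · exact absurd hs (by decide)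
  · exact absurd hs (by decide)

/-- the prime `5`, `e = 2`: the coset test -/
theorem five (hq : 2 ≤ q) (he : ord q 5 = 2) (h0 : (0 : Fin 5) ∈ S) (hT : Tst pol q 5 S) (b1 : 1 ∉ S) (b2 : 2 ∉ S)
    (b3 : 3 ∈ S) (b4 : 4 ∉ S) : False := by
  have hF : Fact (Nat.Prime 5) := ⟨Nat.prime_five⟩
  obtain ⟨u, v, hv, huv⟩ := hT.co 1
  have hS : S = {0, 3} := by
    ext i
    fin_cases i
    · simp [h0]
    · simpa only [_root_.Fin.mk_one, _root_.Fin.isValue, _root_.Finset.mem_insert, _root_.one_ne_zero, _root_.Finset.mem_singleton, _root_.Fin.reduceEq, _root_.or_self, _root_.iff_false] using b1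
    · simpa using b2
    · simpa using b3
    · simpa using b4
  have hx : (2 : ℚ) ≤ (q : ℚ) := by exact_mod_cast hq
  have hsum : ∑ i ∈ S, (pol.deg q i : ℚ) * pol.sph q i 1 =
      (pol.deg q 0 : ℚ) * pol.sph q 0 1 + (pol.deg q 3 : ℚ) * pol.sph q 3 1 := by
    rw [hS, Finset.sum_insert (by decide), Finset.sum_singleton]
  have hs0 : pol.sph q 0 1 = 1 := by
    show ev (q : ℚ) [1] / ev (q : ℚ) [1] = 1
    simp
  have hd0 : (pol.deg q 0 : ℚ) = 1 := by exact_mod_cast deg0 hq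
  have hd3 : (pol.deg q 3 : ℚ) = (q : ℚ) ^ 2 * ((q : ℚ) ^ 2 + (q : ℚ) + 1) ^ 2 *
      ((q : ℚ) ^ 2 - (q : ℚ) + 1) ^ 2 * ((q : ℚ) ^ 4 - (q : ℚ) ^ 2 + 1) := by
    have h := congrArg (Int.cast : ℤ → ℚ) (deg3 hq)
    push_cast at h
    exact h
  set x : ℚ := (q : ℚ) with hxd
  have hA : ev x (pol.nu 3 1) = x ^ 7 * (x - 1) * (x ^ 2 + x + 1) := by
    show ev x [0, 0, 0, 0, 0, 0, 0, -1, 0, 0, 1] = _
    simp only [ev_cons, ev_nil]
    push_cast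
    ring
  have hB : ev x (pol.nu 3 pol.o) = x ^ 8 * (x + 1) * (x ^ 2 + x + 1) * (x ^ 2 - x + 1) := by
    show ev x [0, 0, 0, 0, 0, 0, 0, 0, 1, 1, 1, 1, 1, 1] = _
    simp only [ev_cons, ev_nil]
    push_cast
    ring
  have hB0 : x ^ 8 * (x + 1) * (x ^ 2 + x + 1) * (x ^ 2 - x + 1) ≠ 0 := by
    have h1 : 0 < x := by linarith only [hx]
    have h2 : 0 < x ^ 2 - x + 1 := by nlinarith only []
    (clear * - hq h2; positivity)
  have hs3 : (pol.deg q 3 : ℚ) * pol.sph q 3 1 * (x + 1) =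
      x * (x - 1) * (x ^ 2 + x + 1) ^ 2 * (x ^ 2 - x + 1) * (x ^ 4 - x ^ 2 + 1) := by
    have h1 : pol.sph q 3 1 = ev x (pol.nu 3 1) / ev x (pol.nu 3 pol.o) := rfl
    rw [h1, hd3, hA, hB, mul_div_assoc', div_mul_eq_mul_div, div_eq_iff hB0]
    ring
  have hN : ev x pol.N = (x + 1) * (x ^ 2 + x + 1) * (x ^ 2 + 1) * (x ^ 2 - x + 1) * (x ^ 4 + 1) *
      (x ^ 4 - x ^ 2 + 1) := by
    have h := congrArg (Int.cast : ℤ → ℚ) (evN (q : ℤ))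
    rw [evZ_cast] at h
    push_cast at h
    exact h
  rw [hsum, hs0, hd0, one_mul, hN] at huv
  have key : (v : ℚ) * ((x + 1) + x * (x - 1) * (x ^ 2 + x + 1) ^ 2 * (x ^ 2 - x + 1) * (x ^ 4 - x ^ 2 + 1)) =
      u * ((x + 1) * (x ^ 2 + x + 1) * (x ^ 2 + 1) * (x ^ 2 - x + 1) * (x ^ 4 + 1) * (x ^ 4 - x ^ 2 + 1)) * (x + 1) := by
    rw [← hs3, ← huv]
    ring
  have keyZ : (v : ℤ) * (((q : ℤ) + 1) + (q : ℤ) * ((q : ℤ) - 1) * ((q : ℤ) ^ 2 + (q : ℤ) + 1) ^ 2 *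
      ((q : ℤ) ^ 2 - (q : ℤ) + 1) * ((q : ℤ) ^ 4 - (q : ℤ) ^ 2 + 1)) =
      u * (((q : ℤ) + 1) * ((q : ℤ) ^ 2 + (q : ℤ) + 1) * ((q : ℤ) ^ 2 + 1) * ((q : ℤ) ^ 2 - (q : ℤ) + 1) *
        ((q : ℤ) ^ 4 + 1) * ((q : ℤ) ^ 4 - (q : ℤ) ^ 2 + 1)) * ((q : ℤ) + 1) := by
    have h : ((v * (((q : ℤ) + 1) + (q : ℤ) * ((q : ℤ) - 1) * ((q : ℤ) ^ 2 + (q : ℤ) + 1) ^ 2 *
      ((q : ℤ) ^ 2 - (q : ℤ) + 1) * ((q : ℤ) ^ 4 - (q : ℤ) ^ 2 + 1)) : ℤ) : ℚ) =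
      ((u * (((q : ℤ) + 1) * ((q : ℤ) ^ 2 + (q : ℤ) + 1) * ((q : ℤ) ^ 2 + 1) * ((q : ℤ) ^ 2 - (q : ℤ) + 1) *
        ((q : ℤ) ^ 4 + 1) * ((q : ℤ) ^ 4 - (q : ℤ) ^ 2 + 1)) * ((q : ℤ) + 1) : ℤ) : ℚ) := by
      push_cast
      exact key
    exact_mod_cast h
  have h5 := congrArg (Int.cast : ℤ → ZMod 5) keyZ
  push_cast at h5
  have hz : (q : ZMod 5) = -1 := by linear_combination root2 he
  rw [hz] at h5
  apply hv
  rw [← ZMod.intCast_zmod_eq_zero_iff_dvd]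
  have h6 : (5 : ZMod 5) = 0 := rfl
  linear_combination h5 - (v : ZMod 5) * h6

end small

/-- the sets -/
def Pat (e p : ℕ) (S : Finset (Fin 5)) : Prop :=
  (e = 2 ∧ 2 ∉ S ∧ ((1 ∈ S ∧ 4 ∈ S ∧ (p = 3 ∨ 3 ∈ S)) ∨ (1 ∉ S ∧ 3 ∉ S ∧ 4 ∈ S))) ∨
  (e = 3 ∧ 3 ∉ S ∧ 1 ∈ S ∧ (2 ∈ S ↔ 4 ∈ S)) ∨
  (e = 4 ∧ 1 ∉ S ∧ 4 ∉ S ∧ 2 ∈ S ∧ 3 ∈ S) ∨
  (e = 6 ∧ 2 ∉ S ∧ 3 ∉ S ∧ 1 ∈ S ∧ 4 ∈ S) ∨
  (e = 8 ∧ 1 ∉ S ∧ 2 ∉ S ∧ 3 ∈ S) ∨
  (e = 12 ∧ 1 ∉ S ∧ 3 ∉ S ∧ 4 ∉ S ∧ 2 ∈ S)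

theorem pat_of {q p e : ℕ} {S : Finset (Fin 5)} (hq : 2 ≤ q) (hp : p.Prime) (hp2 : p ≠ 2) (he : ord q p = e)
    (hmem : e ∈ [2, 3, 4, 6, 8, 12]) (h0 : (0 : Fin 5) ∈ S) (hT : Tst pol q p S) : Pat e p S := by
  have hF : Fact p.Prime := ⟨hp⟩
  have hV := exists_V hq h0 hT
  simp only [List.mem_cons, List.not_mem_nil, or_false] at hmem
  rcases hmem with rfl | rfl | rfl | rfl | rfl | rfl
  · left
    by_cases h3 : p = 3
    · subst h3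
      obtain ⟨h1, h2, h4⟩ := patThree hq he h0 hT
      exact ⟨rfl, h1, Or.inl ⟨h2, h4, Or.inl rfl⟩⟩
    · obtain ⟨h1, h | h | h⟩ := pat2 hp2 h3 he hV
      · exact ⟨rfl, h1, Or.inl ⟨h.1, h.2.2, Or.inr h.2.1⟩⟩
      · obtain ⟨rfl, b1, b3, b4⟩ := h
        exact (five hq he h0 hT b1 h1 b3 b4).elim
      · exact ⟨rfl, h1, Or.inr h.2⟩
  · exact Or.inr (Or.inl ⟨rfl, pat3 he hV⟩)
  · exact Or.inr (Or.inr (Or.inl ⟨rfl, pat4 he hV⟩))
  · exact Or.inr (Or.inr (Or.inr (Or.inl ⟨rfl, pat6 he hV⟩)))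
  · exact Or.inr (Or.inr (Or.inr (Or.inr (Or.inl ⟨rfl, pat8 he hV⟩))))
  · exact Or.inr (Or.inr (Or.inr (Or.inr (Or.inr ⟨rfl, pat12 he hV⟩))))

theorem pat_clash {e f p l : ℕ} {S : Finset (Fin 5)} (h : Pat e p S) (h' : Pat f l S) (hef : e < f) :
    e = 2 ∧ f = 6 ∧ p = 3 := by
  unfold Pat at h h'
  by_cases b1 : (1 : Fin 5) ∈ S <;> by_cases b2 : (2 : Fin 5) ∈ S <;> by_cases b3 : (3 : Fin 5) ∈ S <;>
    by_cases b4 : (4 : Fin 5) ∈ S <;> simp only [b1, b2, b3, b4, not_true_eq_false, not_false_eq_true, and_true,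
      and_false, true_and, false_and, or_false, false_or, or_true, iff_true, iff_false, iff_self] at h h' <;> omega

variable (K : Type u) [Field K] [Fintype K]

/-- **`F₄(q)`, pairs of odd primes of different orders** -/
theorem diff_F4 : ∀ e ∈ [2, 3, 4, 6, 8, 12], ∀ f ∈ [2, 3, 4, 6, 8, 12], e < f →
    Kill ↥(chevF4.group K) (Fintype.card K) e f := by
  intro e he f hf hef p l hp hl hp2 hl2 hpl hpG hlG hep hfl hS
  obtain ⟨S, h0, hTp, hTl⟩ := FullF4d.sep hp hl hS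
  have hq : 2 ≤ Fintype.card K := Fintype.one_lt_card
  obtain ⟨h1, h2, h3⟩ := pat_clash (pat_of hq hp hp2 hep he h0 hTp) (pat_of hq hl hl2 hfl hf h0 hTl) hef
  subst h1 h2 h3
  exact H755.PQ.not_same_three_F4 K hl hep hfl hS

end Cfsg.Agent.H604.PQ
end

-- part: H632/PQ/KillE8m
section
prune_inst 0x21507450036200000001058411003c3686000000002b80008800014404802120c002076108003111420a004400340020021000c0404000000e840000011c0180000090041040009140000000100801000010080000000000000080000000000401c010000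
set_option linter.all false
open scoped Cfsg.Agent.FastGrp
private noncomputable def lq26b4cda9c8 {T : Sort _} (f :
    type_of% (@_root_.List.cons.{0}) →
    type_of% (@_root_.List.nil.{0}) →
    ((List (List Int)) → (List (List Int))) → T) : T :=
  f (@_root_.List.cons.{0}) (@_root_.List.nil.{0}) (fun x => x)

-- part: H632/PQ/CardE8
section
/-!
# The order of `E₈(q)` as a product of values of cyclotomic polynomials (helper632, for S4612)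
-/

set_option autoImplicit false
set_option maxRecDepth 20000

namespace Cfsg.Agent.H632.PQ

open Cfsg Cfsg.Lie Cfsg.Agent.H317.PQ Cfsg.Agent.H632.PQ.Arith Cfsg.Agent.H996.PQ Cfsg.Agent.H996.Eight.Cert
  Cfsg.Agent.H64.Dl.Sph Cfsg.Agent.H35.ExcIdx
open Cfsg.Agent.ChevalleyStructure Cfsg.Agent.ChevalleyStructure.CoxeterGeomTypes Cfsg.Agent.Nodes.RGDChev
open CoxeterSystem Cfsg.Agent.ChevalleyStructure.CoxeterGeom Cfsg.Agent.Tits.Roots Cfsg.Agent.Tits.Core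

universe u

namespace E8n

end E8n

end Cfsg.Agent.H632.PQ
end

-- part: H632/PQ/CrtE8m
section
/-!
# Constituents on `E₈/P₆` (for S4612; made by a program)

For every certificate `cN` of the table `TabE8c`: `okN` (`ok1`), `dvdN`, `xcN`, `uqN` (one-dimensional eigenspace, by helper906's
x-adic certificate), `lamN` (the eigenvalues of the double cosets), `lam_okN`.
-/

set_option autoImplicit false
set_option maxRecDepth 20000

namespace Cfsg.Agent.H632.PQ.CrtE8m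

open Cfsg.Agent.H967.Sph Cfsg.Agent.H64.Dl.Sph Cfsg.Agent.H996.Eight.Cert Cfsg.Agent.H996.PQ Cfsg.Agent.H906.PQ

/-- degree `1*q^1*P4^2*P8*P12*P20*P24 / 1` (`Pn` the cyclotomic polynomials) -/
def c8 : Crt 26 where
  th := (beta% delta% lq26b4cda9c8 fun a b _ =>
 (a (-1)<|a 0<|a 1<|a 1<|a 1<|a 3<|a 4<|a 4<|a 4<|a 6<|a 5<|a 4<|a 4<|a 4<|a 2<|a 1<|a 1<|a 1<|b))
  nu c := (beta% delta% lq26b4cda9c8 fun a b d =>
 ((a (a 0<|a 0<|a 0<|a 0<|a 0<|a 0<|a 0<|a 0<|a 0<|a 0<|a 0<|a 0<|a 0<|a 0<|a 0<|a 1<|a 2<|a 1<|a (-1)<|a (-1)<|a 1<|a 2<|a 1<|b)<|a (a 0<|a 0<|a 0<|a 0<|a 0<|a 0<|a 0<|a 0<|a 0<|a 0<|a 0<|a 0<|a 0<|a 0<|a (-1)<|a 0<|a 2<|a 2<|a 0<|a 0<|a 1<|a 1<|b)<|a (a 0<|a 0<|a 0<|a 0<|a 0<|a 0<|a 0<|a 0<|a 0<|a 0<|a 0<|a 0<|a 0<|a (-1)<|a (-2)<|a 0<|a 3<|a 3<|a 1<|b)<|a (a 0<|a 0<|a 0<|a 0<|a 0<|a 0<|a 0<|a 0<|a 0<|a 0<|a (-1)<|a (-1)<|a 0<|a 1<|a 0<|a 1<|a 2<|a 1<|a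 (-1)<|a 0<|a 1<|a 1<|b)<|a (a 0<|a 0<|a 0<|a 0<|a 0<|a 0<|a 0<|a 0<|a 0<|a 0<|a (-1)<|a (-1)<|a 0<|a 0<|a (-1)<|a 1<|a 3<|a 2<|b)<|a (a 0<|a 0<|a 0<|a 0<|a 0<|a 0<|a 0<|a 0<|a 0<|a (-1)<|a (-2)<|a (-1)<|a 1<|a 1<|a 0<|a 1<|a 2<|a 1<|b)<|a (a 0<|a 0<|a 0<|a 0<|a 0<|a 0<|a 0<|a 0<|a 0<|a (-1)<|a (-2)<|a (-1)<|a 1<|a 1<|a 0<|a 1<|a 2<|a 1<|b)<|a (a 0<|a 0<|a 0<|a 0<|a 0<|a 0<|a 0<|a 0<|a 0<|a (-1)<|a (-2)<|a (-1)<|a 1<|a 1<|a 0<|a 1<|a 2<|a 1<|b)<|a (a 0<|a 0<|a 0<|a 0<|a 0<|a 0<|a 0<|a 0<|a 0<|a (-2)<|a (-3)<|a (-1)<|a 2<|a 2<|a 1<|a 1<|a 1<|b)<|a (a 0<|a 0<|a 0<|a 0<|a 0<|a 0<|a (-1)<|a (-1)<|a 0<|a 1<|a 0<|a 0<|a 0<|a 0<|a (-1)<|a 1<|a 2<|a 1<|a (-1)<|a 0<|a 1<|a 1<|b)<|a (a 0<|a 0<|a 0<|a 0<|a 0<|a 0<|a 0<|a 0<|a (-1)<|a (-3)<|a (-3)<|a 0<|a 3<|a 3<|a 1<|b)<|a (a 0<|a 0<|a 0<|a 0<|a 0<|a 0<|a (-1)<|a (-1)<|a 0<|a 0<|a (-1)<|a 0<|a 1<|a 0<|a (-1)<|a 1<|a 2<|a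 1<|b)<|a (a 0<|a 0<|a 0<|a 0<|a 0<|a 0<|a (-1)<|a (-1)<|a 0<|a 0<|a (-1)<|a 0<|a 1<|a 0<|a (-1)<|a 1<|a 2<|a 1<|b)<|a (a 0<|a 0<|a 0<|a 0<|a 0<|a 0<|a (-1)<|a (-1)<|a 0<|a (-1)<|a (-2)<|a 0<|a 2<|a 1<|a 0<|a 1<|a 1<|b)<|a (a 0<|a 0<|a 0<|a 0<|a 0<|a 0<|a (-1)<|a (-1)<|a (-1)<|a (-2)<|a (-2)<|a 1<|a 3<|a 2<|b)<|a (a 0<|a 0<|a 0<|a 0<|a 0<|a (-1)<|a (-2)<|a (-1)<|a 1<|a 0<|a (-1)<|a 0<|a 1<|a 0<|a 0<|a 1<|a 1<|b)<|a (a 0<|a 0<|a 0<|a 0<|a 0<|a (-1)<|a (-2)<|a (-1)<|a 1<|a 0<|a (-1)<|a 0<|a 1<|a 0<|a 0<|a 1<|a 1<|b)<|a (a 0<|a 0<|a 0<|a 0<|a 0<|a (-1)<|a (-2)<|a (-1)<|a 0<|a (-1)<|a (-1)<|a 1<|a 2<|a 1<|b)<|a (a 0<|a 0<|a 0<|a 0<|a 0<|a (-1)<|a (-2)<|a (-1)<|a 0<|a (-1)<|a (-1)<|a 1<|a 2<|a 1<|b)<|a (a 0<|a 0<|a 0<|a 0<|a 0<|a (-1)<|a (-2)<|a (-1)<|a 0<|a (-1)<|a (-1)<|a 1<|a 2<|a 1<|b)<|a (a 0<|a 0<|a 0<|a 0<|a 0<|a (-2)<|a (-3)<|a (-1)<|a 1<|a 0<|a 0<|a 1<|a 1<|b)<|a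 (a 0<|a 0<|a 0<|a 0<|a (-1)<|a (-3)<|a (-3)<|a 0<|a 2<|a 1<|b)<|a (a 0<|a (-1)<|a (-1)<|a 0<|a 1<|a (-1)<|a (-2)<|a (-1)<|a 1<|a 0<|a 0<|a 0<|a 0<|a (-1)<|a 0<|a 1<|a 1<|b)<|a (a 0<|a (-1)<|a (-1)<|a 0<|a 1<|a (-1)<|a (-2)<|a (-1)<|a 0<|a (-1)<|a 0<|a 1<|a 1<|b)<|a (a 0<|a (-1)<|a (-1)<|a 0<|a 0<|a (-2)<|a (-2)<|a 0<|a 1<|b)<|a (a (-1)<|a (-2)<|a (-1)<|a 1<|a 1<|a (-1)<|a (-2)<|a (-1)<|b)<|b) :type_of% (d _)).getD c b)
  steps := []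
  dn := (beta% delta% lq26b4cda9c8 fun a b _ =>
 (a 0<|a 1<|a 0<|a 0<|a 0<|a 0<|a 0<|a 1<|a 0<|a 0<|a 0<|a 1<|a 0<|a 1<|a 0<|a 0<|a 0<|a 1<|a 0<|a 1<|a 0<|a 0<|a 0<|a 1<|a 0<|a 0<|a 0<|a 0<|a 0<|a 1<|b))
  den := 1

theorem ok8 : ok1 c8 0 TabE8c.bb TabE8c.kk := by
  delta H996.PQ.ok1
  simp only [H996.Eight.Kq.pEq_eq, H996.Eight.Kq.pZero_eq, H996.Eight.Kq.pPos_eq]
  decide +kernel

theorem dvd8 : pDvd c8.den c8.dn := by decide +kernel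

/-- x-adic certificate -/
def xc8 : XC where
  X := 0x40000
  L := 16
  b := 10
  bm := 54
  rk := (beta% delta% lq26b4cda9c8 fun a b _ =>
 (a 0<|a 1<|a 9<|a 4<|a 13<|a 17<|a 6<|a 2<|a 7<|a 15<|a 18<|a 8<|a 3<|a 12<|a 16<|a 5<|a 20<|a 19<|a 10<|a 21<|a 11<|a 22<|a 14<|a 23<|a 0<|a 24<|b))
  sh := (beta% delta% lq26b4cda9c8 fun a b _ =>
 (a 0<|a 0<|a 0<|a 0<|a 0<|a 1<|a 0<|a 0<|a 0<|a 1<|a 1<|a 0<|a 0<|a 0<|a 1<|a 0<|a 2<|a 2<|a 0<|a 3<|a 0<|a 7<|a 1<|a 9<|a 0<|a 15<|b))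
  w := (beta% delta% lq26b4cda9c8 fun a b _ =>
 (a b<|a (a 0<|a 0<|a 2<|b)<|a (a 0<|a 0<|a 0<|a 0<|a 0<|a 0<|a 2<|b)<|a (a 0<|a 0<|a 0<|a 0<|a 0<|a 0<|a 0<|a 0<|a 0<|a 2<|b)<|a (a 0<|a 0<|a 0<|a 0<|a 0<|a 0<|a 0<|a 0<|a 0<|a 0<|a 0<|a 0<|a 2<|b)<|a (a 0<|a 0<|a 0<|a 0<|a 0<|a 0<|a 0<|a 0<|a 0<|a 0<|a 0<|a 0<|a 2049<|a 2<|a 0<|a 0<|a 0<|a 0<|a 0<|a 1024<|a 2048<|b)<|a (a 0<|a 0<|a 0<|a 0<|a 0<|a 0<|a 0<|a 0<|a 0<|a 0<|a 2<|b)<|a (a 0<|a 0<|a 0<|a 0<|a 0<|a 0<|a 0<|a 0<|a 0<|a 0<|a 0<|a 0<|a 0<|a 0<|a 0<|a 0<|a 2<|b)<|a (a 0<|a 0<|a 0<|a 0<|a 0<|a 0<|a 0<|a 0<|a 0<|a 0<|a 0<|a 0<|a 0<|a 0<|a 0<|a 0<|a 0<|a 0<|a 2<|b)<|a (a 0<|a 0<|a 0<|a 0<|a 0<|a 0<|a 0<|a 0<|a 0<|a 2049<|a 0<|a 2<|a 0<|a 0<|a 0<|a 2048<|b)<|a (a 0<|a 0<|a 0<|a 0<|a 0<|a 0<|a 0<|a 0<|a 0<|a 0<|a 4097<|a 0<|a 0<|a 0<|a 2<|a 0<|a 0<|a 2049<|a 1024<|a 1024<|a 2050<|a 0<|a 0<|a 0<|a 2048<|b)<|a (a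 0<|a 0<|a 0<|a 0<|a 0<|a 0<|a 0<|a 0<|a 0<|a 0<|a 0<|a 0<|a 0<|a 0<|a 0<|a 2<|b)<|a (a 0<|a 0<|a 0<|a 0<|a 0<|a 0<|a 0<|a 0<|a 0<|a 0<|a 0<|a 0<|a 0<|a 0<|a 0<|a 0<|a 0<|a 0<|a 0<|a 2<|b)<|a (a 0<|a 0<|a 0<|a 0<|a 0<|a 0<|a 0<|a 0<|a 0<|a 0<|a 0<|a 0<|a 0<|a 0<|a 0<|a 0<|a 0<|a 0<|a 0<|a 0<|a 2<|b)<|a (a 0<|a 0<|a 0<|a 0<|a 0<|a 0<|a 0<|a 0<|a 0<|a 0<|a 0<|a 0<|a 0<|a 0<|a 0<|a 0<|a 0<|a 2<|a 0<|a 0<|a 3073<|a 0<|a 0<|a 0<|a 1024<|b)<|a (a 0<|a 0<|a 0<|a 0<|a 0<|a 0<|a 0<|a 0<|a 0<|a 0<|a 0<|a 0<|a 0<|a 0<|a 0<|a 0<|a 0<|a 0<|a 0<|a 0<|a 0<|a 0<|a 2<|b)<|a (a 0<|a 0<|a 0<|a 0<|a 0<|a 2<|a 0<|a 0<|a 0<|a 2049<|a 0<|a 1024<|a 1025<|a 2050<|a 0<|a 0<|a 0<|a 0<|a 0<|a 1049600<|a 4196352<|a 0<|a 0<|a 0<|a 2097152<|b)<|a (a 0<|a 0<|a 0<|a 0<|a 0<|a 0<|a 0<|a 0<|a 2<|a 0<|a 2097152<|a 0<|a 1<|a 0<|a 3146752<|a 0<|a 0<|a 2099200<|a 2099200<|a 0<|a 3146752<|a 2097152<|a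 0<|a 0<|a 1048576<|b)<|a (a 0<|a 0<|a 0<|a 0<|a 0<|a 0<|a 0<|a 0<|a 0<|a 0<|a 0<|a 0<|a 0<|a 0<|a 0<|a 0<|a 0<|a 0<|a 0<|a 0<|a 0<|a 2<|b)<|a (a 0<|a 0<|a 0<|a 0<|a 0<|a 0<|a 0<|a 2<|a 4297064448<|a 0<|a 1073741824<|a 0<|a 3222275073<|a 0<|a 0<|a 0<|a 2149582848<|a 0<|a 1048576<|a 1074790400<|a 4297064448<|a 1073741824<|a 0<|a 0<|a 2147483648<|b)<|a (a 0<|a 0<|a 0<|a 0<|a 0<|a 0<|a 0<|a 0<|a 0<|a 0<|a 0<|a 0<|a 0<|a 0<|a 0<|a 0<|a 0<|a 0<|a 0<|a 0<|a 0<|a 0<|a 0<|a 0<|a 2<|b)<|a (a 0<|a 0<|a 18904467431741551808513<|a 0<|a 2<|a 1182898594024578351104<|a 17725027605528256187392<|a 10626478642660529668096<|a 4723521661671623884800<|a 2361183243637071283200<|a 3542927783656840757248<|a 1152924805290262528<|a 11808222055689477949440<|a 1185204441432914395136<|a 9447041060548317806592<|a 1125899906842624<|a 3544085212059609858048<|a 1180591620717411303424<|a 5906417994000783900672<|a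 0<|a 7085857819113495199744<|a 1152921504606846976<|a 2362336162939429453824<|a 1180591620717411303424<|a 2363489084444036300800<|a 2361183241434822606848<|b)<|a (a 0<|a 0<|a 0<|a 0<|a 0<|a 0<|a 0<|a 0<|a 0<|a 0<|a 0<|a 0<|a 0<|a 0<|a 0<|a 0<|a 0<|a 0<|a 0<|a 0<|a 0<|a 0<|a 2049<|a 2<|b)<|a (a 0<|a 0<|a 941176717678705999456749223937<|a 2<|a 66208049260037350288694183936<|a 48361758612086549290942464<|a 887882451886906406498379760640<|a 284808471491870829478850592768<|a 6253773274090975757028294656<|a 400066279747117462699479400448<|a 4951761337733141817007800320<|a 117688947443939191494069452800<|a 106641791584588587881610608640<|a 118874900125445047440373710848<|a 7428850342123516995980754944<|a 23523283320427937351077986304<|a 37199859948665832632697749504<|a 4951760157141521099596496896<|a 6196953752497510654150705152<|a 0<|a 9904730420694277545779003392<|a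 0<|a 1242775742563838791597948928<|a 4951760157141521099596496896<|a 1239148965104994904073830400<|a 1237940039285380274899124224<|b)<|a (a 0<|a 0<|a 0<|a 0<|a 0<|a 0<|a 0<|a 0<|a 0<|a 0<|a 0<|a 0<|a 0<|a 0<|a 0<|a 0<|a 0<|a 0<|a 0<|a 0<|a 0<|a 0<|a 0<|a 0<|a 0<|a 2<|b)<|a (a 0<|a 2<|a 85703237974287214371909053463323315434738941952<|a 326913707313290151382909733869785180373457568768<|a 288471311340219796637208921956436702859568873472<|a 27124701008406125618287588290810052359378436096<|a 27124701008406125618287588290810052359378436096<|a 11423588035256892579757462685307214941330079744<|a 2864257407283375641779265141826180174395211776<|a 44253117480582473057432091293555798109971283968<|a 5713174884136727379364805404874768627739394048<|a 45697037653448510312489239480940984919673274368<|a 45697037653448510312489239480940984919673274368<|a 47120087626859927055658095700166369351793901568<|a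 17128368835293046091508232941494262794173808640<|a 18575129681379546948568686446894580823624777728<|a 18575129681379546948568686446894580823624777728<|a 5717354914062510257449539078363400152811569152<|a 5717354914062510257449539078363400152811569152<|a 0<|a 8566273750714803610027323654384858923765071872<|a 0<|a 12849418792189591084180785721973895210976935936<|a 2862859528650590495332967139464409880046075904<|a 2854496746541387445870425792397419999838339072<|a 2855889181986827926062917921291030795359617024<|b)<|b))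

private noncomputable def _root_.Cfsg.Agent.KOd6452f9.k11 : (by first | exact type_of% @Cfsg.Agent.H996.Eight.Kq.nw | exact Unit : Sort _) := by first | (refine @Subtype.val _ (fun g => @Cfsg.Agent.H996.Eight.Kq.nw = @g) (@Subtype.mk _ _ (@(fun x0 x1 => @List.rec.{1, 0} ℤ @(fun x2 => ℕ) (nat_lit 0) @(fun x2 x3 x4 => @Nat.add (@Int.rec.{1} @(fun x5 => ℕ) @(fun x5 => @x5) @(fun x5 => @Nat.succ @x5) @x2) (@Nat.mul @x0 @x4)) @x1)) ?_); rfl') | exact @Cfsg.Agent.H996.Eight.Kq.nw | exact ()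
private theorem _root_.Cfsg.Agent.KOd6452f9.e11 : (by first | exact @Cfsg.Agent.H996.Eight.Kq.nw = @_root_.Cfsg.Agent.KOd6452f9.k11 | exact True : Prop) := by first | (delta _root_.Cfsg.Agent.KOd6452f9.k11; exact @Subtype.property _ (fun g => @Cfsg.Agent.H996.Eight.Kq.nw = @g) _) | rfl | trivial
private noncomputable def _root_.Cfsg.Agent.KOd6452f9.k15 : type_of% @Int.add := @(fun x0 x1 => @Int.rec.{1} @(fun x2 => ℤ) @(fun x2 => @Int.rec.{1} @(fun x3 => ℤ) @(fun x3 => @Int.ofNat (@Nat.add @x2 @x3)) @(fun x3 => @Nat.rec.{1} @(fun x4 => ℤ) (@Int.ofNat (@Nat.sub @x2 (@Nat.succ @x3))) @(fun x4 x5 => @Int.negSucc @x4) (@Nat.sub (@Nat.succ @x3) @x2)) @x1) @(fun x2 => @Int.rec.{1} @(fun x3 => ℤ) @(fun x3 => @Nat.rec.{1} @(fun x4 => ℤ) (@Int.ofNat (@Nat.sub @x3 (@Nat.succ @x2))) @(fun x4 x5 => @Int.negSucc @x4) (@Nat.sub (@Nat.succ @x2) @x3)) @(fun x3 => @Int.negSucc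 (@Nat.succ (@Nat.add @x2 @x3))) @x1) @x0)
private theorem _root_.Cfsg.Agent.KOd6452f9.e15 : @Int.add = @_root_.Cfsg.Agent.KOd6452f9.k15 := by delta _root_.Cfsg.Agent.KOd6452f9.k15; rfl'
private theorem _root_.Cfsg.Agent.KOd6452f9.e18.{ku, kv} {α : Type kv} {M : List α → Sort ku} (φ : ∀ l, M l) {z : M List.nil} {s : ∀ a l, M l → M (List.cons a l)} (h0 : φ List.nil = z) (hs : ∀ a l, φ (List.cons a l) = s a l (φ l)) (l : List α) : φ l = @List.rec α M z s l := List.rec h0 (fun a l ih => (hs a l).trans (congrArg (s a l) ih)) l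
private noncomputable def _root_.Cfsg.Agent.KOd6452f9.k20 : (by first | exact type_of% @Cfsg.Agent.H64.Dl.Sph.pAdd | exact Unit : Sort _) := by first | (refine @Subtype.val _ (fun g => @Cfsg.Agent.H64.Dl.Sph.pAdd = @g) (@Subtype.mk _ _ (@(fun x0 x1 => @List.rec.{1, 0} ℤ @(fun x2 => (@List.{0} ℤ) → @List.{0} ℤ) @(fun x2 => @x2) @(fun x2 x3 x4 x5 => @List.rec.{1, 0} ℤ @(fun x6 => @List.{0} ℤ) (@x2 :: @x3) @(fun x6 x7 x8 => (@Cfsg.Agent.KOd6452f9.k15 @x2 @x6) :: (@x4 @x7)) @x5) @x0 @x1)) ?_); rewrite [← Cfsg.Agent.KOd6452f9.e15]; funext a0 a1; refine (congrFun (_root_.Cfsg.Agent.KOd6452f9.e18 (fun a0 a1 => @Cfsg.Agent.H64.Dl.Sph.pAdd a0 a1) ?_ (fun c0 c1 => ?_) a0) a1 :) <;> [(funext b0; (rfl')); (funext b0; (cases b0 with | @nil  => (rfl') | @cons b0_0 b0_1 => (rfl')))]) | exact @Cfsg.Agent.H64.Dl.Sph.pAdd | exact ()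
private theorem _root_.Cfsg.Agent.KOd6452f9.e20 : (by first | exact @Cfsg.Agent.H64.Dl.Sph.pAdd = @_root_.Cfsg.Agent.KOd6452f9.k20 | exact True : Prop) := by first | (delta _root_.Cfsg.Agent.KOd6452f9.k20; exact @Subtype.property _ (fun g => @Cfsg.Agent.H64.Dl.Sph.pAdd = @g) _) | rfl | trivial
private noncomputable def _root_.Cfsg.Agent.KOd6452f9.k21 : (by first | exact type_of% @Cfsg.Agent.H64.Dl.Sph.pNeg | exact Unit : Sort _) := by first | (refine @Subtype.val _ (fun g => @Cfsg.Agent.H64.Dl.Sph.pNeg = @g) (@Subtype.mk _ _ (@(fun x0 => @List.rec.{1, 0} ℤ @(fun x1 => @List.{0} ℤ) [] @(fun x1 x2 x3 => (@Int.rec.{1} @(fun x4 => ℤ) @(fun x4 => @Nat.rec.{1} @(fun x5 => ℤ) (@Int.ofNat (nat_lit 0)) @(fun x5 x6 => @Int.negSucc @x5) @x4) @(fun x4 => @Int.ofNat (@Nat.succ @x4)) @x1) :: @x3) @x0)) ?_); funext a0; refine (_root_.Cfsg.Agent.KOd6452f9.e18 (fun a0 => @Cfsg.Agent.H64.Dl.Sph.pNeg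 a0) ?_ (fun c0 c1 => ?_) a0 :) <;> (rfl')) | exact @Cfsg.Agent.H64.Dl.Sph.pNeg | exact ()
private theorem _root_.Cfsg.Agent.KOd6452f9.e21 : (by first | exact @Cfsg.Agent.H64.Dl.Sph.pNeg = @_root_.Cfsg.Agent.KOd6452f9.k21 | exact True : Prop) := by first | (delta _root_.Cfsg.Agent.KOd6452f9.k21; exact @Subtype.property _ (fun g => @Cfsg.Agent.H64.Dl.Sph.pNeg = @g) _) | rfl | trivial
private noncomputable def _root_.Cfsg.Agent.KOd6452f9.k22 : type_of% @Nat.decEq := @(fun x0 x1 => @Bool.rec.{1} @(fun x2 => (@Eq.{1} _ (@Nat.beq @x0 @x1) @x2) → @Decidable (@Eq.{1} _ @x0 @x1)) @(fun x2 => @Decidable.isFalse _ (@Nat.ne_of_beq_eq_false _ _ @x2)) @(fun x2 => @Decidable.isTrue _ (@Nat.eq_of_beq_eq_true _ _ @x2)) (@Nat.beq @x0 @x1) (@Eq.refl.{1} _ (@Nat.beq @x0 @x1)))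
private theorem _root_.Cfsg.Agent.KOd6452f9.e22 : @Nat.decEq = @_root_.Cfsg.Agent.KOd6452f9.k22 := by delta _root_.Cfsg.Agent.KOd6452f9.k22; rfl'
private noncomputable def _root_.Cfsg.Agent.KOd6452f9.k23 : type_of% @instDecidableEqFin := @(fun x0 x1 x2 => @Decidable.rec.{1} _ @(fun x3 => @Decidable (@Eq.{1} _ @x1 @x2)) @(fun x3 => @Decidable.isFalse _ (@instDecidableEqFin._proof_1 @x0 @x1 @x2 @x3)) @(fun x3 => @Decidable.isTrue _ (@Fin.eq_of_val_eq _ _ _ @x3)) (@Cfsg.Agent.KOd6452f9.k22 (@Fin.val _ @x1) (@Fin.val _ @x2)))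
private theorem _root_.Cfsg.Agent.KOd6452f9.e23 : @instDecidableEqFin = @_root_.Cfsg.Agent.KOd6452f9.k23 := by delta _root_.Cfsg.Agent.KOd6452f9.k23; rewrite [← Cfsg.Agent.KOd6452f9.e22]; rfl'
private noncomputable def _root_.Cfsg.Agent.KOd6452f9.k24 : (by first | exact type_of% @Cfsg.Agent.H996.Eight.Cert.mpOf | exact Unit : Sort _) := by first | (refine @Subtype.val _ (fun g => @Cfsg.Agent.H996.Eight.Cert.mpOf = @g) (@Subtype.mk _ _ (@(fun x0 x1 x2 x3 x4 => @Decidable.rec.{1} _ @(fun x5 => @List.{0} ℤ) @(fun x5 => @x2 @x3 @x4) @(fun x5 => @Cfsg.Agent.KOd6452f9.k20 (@x2 @x3 @x4) (@Cfsg.Agent.KOd6452f9.k21 @x1)) (@Cfsg.Agent.KOd6452f9.k23 @x0 @x3 @x4))) ?_); rewrite [← Cfsg.Agent.KOd6452f9.e23, ← Cfsg.Agent.KOd6452f9.e21, ← Cfsg.Agent.KOd6452f9.e20]; (try delta Cfsg.Agent.H996.Eight.Cert.mpOf); (try generalize @Cfsg.Agent.H64.Dl.Sph.pAdd = g0); (try generalize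 @Cfsg.Agent.H64.Dl.Sph.pNeg = g1); rfl') | exact @Cfsg.Agent.H996.Eight.Cert.mpOf | exact ()
private theorem _root_.Cfsg.Agent.KOd6452f9.e24 : (by first | exact @Cfsg.Agent.H996.Eight.Cert.mpOf = @_root_.Cfsg.Agent.KOd6452f9.k24 | exact True : Prop) := by first | (delta _root_.Cfsg.Agent.KOd6452f9.k24; exact @Subtype.property _ (fun g => @Cfsg.Agent.H996.Eight.Cert.mpOf = @g) _) | rfl | trivial
private noncomputable def _root_.Cfsg.Agent.KOd6452f9.k26.{ku0} : type_of% @List.get?Internal.{ku0} := @(fun x0 x1 x2 => @List.rec.{(ku0+1), ku0} @x0 @(fun x3 => ℕ → @Option.{ku0} @x0) @(fun x3 => @Option.none.{ku0} _) @(fun x3 x4 x5 x6 => @Nat.rec.{(ku0+1)} @(fun x7 => @Option.{ku0} @x0) (@Option.some.{ku0} _ @x3) @(fun x7 x8 => @x5 @x7) @x6) @x1 @x2)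
private theorem _root_.Cfsg.Agent.KOd6452f9.e26.{ku0} : @List.get?Internal.{ku0} = @_root_.Cfsg.Agent.KOd6452f9.k26.{ku0} := by delta _root_.Cfsg.Agent.KOd6452f9.k26; funext a0 a1 a2; refine (congrFun (_root_.Cfsg.Agent.KOd6452f9.e18 (fun a1 a2 => @List.get?Internal.{ku0} a0 a1 a2) ?_ (fun c0 c1 => ?_) a1) a2 :) <;> [(funext b0; (rfl')); (funext b0; (cases b0 with | @zero  => (rfl') | @succ b0_0 => (rfl')))]
private noncomputable def _root_.Cfsg.Agent.KOd6452f9.k27 : (by first | exact type_of% @Cfsg.Agent.H996.PQ.TabE8c.bb | exact Unit : Sort _) := by first | (refine @Subtype.val _ (fun g => @Cfsg.Agent.H996.PQ.TabE8c.bb = @g) (@Subtype.mk _ _ (@(fun x0 x1 => @Option.rec.{1, 0} (@List.{0} ℤ) @(fun x2 => @List.{0} ℤ) [] @(fun x2 => @x2) (@Cfsg.Agent.KOd6452f9.k26.{0} _ (@Option.rec.{1, 0} (@List.{0} (@List.{0} ℤ)) @(fun x2 => @List.{0} (@List.{0} ℤ)) [] @(fun x2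 => @x2) (@Cfsg.Agent.KOd6452f9.k26.{0} _ @Cfsg.Agent.H996.PQ.TabE8c.bbL (@Fin.val _ @x0))) (@Fin.val _ @x1)))) ?_); rewrite [← Cfsg.Agent.KOd6452f9.e26.{0}]; (try delta Cfsg.Agent.H996.PQ.TabE8c.bb); (try generalize @Cfsg.Agent.H996.PQ.TabE8c.bbL = g0); rfl') | exact @Cfsg.Agent.H996.PQ.TabE8c.bb | exact ()
private theorem _root_.Cfsg.Agent.KOd6452f9.e27 : (by first | exact @Cfsg.Agent.H996.PQ.TabE8c.bb = @_root_.Cfsg.Agent.KOd6452f9.k27 | exact True : Prop) := by first | (delta _root_.Cfsg.Agent.KOd6452f9.k27; exact @Subtype.property _ (fun g => @Cfsg.Agent.H996.PQ.TabE8c.bb = @g) _) | rfl | trivial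
private theorem _root_.Cfsg.Agent.KOd6452f9.e28.{ku} {M : Nat → Sort ku} (φ : ∀ n, M n) {z : M Nat.zero} {s : ∀ n, M n → M (Nat.succ n)} (h0 : φ Nat.zero = z) (hs : ∀ n, φ (Nat.succ n) = s n (φ n)) (n : Nat) : φ n = @Nat.rec M z s n := Nat.rec h0 (fun n ih => (hs n).trans (congrArg (s n) ih)) n
private noncomputable def _root_.Cfsg.Agent.KOd6452f9.k29.{ku0} : type_of% @Fin.foldr.loop.{ku0} := @(fun x0 x1 x2 x3 x4 x5 => @Nat.rec.{ku0} @(fun x6 => (@LE.le.{0} _ _ @x6 @x1) → @x0 → @x0) @(fun x6 x7 => @x7) @(fun x6 x7 x8 x9 => @x7 (@Nat.le_of_lt _ _ @x8) (@x2 (@Fin.mk _ @x6 @x8) @x9)) @x3 @x4 @x5)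
private theorem _root_.Cfsg.Agent.KOd6452f9.e29.{ku0} : @Fin.foldr.loop.{ku0} = @_root_.Cfsg.Agent.KOd6452f9.k29.{ku0} := by delta _root_.Cfsg.Agent.KOd6452f9.k29; funext a0 a1 a2 a3 a4 a5; refine (congrFun (congrFun (_root_.Cfsg.Agent.KOd6452f9.e28 (fun a3 a4 a5 => @Fin.foldr.loop.{ku0} a0 a1 a2 a3 a4 a5) ?_ (fun c0 => ?_) a3) a4) a5 :) <;> (rfl')
private noncomputable def _root_.Cfsg.Agent.KOd6452f9.k30 : type_of% @List.finRange := @(fun x0 => @Cfsg.Agent.KOd6452f9.k29.{1} _ @x0 @(fun x1 x2 => @x1 :: @x2) @x0 (@Nat.le_refl @x0) [])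
private theorem _root_.Cfsg.Agent.KOd6452f9.e30 : @List.finRange = @_root_.Cfsg.Agent.KOd6452f9.k30 := by delta _root_.Cfsg.Agent.KOd6452f9.k30; rewrite [← Cfsg.Agent.KOd6452f9.e29.{1}]; rfl'
private noncomputable def _root_.Cfsg.Agent.KOd6452f9.k37 : type_of% @Bool.and := @(fun x0 x1 => @Bool.rec.{1} @(fun x2 => @Bool) @Bool.false @x1 @x0)
private theorem _root_.Cfsg.Agent.KOd6452f9.e37 : @Bool.and = @_root_.Cfsg.Agent.KOd6452f9.k37 := by delta _root_.Cfsg.Agent.KOd6452f9.k37; rfl'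
private noncomputable def _root_.Cfsg.Agent.KOd6452f9.k38.{ku0} : type_of% @List.all.{ku0} := @(fun x0 x1 x2 => @List.rec.{(ku0+1), ku0} @x0 @(fun x3 => (@x0 → @Bool) → @Bool) @(fun x3 => @Bool.true) @(fun x3 x4 x5 x6 => @Bool.rec.{1} @(fun x7 => @Bool) @Bool.false (@x5 @x6) (@x6 @x3)) @x1 @x2)
private theorem _root_.Cfsg.Agent.KOd6452f9.e38.{ku0} : @List.all.{ku0} = @_root_.Cfsg.Agent.KOd6452f9.k38.{ku0} := by delta _root_.Cfsg.Agent.KOd6452f9.k38; funext a0 a1 a2; refine (congrFun (_root_.Cfsg.Agent.KOd6452f9.e18 (fun a1 a2 => @List.all.{ku0} a0 a1 a2) ?_ (fun c0 c1 => ?_) a1) a2 :) <;> (rfl')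
private noncomputable def _root_.Cfsg.Agent.KOd6452f9.k39 : type_of% @Bool.or := @(fun x0 x1 => @Bool.rec.{1} @(fun x2 => @Bool) @x1 @Bool.true @x0)
private theorem _root_.Cfsg.Agent.KOd6452f9.e39 : @Bool.or = @_root_.Cfsg.Agent.KOd6452f9.k39 := by delta _root_.Cfsg.Agent.KOd6452f9.k39; rfl'
private noncomputable def _root_.Cfsg.Agent.KOd6452f9.k40.{ku0, ku1} : type_of% @List.foldr.{ku0, ku1} := @(fun x0 x1 x2 x3 x4 => @List.rec.{(ku1+1), ku0} @x0 @(fun x5 => @x1) @x3 @(fun x5 x6 x7 => @x2 @x5 @x7) @x4)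
private theorem _root_.Cfsg.Agent.KOd6452f9.e40.{ku0, ku1} : @List.foldr.{ku0, ku1} = @_root_.Cfsg.Agent.KOd6452f9.k40.{ku0, ku1} := by delta _root_.Cfsg.Agent.KOd6452f9.k40; funext a0 a1 a2 a3 a4; refine (_root_.Cfsg.Agent.KOd6452f9.e18 (fun a4 => @List.foldr.{ku0, ku1} a0 a1 a2 a3 a4) ?_ (fun c0 c1 => ?_) a4 :) <;> (rfl')
private noncomputable def _root_.Cfsg.Agent.KOd6452f9.k41.{ku0} : type_of% @List.sum.{ku0} := @(fun x0 x1 x2 => @Cfsg.Agent.KOd6452f9.k40.{ku0, ku0} _ _ @(fun x3 x4 => @Add.add.{ku0} _ @x1 @x3 @x4) (@Zero.zero.{ku0} _ @x2))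
private theorem _root_.Cfsg.Agent.KOd6452f9.e41.{ku0} : @List.sum.{ku0} = @_root_.Cfsg.Agent.KOd6452f9.k41.{ku0} := by delta _root_.Cfsg.Agent.KOd6452f9.k41; rewrite [← Cfsg.Agent.KOd6452f9.e40.{ku0, ku0}]; rfl'
private noncomputable def _root_.Cfsg.Agent.KOd6452f9.k42.{ku0, ku1} : type_of% @List.map.{ku0, ku1} := @(fun x0 x1 x2 x3 => @List.rec.{(ku1+1), ku0} @x0 @(fun x4 => @List.{ku1} @x1) [] @(fun x4 x5 x6 => (@x2 @x4) :: @x6) @x3)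
private theorem _root_.Cfsg.Agent.KOd6452f9.e42.{ku0, ku1} : @List.map.{ku0, ku1} = @_root_.Cfsg.Agent.KOd6452f9.k42.{ku0, ku1} := by delta _root_.Cfsg.Agent.KOd6452f9.k42; funext a0 a1 a2 a3; refine (_root_.Cfsg.Agent.KOd6452f9.e18 (fun a3 => @List.map.{ku0, ku1} a0 a1 a2 a3) ?_ (fun c0 c1 => ?_) a3 :) <;> (rfl')
private noncomputable def _root_.Cfsg.Agent.KOd6452f9.k43 : (by first | exact type_of% @Cfsg.Agent.H996.Eight.Kq.fn | exact Unit : Sort _) := by first | (refine @Subtype.val _ (fun g => @Cfsg.Agent.H996.Eight.Kq.fn = @g) (@Subtype.mk _ _ (@(fun x0 x1 => @Nat.rec.{1} @(fun x2 => ℕ) (@x0 (nat_lit 0)) @(fun x2 x3 => @x0 (@Nat.succ @x2)) @x1)) ?_); rfl') | exact @Cfsg.Agent.H996.Eight.Kq.fn | exact ()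
private theorem _root_.Cfsg.Agent.KOd6452f9.e43 : (by first | exact @Cfsg.Agent.H996.Eight.Kq.fn = @_root_.Cfsg.Agent.KOd6452f9.k43 | exact True : Prop) := by first | (delta _root_.Cfsg.Agent.KOd6452f9.k43; exact @Subtype.property _ (fun g => @Cfsg.Agent.H996.Eight.Kq.fn = @g) _) | rfl | trivial
private noncomputable def _root_.Cfsg.Agent.KOd6452f9.k44 : (by first | exact type_of% @Cfsg.Agent.H996.Eight.Kq.tp | exact Unit : Sort _) := by first | (refine @Subtype.val _ (fun g => @Cfsg.Agent.H996.Eight.Kq.tp = @g) (@Subtype.mk _ _ (@(fun x0 x1 x2 x3 x4 x5 => @Nat.rec.{1} @(fun x6 => ℕ) (nat_lit 0) @(fun x6 x7 => @Nat.add (@x0 (@Nat.land (@Nat.shiftRight @x4 (@Nat.add (nat_lit 64) (@Nat.mul @x1 (@Nat.sub @x3 (@Nat.succ @x6))))) (@Nat.sub (@Nat.shiftLeft (nat_lit 1) @x1) (nat_lit 1)))) (@Nat.mul @x2 @x7)) @x5)) ?_); rfl') | exact @Cfsg.Agent.H996.Eight.Kq.tp | exact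 ()
private theorem _root_.Cfsg.Agent.KOd6452f9.e44 : (by first | exact @Cfsg.Agent.H996.Eight.Kq.tp = @_root_.Cfsg.Agent.KOd6452f9.k44 | exact True : Prop) := by first | (delta _root_.Cfsg.Agent.KOd6452f9.k44; exact @Subtype.property _ (fun g => @Cfsg.Agent.H996.Eight.Kq.tp = @g) _) | rfl | trivial
private noncomputable def _root_.Cfsg.Agent.KOd6452f9.k45 : (by first | exact type_of% @Cfsg.Agent.H996.Eight.Kq.lp | exact Unit : Sort _) := by first | (refine @Subtype.val _ (fun g => @Cfsg.Agent.H996.Eight.Kq.lp = @g) (@Subtype.mk _ _ (@(fun x0 x1 x2 x3 x4 => @Cfsg.Agent.KOd6452f9.k43 @(fun x5 => @Cfsg.Agent.KOd6452f9.k44 @x0 @x1 @x2 @x3 @x5 @x3) (@Nat.add (@Nat.shiftLeft @x4 (nat_lit 64)) (@Nat.mod @x4 (nat_lit 18446744073709551557))))) ?_); rewrite [← Cfsg.Agent.KOd6452f9.e44, ← Cfsg.Agent.KOd6452f9.e43]; (try delta Cfsg.Agent.H996.Eight.Kq.lp); (try generalize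 @Cfsg.Agent.H996.Eight.Kq.fn = g0); (try generalize @Cfsg.Agent.H996.Eight.Kq.tp = g1); rfl') | exact @Cfsg.Agent.H996.Eight.Kq.lp | exact ()
private theorem _root_.Cfsg.Agent.KOd6452f9.e45 : (by first | exact @Cfsg.Agent.H996.Eight.Kq.lp = @_root_.Cfsg.Agent.KOd6452f9.k45 | exact True : Prop) := by first | (delta _root_.Cfsg.Agent.KOd6452f9.k45; exact @Subtype.property _ (fun g => @Cfsg.Agent.H996.Eight.Kq.lp = @g) _) | rfl | trivial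
private noncomputable def _root_.Cfsg.Agent.KOd6452f9.k46.{ku0} : type_of% @List.getD.{ku0} := @(fun x0 x1 x2 x3 => @Option.rec.{(ku0+1), ku0} @x0 @(fun x4 => @x0) @x3 @(fun x4 => @x4) (@Cfsg.Agent.KOd6452f9.k26.{ku0} _ @x1 @x2))
private theorem _root_.Cfsg.Agent.KOd6452f9.e46.{ku0} : @List.getD.{ku0} = @_root_.Cfsg.Agent.KOd6452f9.k46.{ku0} := by delta _root_.Cfsg.Agent.KOd6452f9.k46; rewrite [← Cfsg.Agent.KOd6452f9.e26.{ku0}]; rfl'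
private noncomputable def _root_.Cfsg.Agent.KOd6452f9.oEq.{ku} (α : Sort ku) (a b : Nat) (f t : α) : α := @Decidable.rec (a = b) (fun _ => α) (fun _ => f) (fun _ => t) (Nat.decEq a b)
private noncomputable def _root_.Cfsg.Agent.KOd6452f9.k47.{ku} (α : Sort ku) (a b : Nat) (f t : α) : α := @Bool.rec (fun _ => α) f t (Nat.beq a b)
private theorem _root_.Cfsg.Agent.KOd6452f9.e47.{ku} : @_root_.Cfsg.Agent.KOd6452f9.oEq.{ku} = @_root_.Cfsg.Agent.KOd6452f9.k47.{ku} := funext fun α => funext fun a => funext fun b => funext fun f => funext fun t => by delta _root_.Cfsg.Agent.KOd6452f9.oEq _root_.Cfsg.Agent.KOd6452f9.k47; cases h : Nat.beq a b <;> cases Nat.decEq a b <;> rename_i g <;> first | rfl | exact absurd g (Nat.ne_of_beq_eq_false h) | exact absurd (Nat.eq_of_beq_eq_true h) g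
private noncomputable def _root_.Cfsg.Agent.KOd6452f9.oLe.{ku} (α : Sort ku) (a b : Nat) (f t : α) : α := @Decidable.rec (@LE.le Nat instLENat a b) (fun _ => α) (fun _ => f) (fun _ => t) (Nat.decLe a b)
private noncomputable def _root_.Cfsg.Agent.KOd6452f9.k48.{ku} (α : Sort ku) (a b : Nat) (f t : α) : α := @Bool.rec (fun _ => α) f t (Nat.ble a b)
private theorem _root_.Cfsg.Agent.KOd6452f9.e48.{ku} : @_root_.Cfsg.Agent.KOd6452f9.oLe.{ku} = @_root_.Cfsg.Agent.KOd6452f9.k48.{ku} := funext fun α => funext fun a => funext fun b => funext fun f => funext fun t => by delta _root_.Cfsg.Agent.KOd6452f9.oLe _root_.Cfsg.Agent.KOd6452f9.k48; cases h : Nat.ble a b <;> cases Nat.decLe a b <;> rename_i g <;> first | rfl | exact absurd (h.symm.trans (Nat.ble_eq_true_of_le g)) Bool.false_ne_true | exact absurd (Nat.le_of_ble_eq_true h) g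
private noncomputable def _root_.Cfsg.Agent.KOd6452f9.k49 : (by first | exact type_of% @Cfsg.Agent.H906.PQ.XC.chk | exact Unit : Sort _) := by first | (refine @Subtype.val _ (fun g => @Cfsg.Agent.H906.PQ.XC.chk = @g) (@Subtype.mk _ _ (@(fun x0 x1 x2 x3 x4 => @Cfsg.Agent.KOd6452f9.k47.{1} @Bool @x2 @x1 (@Cfsg.Agent.KOd6452f9.k48.{1} @Bool (@Option.rec.{1, 0} ℕ @(fun x5 => ℕ) (nat_lit 0) @(fun x5 => @x5) (@Cfsg.Agent.KOd6452f9.k26.{0} _ (@Cfsg.Agent.H906.PQ.XC.rk @x0) @x2)) (@Option.rec.{1, 0} ℕ @(fun x5 => ℕ) (nat_lit 0) @(fun x5 => @x5) (@Cfsg.Agent.KOd6452f9.k26.{0} _ (@Cfsg.Agent.H906.PQ.XC.rk @x0) @x1)) (@Nat.beq (@Nat.mod @x4 (@Nat.pow (@Cfsg.Agent.H906.PQ.XC.X @x0) @x3)) (nat_lit 0)) (@Nat.beq (@Nat.mod @x4 (@Nat.pow (@Cfsg.Agent.H906.PQ.XC.X @x0) (@Nat.add @x3 (nat_lit 1)))) (nat_lit 0))) (@Bool.rec.{1} @(fun x5 => @Bool) (@Nat.beq (@Nat.mod @x4 (@Nat.pow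 (@Cfsg.Agent.H906.PQ.XC.X @x0) (@Nat.add @x3 (nat_lit 1)))) (@Nat.sub (@Nat.pow (@Cfsg.Agent.H906.PQ.XC.X @x0) (@Nat.add @x3 (nat_lit 1))) (@Nat.pow (@Cfsg.Agent.H906.PQ.XC.X @x0) @x3))) @Bool.true (@Nat.beq (@Nat.mod @x4 (@Nat.pow (@Cfsg.Agent.H906.PQ.XC.X @x0) (@Nat.add @x3 (nat_lit 1)))) (@Nat.pow (@Cfsg.Agent.H906.PQ.XC.X @x0) @x3))))) ?_); rewrite [← Cfsg.Agent.KOd6452f9.e26.{0}, ← Cfsg.Agent.KOd6452f9.e48.{1}, ← Cfsg.Agent.KOd6452f9.e47.{1}]; rfl') | exact @Cfsg.Agent.H906.PQ.XC.chk | exact ()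
private theorem _root_.Cfsg.Agent.KOd6452f9.e49 : (by first | exact @Cfsg.Agent.H906.PQ.XC.chk = @_root_.Cfsg.Agent.KOd6452f9.k49 | exact True : Prop) := by first | (delta _root_.Cfsg.Agent.KOd6452f9.k49; exact @Subtype.property _ (fun g => @Cfsg.Agent.H906.PQ.XC.chk = @g) _) | rfl | trivial
private noncomputable def _root_.Cfsg.Agent.KOd6452f9.k51 : (by first | exact type_of% @Cfsg.Agent.H906.PQ.dotW | exact Unit : Sort _) := by first | (refine @Subtype.val _ (fun g => @Cfsg.Agent.H906.PQ.dotW = @g) (@Subtype.mk _ _ (@(fun x0 x1 x2 x3 => @List.rec.{1, 0} (@Fin @x0) @(fun x4 => (@List.{0} ℕ) → ℕ) @(fun x4 => nat_lit 0) @(fun x4 x5 x6 x7 => @List.rec.{1, 0} ℕ @(fun x8 => ((@Nat.hasNotBit (nat_lit 2) (@List.ctorIdx.{0} _ @x8)) → ℕ) → ℕ) @(fun x8 => @x8 (@Nat.ne_of_beq_eq_false _ _ (@Eq.refl.{1} _ @Bool.false))) @(fun x8 x9 x10 x11 => @Cfsg.Agent.KOd6452f9.k47.{1}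 ℕ @x8 (nat_lit 0) (@Nat.add (@Nat.mul @x8 (@x1 @x4)) (@x6 @x9)) (@x6 @x9)) @x7 @(fun x8 => nat_lit 0)) @x2 @x3)) ?_); rewrite [← Cfsg.Agent.KOd6452f9.e47.{1}]; funext a0 a1 a2 a3; refine (congrFun (_root_.Cfsg.Agent.KOd6452f9.e18 (fun a2 a3 => @Cfsg.Agent.H906.PQ.dotW a0 a1 a2 a3) ?_ (fun c0 c1 => ?_) a2) a3 :) <;> [(funext b0; (rfl')); (funext b0; (cases b0 with | @nil  => (rfl') | @cons b0_0 b0_1 => (rfl')))]) | exact @Cfsg.Agent.H906.PQ.dotW | exact ()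
private theorem _root_.Cfsg.Agent.KOd6452f9.e51 : (by first | exact @Cfsg.Agent.H906.PQ.dotW = @_root_.Cfsg.Agent.KOd6452f9.k51 | exact True : Prop) := by first | (delta _root_.Cfsg.Agent.KOd6452f9.k51; exact @Subtype.property _ (fun g => @Cfsg.Agent.H906.PQ.dotW = @g) _) | rfl | trivial
private noncomputable def _root_.Cfsg.Agent.KOd6452f9.k53 : (by first | exact type_of% @Cfsg.Agent.H906.PQ.toN | exact Unit : Sort _) := by first | (refine @Subtype.val _ (fun g => @Cfsg.Agent.H906.PQ.toN = @g) (@Subtype.mk _ _ (@(fun x0 x1 x2 => @List.rec.{1, 0} ℤ @(fun x3 => ℕ) (nat_lit 0) @(fun x3 x4 x5 => @Int.rec.{1} @(fun x6 => ℕ) @(fun x6 => @Nat.mod (@Nat.add @x6 (@Nat.mul @x0 @x5)) @x1) @(fun x6 => @Nat.mod (@Nat.add (@Nat.sub @x1 (@Nat.mod (@Nat.add @x6 (nat_lit 1)) @x1)) (@Nat.mul @x0 @x5)) @x1) @x3) @x2)) ?_); funext a0 a1 a2; refine (_root_.Cfsg.Agent.KOd6452f9.e18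 (fun a2 => @Cfsg.Agent.H906.PQ.toN a0 a1 a2) ?_ (fun c0 c1 => ?_) a2 :) <;> [(rfl'); (cases c0 with | @ofNat c0_0 => (rfl') | @negSucc c0_0 => (rfl'))]) | exact @Cfsg.Agent.H906.PQ.toN | exact ()
private theorem _root_.Cfsg.Agent.KOd6452f9.e53 : (by first | exact @Cfsg.Agent.H906.PQ.toN = @_root_.Cfsg.Agent.KOd6452f9.k53 | exact True : Prop) := by first | (delta _root_.Cfsg.Agent.KOd6452f9.k53; exact @Subtype.property _ (fun g => @Cfsg.Agent.H906.PQ.toN = @g) _) | rfl | trivial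
private noncomputable def _root_.Cfsg.Agent.KOd6452f9.k54 : (by first | exact type_of% @Cfsg.Agent.H996.Eight.Kq.gQ | exact Unit : Sort _) := by first | (refine @Subtype.val _ (fun g => @Cfsg.Agent.H996.Eight.Kq.gQ = @g) (@Subtype.mk _ _ (@(fun x0 x1 => @Bool.rec.{1} @(fun x2 => ℕ) (@Nat.sub @x0 (@Nat.mod (@Nat.succ (@Nat.div @x1 (nat_lit 2))) @x0)) (@Nat.div @x1 (nat_lit 2)) (@Nat.beq (@Nat.mod @x1 (nat_lit 2)) (nat_lit 0)))) ?_); rfl') | exact @Cfsg.Agent.H996.Eight.Kq.gQ | exact ()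
private theorem _root_.Cfsg.Agent.KOd6452f9.e54 : (by first | exact @Cfsg.Agent.H996.Eight.Kq.gQ = @_root_.Cfsg.Agent.KOd6452f9.k54 | exact True : Prop) := by first | (delta _root_.Cfsg.Agent.KOd6452f9.k54; exact @Subtype.property _ (fun g => @Cfsg.Agent.H996.Eight.Kq.gQ = @g) _) | rfl | trivial

theorem xc_ok8 : xc8.ok 0 (mpOf c8.th TabE8c.bb) = true := by
  delta XC.ok XC.row
  rw [H996.Eight.Kq.decA_fun, H996.Eight.Kq.decN_fun, H996.Eight.Kq.n1_eq]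
  (first | (rewrite [Cfsg.Agent.KOd6452f9.e37, Cfsg.Agent.KOd6452f9.e38.{0}, Cfsg.Agent.KOd6452f9.e30, Cfsg.Agent.KOd6452f9.e11, Cfsg.Agent.KOd6452f9.e24, Cfsg.Agent.KOd6452f9.e27, Cfsg.Agent.KOd6452f9.e39, Cfsg.Agent.KOd6452f9.e41.{0}, Cfsg.Agent.KOd6452f9.e42.{0, 0}, Cfsg.Agent.KOd6452f9.e45, Cfsg.Agent.KOd6452f9.e46.{0}, Cfsg.Agent.KOd6452f9.e49, Cfsg.Agent.KOd6452f9.e51, Cfsg.Agent.KOd6452f9.e53, Cfsg.Agent.KOd6452f9.e54]; decide +kernel) | decide +kernel)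

theorem uq8 : Uq c8.th c8.nu 0 TabE8c.bb := uq_of_xok ok8 xc_ok8

/-- the eigenvalues of the double cosets -/
def lam8 (c : Fin 26) : List ℤ := ([[1], (beta% delta% lq26b4cda9c8 fun a b _ =>
 (a (-1)<|a 0<|a 1<|a 1<|a 1<|a 3<|a 4<|a 4<|a 4<|a 6<|a 5<|a 4<|a 4<|a 4<|a 2<|a 1<|a 1<|a 1<|b) :
 List ℤ), (beta% delta% lq26b4cda9c8 fun a b _ =>
 (a 0<|a 0<|a (-1)<|a (-1)<|a (-1)<|a (-2)<|a (-2)<|a (-1)<|a 0<|a 1<|a 4<|a 7<|a 9<|a 12<|a 15<|a 16<|a 16<|a 16<|a 15<|a 12<|a 10<|a 8<|a 5<|a 3<|a 2<|a 1<|b) :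
 List ℤ), (beta% delta% lq26b4cda9c8 fun a b _ =>
 (a 0<|a 0<|a 0<|a 0<|a 0<|a (-1)<|a (-1)<|a (-1)<|a (-1)<|a (-2)<|a 0<|a 1<|a 1<|a 1<|a 4<|a 4<|a 4<|a 4<|a 6<|a 4<|a 3<|a 3<|a 3<|a 1<|a 1<|a 1<|a 1<|b) :
 List ℤ), (beta% delta% lq26b4cda9c8 fun a b _ =>
 (a 0<|a 0<|a 0<|a 0<|a 0<|a 0<|a (-1)<|a (-2)<|a (-3)<|a (-5)<|a (-9)<|a (-10)<|a (-10)<|a (-11)<|a (-11)<|a (-4)<|a 2<|a 7<|a 15<|a 27<|a 32<|a 35<|a 39<|a 41<|a 35<|a 30<|a 26<|a 20<|a 12<|a 8<|a 5<|a 2<|b) :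
 List ℤ), (let yq1 : List ℤ := (let yq2 : List ℤ := (let yq3 : List ℤ := %[10, 6, 3, 2, 1 | []];
  %[26, 25, 22, 17, 13 | yq3]);
  (let yq4 : type_of% yq2 := %[11, 16, 21, 26, 27 | yq2];
  %[-13, -10, -7, -3, 4 | yq4]));
  (let yq5 : type_of% yq1 := (let yq6 : type_of% yq1 := %[-5, -8, -10, -11, -13 | yq1];
  %[0, 0, -1, -2, -3 | yq6]);
  (let yq7 : type_of% yq5 := %[0, 0, 0, 0, 0 | yq5];
  %[0, 0, 0, 0 | yq7]))), (let yq8 : List ℤ := (let yq9 : List ℤ := (let yq10 : List ℤ := %[10, 6, 3, 2, 1 | []];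
  %[26, 25, 22, 17, 13 | yq10]);
  (let yq11 : type_of% yq9 := %[11, 16, 21, 26, 27 | yq9];
  %[-13, -10, -7, -3, 4 | yq11]));
  (let yq12 : type_of% yq8 := (let yq13 : type_of% yq8 := %[-5, -8, -10, -11, -13 | yq8];
  %[0, 0, -1, -2, -3 | yq13]);
  (let yq14 : type_of% yq12 := %[0, 0, 0, 0, 0 | yq12];
  %[0, 0, 0, 0 | yq14]))), (let yq15 : List ℤ := (let yq16 : List ℤ := (let yq17 : List ℤ := %[3, 2, 1, 1, 1 | []];
  %[2, 2, 2, 2 | yq17]);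
  (let yq18 : type_of% yq16 := %[-1, 0, 0, 0 | yq16];
  %[-1, -1, -1, -2 | yq18]));
  (let yq19 : type_of% yq15 := (let yq20 : type_of% yq15 := %[0, 0, 0, -1 | yq15];
  %[0, 0, 0, 0 | yq20]);
  (let yq21 : type_of% yq19 := %[0, 0, 0, 0 | yq19];
  %[0, 0, 0, 0 | yq21]))), (let yq22 : List ℤ := (let yq23 : List ℤ := (let yq24 : List ℤ := %[21, 15, 9, 4, 2, 1 | []];
  %[49, 47, 44, 38, 29 | yq24]);
  (let yq25 : type_of% yq23 := %[-14, 0, 15, 27, 37, 46 | yq23];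
  %[-30, -34, -35, -30, -23 | yq25]));
  (let yq26 : type_of% yq22 := (let yq27 : type_of% yq22 := %[-2, -5, -8, -13, -20, -26 | yq22];
  %[0, 0, 0, 0, 0 | yq27]);
  (let yq28 : type_of% yq26 := %[0, 0, 0, 0, 0, 0 | yq26];
  %[0, 0, 0, 0, 0 | yq28]))), (beta% delta% lq26b4cda9c8 fun a b _ =>
 (a 0<|a 0<|a 0<|a 0<|a 0<|a 0<|a 0<|a 0<|a 0<|a 0<|a 0<|a 0<|a 0<|a 0<|a 0<|a 0<|a 0<|a 0<|a (-1)<|a 0<|a 0<|a 0<|a 0<|a 1<|a 0<|a 0<|a 0<|a 1<|b) :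
 List ℤ), (let yq29 : List ℤ := (let yq30 : List ℤ := (let yq31 : List ℤ := %[23, 17, 12, 8, 4, 2, 1 | []];
  %[20, 27, 32, 33, 31, 28 | yq31]);
  (let yq32 : type_of% yq30 := %[-32, -27, -20, -11, 0, 11 | yq30];
  %[-12, -17, -23, -28, -31, -33 | yq32]));
  (let yq33 : type_of% yq29 := (let yq34 : type_of% yq29 := %[0, 0, -1, -2, -4, -8 | yq29];
  %[0, 0, 0, 0, 0, 0 | yq34]);
  (let yq35 : type_of% yq33 := %[0, 0, 0, 0, 0, 0 | yq33];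
  %[0, 0, 0, 0, 0, 0 | yq35]))), (let yq36 : List ℤ := (let yq37 : List ℤ := (let yq38 : List ℤ := %[4, 4, 2, 2, 2, 1 | []];
  %[0, 2, 4, 3, 3 | yq38]);
  (let yq39 : type_of% yq37 := %[-2, -3, -3, 0, 0 | yq37];
  %[-1, -1, -2, -3, -2 | yq39]));
  (let yq40 : type_of% yq36 := (let yq41 : type_of% yq36 := %[0, 0, 0, 0, -1 | yq36];
  %[0, 0, 0, 0, 0 | yq41]);
  (let yq42 : type_of% yq40 := %[0, 0, 0, 0, 0 | yq40];
  %[0, 0, 0, 0, 0 | yq42]))), (let yq43 : List ℤ := (let yq44 : List ℤ := (let yq45 : List ℤ := %[4, 4, 2, 2, 2, 1 | []];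
  %[0, 2, 4, 3, 3 | yq45]);
  (let yq46 : type_of% yq44 := %[-2, -3, -3, 0, 0 | yq44];
  %[-1, -1, -2, -3, -2 | yq46]));
  (let yq47 : type_of% yq43 := (let yq48 : type_of% yq43 := %[0, 0, 0, 0, -1 | yq43];
  %[0, 0, 0, 0, 0 | yq48]);
  (let yq49 : type_of% yq47 := %[0, 0, 0, 0, 0 | yq47];
  %[0, 0, 0, 0, 0 | yq49]))), (let yq50 : List ℤ := (let yq51 : List ℤ := (let yq52 : List ℤ := %[17, 14, 11, 6, 3, 2, 1 | []];
  %[17, 24, 24, 25, 27, 23 | yq52]);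
  (let yq53 : type_of% yq51 := %[-24, -24, -17, -6, 0, 6 | yq51];
  %[-11, -14, -17, -23, -27, -25 | yq53]));
  (let yq54 : type_of% yq50 := (let yq55 : type_of% yq50 := %[0, 0, -1, -2, -3, -6 | yq50];
  %[0, 0, 0, 0, 0, 0 | yq55]);
  (let yq56 : type_of% yq54 := %[0, 0, 0, 0, 0, 0 | yq54];
  %[0, 0, 0, 0, 0, 0 | yq56]))), (let yq57 : List ℤ := (let yq58 : List ℤ := (let yq59 : List ℤ := %[30, 26, 20, 13, 8, 5, 2 | []];
  %[-15, 0, 14, 23, 30, 35, 34 | yq59]);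
  (let yq60 : type_of% yq58 := %[-38, -44, -47, -49, -46, -37, -27 | yq58];
  %[-2, -4, -9, -15, -21, -29 | yq60]));
  (let yq61 : type_of% yq57 := (let yq62 : type_of% yq57 := %[0, 0, 0, 0, 0, 0, -1 | yq57];
  %[0, 0, 0, 0, 0, 0 | yq62]);
  (let yq63 : type_of% yq61 := %[0, 0, 0, 0, 0, 0, 0 | yq61];
  %[0, 0, 0, 0, 0, 0 | yq63]))), (let yq64 : List ℤ := (let yq65 : List ℤ := (let yq66 : List ℤ := %[2, 2, 3, 2, 1, 1, 1 | []];
  %[-2, 0, 0, 0, 3, 3 | yq66]);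
  (let yq67 : type_of% yq65 := %[-2, -4, -4, -3, -3, -4 | yq65];
  %[0, 0, 0, -1, -2, -2 | yq67]));
  (let yq68 : type_of% yq64 := (let yq69 : type_of% yq64 := %[0, 0, 0, 0, 0, 0, 0 | yq64];
  %[0, 0, 0, 0, 0, 0 | yq69]);
  (let yq70 : type_of% yq68 := %[0, 0, 0, 0, 0, 0 | yq68];
  %[0, 0, 0, 0, 0, 0 | yq70]))), (let yq71 : List ℤ := (let yq72 : List ℤ := (let yq73 : List ℤ := %[2, 2, 3, 2, 1, 1, 1 | []];
  %[-2, 0, 0, 0, 3, 3 | yq73]);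
  (let yq74 : type_of% yq72 := %[-2, -4, -4, -3, -3, -4 | yq72];
  %[0, 0, 0, -1, -2, -2 | yq74]));
  (let yq75 : type_of% yq71 := (let yq76 : type_of% yq71 := %[0, 0, 0, 0, 0, 0, 0 | yq71];
  %[0, 0, 0, 0, 0, 0 | yq76]);
  (let yq77 : type_of% yq75 := %[0, 0, 0, 0, 0, 0 | yq75];
  %[0, 0, 0, 0, 0, 0 | yq77]))), (let yq78 : List ℤ := (let yq79 : List ℤ := (let yq80 : List ℤ := (let yq81 : List ℤ := %[5, 3, 2, 1 | []];
  %[13, 11, 10, 8 | yq81]);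
  %[-16, -11, -4, 3, 7, 10, 13 | yq80]);
  (let yq82 : type_of% yq79 := %[-17, -22, -25, -26, -27, -26, -21 | yq79];
  %[0, -1, -2, -3, -6, -10, -13 | yq82]));
  (let yq83 : type_of% yq78 := (let yq84 : type_of% yq78 := (let yq85 : type_of% yq78 := %[0, 0, 0, 0 | yq78];
  %[0, 0, 0, 0 | yq85]);
  %[0, 0, 0, 0, 0, 0, 0 | yq84]);
  (let yq86 : type_of% yq83 := %[0, 0, 0, 0, 0, 0, 0 | yq83];
  %[0, 0, 0, 0, 0, 0, 0 | yq86]))), (let yq87 : List ℤ := (let yq88 : List ℤ := (let yq89 : List ℤ := (let yq90 : List ℤ := %[5, 3, 2, 1 | []];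
  %[13, 11, 10, 8 | yq90]);
  %[-16, -11, -4, 3, 7, 10, 13 | yq89]);
  (let yq91 : type_of% yq88 := %[-17, -22, -25, -26, -27, -26, -21 | yq88];
  %[0, -1, -2, -3, -6, -10, -13 | yq91]));
  (let yq92 : type_of% yq87 := (let yq93 : type_of% yq87 := (let yq94 : type_of% yq87 := %[0, 0, 0, 0 | yq87];
  %[0, 0, 0, 0 | yq94]);
  %[0, 0, 0, 0, 0, 0, 0 | yq93]);
  (let yq95 : type_of% yq92 := %[0, 0, 0, 0, 0, 0, 0 | yq92];
  %[0, 0, 0, 0, 0, 0, 0 | yq95]))), (let yq96 : List ℤ := (let yq97 : List ℤ := (let yq98 : List ℤ := %[0, 1, 2, 1, 1, 1, 1 | []];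
  %[-3, -2, -2, -2, -2, 0, 0 | yq98]);
  (let yq99 : type_of% yq97 := %[0, 0, 0, -1, -1, -1, -2 | yq97];
  %[0, 0, 0, 0, 0, 0 | yq99]));
  (let yq100 : type_of% yq96 := (let yq101 : type_of% yq96 := %[0, 0, 0, 0, 0, 0, 0 | yq96];
  %[0, 0, 0, 0, 0, 0, 0 | yq101]);
  (let yq102 : type_of% yq100 := %[0, 0, 0, 0, 0, 0, 0 | yq100];
  %[0, 0, 0, 0, 0, 0 | yq102]))), (let yq103 : List ℤ := (let yq104 : List ℤ := (let yq105 : List ℤ := (let yq106 : List ℤ := %[5, 3, 2, 1 | []];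
  %[11, 10, 10, 9 | yq106]);
  (let yq107 : type_of% yq105 := %[-7, -2, 4, 11 | yq105];
  %[-35, -32, -27, -15 | yq107]));
  (let yq108 : type_of% yq104 := (let yq109 : type_of% yq104 := %[-30, -35, -41, -39 | yq104];
  %[-8, -12, -20, -26 | yq109]);
  (let yq110 : type_of% yq108 := %[0, 0, -2, -5 | yq108];
  %[0, 0, 0, 0 | yq110])));
  (let yq111 : type_of% yq103 := (let yq112 : type_of% yq103 := (let yq113 : type_of% yq103 := %[0, 0, 0, 0 | yq103];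
  %[0, 0, 0, 0 | yq113]);
  (let yq114 : type_of% yq112 := %[0, 0, 0, 0 | yq112];
  %[0, 0, 0, 0 | yq114]));
  (let yq115 : type_of% yq111 := (let yq116 : type_of% yq111 := %[0, 0, 0, 0 | yq111];
  %[0, 0, 0, 0 | yq116]);
  %[0, 0, 0, 0, 0, 0, 0 | yq115]))), (let yq117 : List ℤ := (let yq118 : List ℤ := (let yq119 : List ℤ := (let yq120 : List ℤ := %[2, 2, 1, 1, 1 | []];
  %[-4, -1, 0, 1 | yq120]);
  (let yq121 : type_of% yq119 := %[-15, -12, -9, -7 | yq119];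
  %[-15, -16, -16, -16 | yq121]));
  (let yq122 : type_of% yq118 := (let yq123 : type_of% yq118 := %[-3, -5, -8, -10, -12 | yq118];
  %[0, 0, -1, -2 | yq123]);
  (let yq124 : type_of% yq122 := %[0, 0, 0, 0 | yq122];
  %[0, 0, 0, 0 | yq124])));
  (let yq125 : type_of% yq117 := (let yq126 : type_of% yq117 := (let yq127 : type_of% yq117 := %[0, 0, 0, 0, 0 | yq117];
  %[0, 0, 0, 0 | yq127]);
  (let yq128 : type_of% yq126 := %[0, 0, 0, 0 | yq126];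
  %[0, 0, 0, 0 | yq128]));
  (let yq129 : type_of% yq125 := (let yq130 : type_of% yq125 := %[0, 0, 0, 0 | yq125];
  %[0, 0, 0, 0 | yq130]);
  (let yq131 : type_of% yq129 := %[0, 0, 0, 0 | yq129];
  %[0, 0, 0, 0 | yq131])))), (let yq132 : List ℤ := (let yq133 : List ℤ := (let yq134 : List ℤ := %[0, -1, 0, 0, 0, 0, 1 | []];
  %[0, 0, 0, -1, 0, 0 | yq134]);
  (let yq135 : type_of% yq133 := %[0, 0, 0, 0, 0, 0, 0 | yq133];
  %[0, 0, 0, 0, 0, 0 | yq135]));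
  (let yq136 : type_of% yq132 := (let yq137 : type_of% yq132 := %[0, 0, 0, 0, 0, 0, 0 | yq132];
  %[0, 0, 0, 0, 0, 0 | yq137]);
  (let yq138 : type_of% yq136 := %[0, 0, 0, 0, 0, 0 | yq136];
  %[0, 0, 0, 0, 0, 0 | yq138]))), (let yq139 : List ℤ := (let yq140 : List ℤ := (let yq141 : List ℤ := (let yq142 : List ℤ := %[1, 1, 1, 1 | []];
  %[-1, -1, 0, 2 | yq142]);
  (let yq143 : type_of% yq141 := %[-4, -4, -4, -1 | yq141];
  %[-3, -4, -6, -4 | yq143]));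
  (let yq144 : type_of% yq140 := (let yq145 : type_of% yq140 := %[-1, -1, -3, -3 | yq140];
  %[0, 0, -1, -1 | yq145]);
  (let yq146 : type_of% yq144 := %[0, 0, 0, 0 | yq144];
  %[0, 0, 0, 0 | yq146])));
  (let yq147 : type_of% yq139 := (let yq148 : type_of% yq139 := (let yq149 : type_of% yq139 := %[0, 0, 0, 0 | yq139];
  %[0, 0, 0, 0 | yq149]);
  (let yq150 : type_of% yq148 := %[0, 0, 0, 0 | yq148];
  %[0, 0, 0, 0 | yq150]));
  (let yq151 : type_of% yq147 := (let yq152 : type_of% yq147 := %[0, 0, 0, 0 | yq147];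
  %[0, 0, 0, 0 | yq152]);
  (let yq153 : type_of% yq151 := %[0, 0, 0, 0 | yq151];
  %[0, 0, 0, 0 | yq153])))), (let yq154 : List ℤ := (let yq155 : List ℤ := (let yq156 : List ℤ := (let yq157 : List ℤ := %[-1, -1, -1, 0, 1 | []];
  %[-4, -4, -4, -3 | yq157]);
  (let yq158 : type_of% yq156 := %[-4, -4, -4, -5, -6 | yq156];
  %[-1, -1, -1, -2 | yq158]));
  (let yq159 : type_of% yq155 := (let yq160 : type_of% yq155 := %[0, 0, 0, 0, 0 | yq155];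
  %[0, 0, 0, 0 | yq160]);
  (let yq161 : type_of% yq159 := %[0, 0, 0, 0 | yq159];
  %[0, 0, 0, 0 | yq161])));
  (let yq162 : type_of% yq154 := (let yq163 : type_of% yq154 := (let yq164 : type_of% yq154 := %[0, 0, 0, 0, 0 | yq154];
  %[0, 0, 0, 0 | yq164]);
  (let yq165 : type_of% yq163 := %[0, 0, 0, 0 | yq163];
  %[0, 0, 0, 0 | yq165]));
  (let yq166 : type_of% yq162 := (let yq167 : type_of% yq162 := %[0, 0, 0, 0, 0 | yq162];
  %[0, 0, 0, 0 | yq167]);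
  (let yq168 : type_of% yq166 := %[0, 0, 0, 0 | yq166];
  %[0, 0, 0, 0 | yq168])))), (let yq169 : List ℤ := (let yq170 : List ℤ := (let yq171 : List ℤ := (let yq172 : List ℤ := %[0, 0, 0, 0, -1 | []];
  %[0, 0, 0, 0 | yq172]);
  (let yq173 : type_of% yq171 := %[0, 0, 0, 0, 0 | yq171];
  %[0, 0, 0, 0 | yq173]));
  (let yq174 : type_of% yq170 := (let yq175 : type_of% yq170 := %[0, 0, 0, 0, 0 | yq170];
  %[0, 0, 0, 0 | yq175]);
  (let yq176 : type_of% yq174 := %[0, 0, 0, 0 | yq174];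
  %[0, 0, 0, 0 | yq176])));
  (let yq177 : type_of% yq169 := (let yq178 : type_of% yq169 := (let yq179 : type_of% yq169 := %[0, 0, 0, 0, 0 | yq169];
  %[0, 0, 0, 0 | yq179]);
  (let yq180 : type_of% yq178 := %[0, 0, 0, 0 | yq178];
  %[0, 0, 0, 0 | yq180]));
  (let yq181 : type_of% yq177 := (let yq182 : type_of% yq177 := %[0, 0, 0, 0, 0 | yq177];
  %[0, 0, 0, 0 | yq182]);
  (let yq183 : type_of% yq181 := %[0, 0, 0, 0 | yq181];
  %[0, 0, 0, 0 | yq183]))))] : List (List ℤ)).getD c []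

theorem lam_ok8 : ∀ c, pEq (pMul (lam8 c) (c8.nu 0)) (pMul (TabE8c.kk c) (c8.nu c)) = true := by
  (simp only [Cfsg.Agent.H996.Eight.Kq.pEq_eq]; decide +kernel)

/-- degree `1*q^6*P3^3*P6^3*P7*P9*P12^2*P14*P15*P18*P24*P30 / 1` (`Pn` the cyclotomic polynomials) -/
def c567 : Crt 26 where
  th := (beta% delta% lq26b4cda9c8 fun a b _ =>
 (a (-1)<|a (-1)<|a 0<|a 0<|a (-1)<|a 0<|a 1<|a 1<|a 0<|a 2<|a 1<|a 1<|a 1<|a 1<|b))
  nu c := ([(let yq184 : List ℤ := (let yq185 : List ℤ := (let yq186 : List ℤ := (let yq187 : List ℤ := %[2, 2, 2, 1 | []];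
  %[4, 4, 4, 3 | yq187]);
  %[2, 3, 4, 4, 4, 5, 5 | yq186]);
  (let yq188 : type_of% yq185 := %[0, 0, 0, 0, 1, 2, 2 | yq185];
  %[0, 0, 0, 0, 0, 0, 0 | yq188]));
  (let yq189 : type_of% yq184 := (let yq190 : type_of% yq184 := (let yq191 : type_of% yq184 := %[0, 0, 0, 0 | yq184];
  %[0, 0, 0, 0 | yq191]);
  %[0, 0, 0, 0, 0, 0, 0 | yq190]);
  (let yq192 : type_of% yq189 := %[0, 0, 0, 0, 0, 0, 0 | yq189];
  %[0, 0, 0, 0, 0, 0, 0 | yq192]))), (let yq193 : List ℤ := (let yq194 : List ℤ := (let yq195 : List ℤ := %[1, 0, 2, 1, 1, 1, 1 | []];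
  %[-1, -1, 0, 0, -1, 0, 1 | yq195]);
  (let yq196 : type_of% yq194 := %[0, 0, 0, 0, 0, 0, 0 | yq194];
  %[0, 0, 0, 0, 0, 0 | yq196]));
  (let yq197 : type_of% yq193 := (let yq198 : type_of% yq193 := %[0, 0, 0, 0, 0, 0, 0 | yq193];
  %[0, 0, 0, 0, 0, 0 | yq198]);
  (let yq199 : type_of% yq197 := %[0, 0, 0, 0, 0, 0, 0 | yq197];
  %[0, 0, 0, 0, 0, 0 | yq199]))), (let yq200 : List ℤ := (let yq201 : List ℤ := (let yq202 : List ℤ := %[-1, -1, 0, -1, -2, -1 | []];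
  %[0, 0, 0, 0, 1, 1 | yq202]);
  (let yq203 : type_of% yq201 := %[0, 0, 0, 0, 0, 0 | yq201];
  %[0, 0, 0, 0, 0 | yq203]));
  (let yq204 : type_of% yq200 := (let yq205 : type_of% yq200 := %[0, 0, 0, 0, 0, 0 | yq200];
  %[0, 0, 0, 0, 0 | yq205]);
  (let yq206 : type_of% yq204 := %[0, 0, 0, 0, 0, 0 | yq204];
  %[0, 0, 0, 0, 0 | yq206]))), (let yq207 : List ℤ := (let yq208 : List ℤ := (let yq209 : List ℤ := %[0, -2, 0, 0, 0, 0, 1 | []];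
  %[-1, -1, 0, -2, -1, -1 | yq209]);
  (let yq210 : type_of% yq208 := %[0, 0, 0, 0, 1, 0 | yq208];
  %[0, 0, 0, 0, 0, 0 | yq210]));
  (let yq211 : type_of% yq207 := (let yq212 : type_of% yq207 := %[0, 0, 0, 0, 0, 0 | yq207];
  %[0, 0, 0, 0, 0, 0 | yq212]);
  (let yq213 : type_of% yq211 := %[0, 0, 0, 0, 0, 0 | yq211];
  %[0, 0, 0, 0, 0, 0 | yq213]))), (let yq214 : List ℤ := (let yq215 : List ℤ := (let yq216 : List ℤ := %[1, 2, -2, 0, 0, -1 | []];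
  %[0, -1, 1, 1, 0 | yq216]);
  (let yq217 : type_of% yq215 := %[0, 0, 0, 0, 0, 0 | yq215];
  %[0, 0, 0, 0, 0 | yq217]));
  (let yq218 : type_of% yq214 := (let yq219 : type_of% yq214 := %[0, 0, 0, 0, 0, 0 | yq214];
  %[0, 0, 0, 0, 0 | yq219]);
  (let yq220 : type_of% yq218 := %[0, 0, 0, 0, 0 | yq218];
  %[0, 0, 0, 0, 0 | yq220]))), (let yq221 : List ℤ := (let yq222 : List ℤ := (let yq223 : List ℤ := %[1, 0, 1, 0, -1 | []];
  %[0, 0, -1, 0, 2 | yq223]);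
  (let yq224 : type_of% yq222 := %[0, 0, 0, 0, 0 | yq222];
  %[0, 0, 0, 0, 0 | yq224]));
  (let yq225 : type_of% yq221 := (let yq226 : type_of% yq221 := %[0, 0, 0, 0, 0 | yq221];
  %[0, 0, 0, 0, 0 | yq226]);
  (let yq227 : type_of% yq225 := %[0, 0, 0, 0, 0 | yq225];
  %[0, 0, 0, 0, 0 | yq227]))), (let yq228 : List ℤ := (let yq229 : List ℤ := (let yq230 : List ℤ := %[1, 0, 1, 0, -1 | []];
  %[0, 0, -1, 0, 2 | yq230]);
  (let yq231 : type_of% yq229 := %[0, 0, 0, 0, 0 | yq229];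
  %[0, 0, 0, 0, 0 | yq231]));
  (let yq232 : type_of% yq228 := (let yq233 : type_of% yq228 := %[0, 0, 0, 0, 0 | yq228];
  %[0, 0, 0, 0, 0 | yq233]);
  (let yq234 : type_of% yq232 := %[0, 0, 0, 0, 0 | yq232];
  %[0, 0, 0, 0, 0 | yq234]))), (let yq235 : List ℤ := (let yq236 : List ℤ := (let yq237 : List ℤ := %[1, 0, 0, 1, 1 | []];
  %[-2, -1, 0, -1, 0 | yq237]);
  (let yq238 : type_of% yq236 := %[0, 0, 0, 0, -1 | yq236];
  %[0, 0, 0, 0, 0 | yq238]));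
  (let yq239 : type_of% yq235 := (let yq240 : type_of% yq235 := %[0, 0, 0, 0, 0 | yq235];
  %[0, 0, 0, 0, 0 | yq240]);
  (let yq241 : type_of% yq239 := %[0, 0, 0, 0, 0 | yq239];
  %[0, 0, 0, 0 | yq241]))), (let yq242 : List ℤ := (let yq243 : List ℤ := (let yq244 : List ℤ := %[-1, 0, -1, 2, 1 | []];
  %[0, 1, -1, -2 | yq244]);
  (let yq245 : type_of% yq243 := %[0, 0, 0, 0, 0 | yq243];
  %[0, 0, 0, 0 | yq245]));
  (let yq246 : type_of% yq242 := (let yq247 : type_of% yq242 := %[0, 0, 0, 0, 0 | yq242];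
  %[0, 0, 0, 0 | yq247]);
  (let yq248 : type_of% yq246 := %[0, 0, 0, 0 | yq246];
  %[0, 0, 0, 0 | yq248]))), (let yq249 : List ℤ := (let yq250 : List ℤ := (let yq251 : List ℤ := %[-1, -2, -1, -1, -1, -1 | []];
  %[-2, -2, -1, -3, -2, -2 | yq251]);
  (let yq252 : type_of% yq250 := %[0, -1, -1, -2, 0, -2 | yq250];
  %[0, -1, 0, 0, 0, -1 | yq252]));
  (let yq253 : type_of% yq249 := (let yq254 : type_of% yq249 := %[0, 0, 0, 0, 0, 0 | yq249];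
  %[0, 0, 0, 0, 0, 0 | yq254]);
  (let yq255 : type_of% yq253 := %[0, 0, 0, 0, 0, 0 | yq253];
  %[0, 0, 0, 0, 0, 0 | yq255]))), (let yq256 : List ℤ := (let yq257 : List ℤ := (let yq258 : List ℤ := %[-3, -3, 0, 2, 1 | []];
  %[0, 1, 2, 0 | yq258]);
  (let yq259 : type_of% yq257 := %[0, 0, 0, 0 | yq257];
  %[0, 0, 0, 0 | yq259]));
  (let yq260 : type_of% yq256 := (let yq261 : type_of% yq256 := %[0, 0, 0, 0 | yq256];
  %[0, 0, 0, 0 | yq261]);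
  (let yq262 : type_of% yq260 := %[0, 0, 0, 0 | yq260];
  %[0, 0, 0, 0 | yq262]))), (let yq263 : List ℤ := (let yq264 : List ℤ := (let yq265 : List ℤ := %[0, 1, 0, 0, 1 | []];
  %[0, -1, 1, 0, -1 | yq265]);
  (let yq266 : type_of% yq264 := %[0, 1, -1, 0, 0 | yq264];
  %[0, 0, 0, 0 | yq266]));
  (let yq267 : type_of% yq263 := (let yq268 : type_of% yq263 := %[0, 0, 0, 0, 0 | yq263];
  %[0, 0, 0, 0, 0 | yq268]);
  (let yq269 : type_of% yq267 := %[0, 0, 0, 0, 0 | yq267];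
  %[0, 0, 0, 0 | yq269]))), (let yq270 : List ℤ := (let yq271 : List ℤ := (let yq272 : List ℤ := %[0, 1, 0, 0, 1 | []];
  %[0, -1, 1, 0, -1 | yq272]);
  (let yq273 : type_of% yq271 := %[0, 1, -1, 0, 0 | yq271];
  %[0, 0, 0, 0 | yq273]));
  (let yq274 : type_of% yq270 := (let yq275 : type_of% yq270 := %[0, 0, 0, 0, 0 | yq270];
  %[0, 0, 0, 0, 0 | yq275]);
  (let yq276 : type_of% yq274 := %[0, 0, 0, 0, 0 | yq274];
  %[0, 0, 0, 0 | yq276]))), (let yq277 : List ℤ := (let yq278 : List ℤ := (let yq279 : List ℤ := %[1, 0, -1, 2, -1 | []];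
  %[0, 1, -2, -2 | yq279]);
  (let yq280 : type_of% yq278 := %[0, 0, -1, 2, -1 | yq278];
  %[0, 0, 0, 0 | yq280]));
  (let yq281 : type_of% yq277 := (let yq282 : type_of% yq277 := %[0, 0, 0, 0, 0 | yq277];
  %[0, 0, 0, 0 | yq282]);
  (let yq283 : type_of% yq281 := %[0, 0, 0, 0 | yq281];
  %[0, 0, 0, 0 | yq283]))), (beta% delta% lq26b4cda9c8 fun a b _ =>
 (a 0<|a 0<|a 0<|a 0<|a 0<|a 0<|a 0<|a 0<|a 0<|a 0<|a 0<|a 0<|a 0<|a 0<|a 0<|a 0<|a 0<|a 0<|a 0<|a 0<|a 0<|a 0<|a 0<|a 1<|a 2<|a (-1)<|a 0<|a (-1)<|a (-2)<|a (-1)<|a 1<|b) :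
 List ℤ), (let yq284 : List ℤ := (let yq285 : List ℤ := (let yq286 : List ℤ := %[0, 0, 0, -1, 1 | []];
  %[-1, 0, 1, -1 | yq286]);
  (let yq287 : type_of% yq285 := %[0, 0, 1, 0 | yq285];
  %[0, 0, 0, 1 | yq287]));
  (let yq288 : type_of% yq284 := (let yq289 : type_of% yq284 := %[0, 0, 0, 0, 0 | yq284];
  %[0, 0, 0, 0 | yq289]);
  (let yq290 : type_of% yq288 := %[0, 0, 0, 0 | yq288];
  %[0, 0, 0, 0 | yq290]))), (let yq291 : List ℤ := (let yq292 : List ℤ := (let yq293 : List ℤ := %[0, 0, 0, -1, 1 | []];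
  %[-1, 0, 1, -1 | yq293]);
  (let yq294 : type_of% yq292 := %[0, 0, 1, 0 | yq292];
  %[0, 0, 0, 1 | yq294]));
  (let yq295 : type_of% yq291 := (let yq296 : type_of% yq291 := %[0, 0, 0, 0, 0 | yq291];
  %[0, 0, 0, 0 | yq296]);
  (let yq297 : type_of% yq295 := %[0, 0, 0, 0 | yq295];
  %[0, 0, 0, 0 | yq297]))), (beta% delta% lq26b4cda9c8 fun a b _ =>
 (a 0<|a 0<|a 0<|a 0<|a 0<|a 0<|a 0<|a 0<|a 0<|a 0<|a 0<|a 0<|a 0<|a 0<|a 0<|a 0<|a 0<|a 0<|a (-1)<|a 0<|a 1<|a 0<|a 1<|a 2<|a 0<|a (-1)<|b) :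
 List ℤ), (beta% delta% lq26b4cda9c8 fun a b _ =>
 (a 0<|a 0<|a 0<|a 0<|a 0<|a 0<|a 0<|a 0<|a 0<|a 0<|a 0<|a 0<|a 0<|a 0<|a 0<|a 0<|a 0<|a 0<|a (-1)<|a 0<|a 1<|a 0<|a 1<|a 2<|a 0<|a (-1)<|b) :
 List ℤ), (beta% delta% lq26b4cda9c8 fun a b _ =>
 (a 0<|a 0<|a 0<|a 0<|a 0<|a 0<|a 0<|a 0<|a 0<|a 0<|a 0<|a 0<|a 0<|a 0<|a 0<|a 0<|a 0<|a 0<|a 0<|a 1<|a 1<|a 0<|a 0<|a 1<|a 0<|a (-1)<|a 0<|a (-1)<|a (-2)<|a (-1)<|b) :
 List ℤ), (beta% delta% lq26b4cda9c8 fun a b _ =>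
 (a 0<|a 0<|a 0<|a 0<|a 0<|a 0<|a 0<|a 0<|a 0<|a 0<|a 0<|a 0<|a 0<|a 0<|a 0<|a (-1)<|a 0<|a 0<|a (-2)<|a 2<|a 1<|a 0<|a 1<|a 1<|a (-1)<|b) :
 List ℤ), (beta% delta% lq26b4cda9c8 fun a b _ =>
 (a 0<|a 0<|a 0<|a 0<|a 0<|a 0<|a 0<|a 0<|a 0<|a 0<|a 0<|a 0<|a 0<|a (-1)<|a (-2)<|a (-1)<|a 0<|a (-1)<|a (-1)<|a 1<|a 1<|b) :
 List ℤ), (let yq298 : List ℤ := (let yq299 : List ℤ := (let yq300 : List ℤ := %[-1, 0, 0, 0, -1 | []];
  %[-2, -1, -1, 0 | yq300]);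
  (let yq301 : type_of% yq299 := %[-2, -2, -2, 0 | yq299];
  %[-2, -2, -3, -1 | yq301]));
  (let yq302 : type_of% yq298 := (let yq303 : type_of% yq298 := %[-1, -1, -2, -1 | yq298];
  %[0, 0, -1, -1 | yq303]);
  (let yq304 : type_of% yq302 := %[0, 0, 0, 0 | yq302];
  %[0, 0, 0, 0 | yq304]))), (beta% delta% lq26b4cda9c8 fun a b _ =>
 (a 0<|a 0<|a 0<|a 0<|a 0<|a 0<|a 0<|a 0<|a 0<|a 1<|a 0<|a 0<|a 0<|a 0<|a (-2)<|a 0<|a (-1)<|a (-1)<|a (-2)<|a 0<|a (-1)<|a (-1)<|a 0<|a 1<|b) :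
 List ℤ), (beta% delta% lq26b4cda9c8 fun a b _ =>
 (a 0<|a 0<|a 0<|a 0<|a 0<|a 1<|a 1<|a 1<|a 1<|a 2<|a 0<|a 1<|a 1<|a 0<|a (-1)<|a 0<|a 0<|a (-1)<|a (-1)<|b) :
 List ℤ), (beta% delta% lq26b4cda9c8 fun a b _ =>
 (a 1<|a 2<|a 2<|a 2<|a 3<|a 4<|a 4<|a 4<|a 5<|a 5<|a 4<|a 4<|a 4<|a 3<|a 2<|a 2<|a 2<|a 1<|b) :
 List ℤ)] : List (List ℤ)).getD c []
  steps := []
  dn := (let yq305 : List ℤ := (let yq306 : List ℤ := (let yq307 : List ℤ := (let yq308 : List ℤ := %[2, 0, 1, 0, 1 | []];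
  %[0, 5, 0, 3, 0 | yq308]);
  (let yq309 : type_of% yq307 := %[11, 0, 9, 0, 7 | yq307];
  %[17, 0, 15, 0 | yq309]));
  (let yq310 : type_of% yq306 := (let yq311 : type_of% yq306 := %[0, 23, 0, 21, 0 | yq306];
  %[31, 0, 29, 0, 26 | yq311]);
  (let yq312 : type_of% yq310 := %[0, 34, 0, 32, 0 | yq310];
  %[0, 34, 0, 33 | yq312])));
  (let yq313 : type_of% yq305 := (let yq314 : type_of% yq305 := (let yq315 : type_of% yq305 := %[29, 0, 31, 0, 32 | yq305];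
  %[0, 23, 0, 26, 0 | yq315]);
  (let yq316 : type_of% yq314 := %[15, 0, 17, 0, 21 | yq314];
  %[9, 0, 11, 0 | yq316]));
  (let yq317 : type_of% yq313 := (let yq318 : type_of% yq313 := %[0, 5, 0, 7, 0 | yq313];
  %[0, 2, 0, 3 | yq318]);
  (let yq319 : type_of% yq317 := %[0, 0, 1, 0, 1 | yq317];
  %[0, 0, 0, 0 | yq319]))))
  den := 1

theorem ok567 : ok1 c567 0 TabE8c.bb TabE8c.kk := by
  delta H996.PQ.ok1
  simp only [H996.Eight.Kq.pEq_eq, H996.Eight.Kq.pZero_eq, H996.Eight.Kq.pPos_eq]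
  decide +kernel

theorem dvd567 : pDvd c567.den c567.dn := by decide +kernel

/-- x-adic certificate -/
def xc567 : XC where
  X := 0x1000000
  L := 41
  b := 14
  bm := 54
  rk := (beta% delta% lq26b4cda9c8 fun a b _ =>
 (a 0<|a 1<|a 9<|a 4<|a 12<|a 17<|a 6<|a 3<|a 7<|a 15<|a 19<|a 8<|a 2<|a 13<|a 16<|a 5<|a 18<|a 14<|a 10<|a 20<|a 11<|a 23<|a 22<|a 21<|a 0<|a 24<|b))
  sh := (beta% delta% lq26b4cda9c8 fun a b _ =>
 (a 0<|a 0<|a 0<|a 0<|a 0<|a 1<|a 0<|a 0<|a 0<|a 1<|a 3<|a 0<|a 0<|a 0<|a 1<|a 0<|a 2<|a 1<|a 0<|a 9<|a 0<|a 20<|a 15<|a 15<|a 0<|a 40<|b))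
  w := (beta% delta% lq26b4cda9c8 fun a b _ =>
 (a b<|a (a 0<|a 0<|a 2<|b)<|a (a 0<|a 0<|a 0<|a 0<|a 0<|a 0<|a 2<|b)<|a (a 0<|a 0<|a 0<|a 0<|a 0<|a 0<|a 0<|a 0<|a 0<|a 2<|b)<|a (a 0<|a 0<|a 0<|a 0<|a 0<|a 0<|a 0<|a 2<|b)<|a (a 0<|a 0<|a 0<|a 0<|a 0<|a 0<|a 0<|a 65537<|a 0<|a 0<|a 0<|a 0<|a 0<|a 2<|a 0<|a 0<|a 0<|a 16384<|a 0<|a 16384<|a 32768<|b)<|a (a 0<|a 0<|a 0<|a 0<|a 0<|a 0<|a 0<|a 0<|a 0<|a 0<|a 2<|b)<|a (a 0<|a 0<|a 0<|a 0<|a 0<|a 0<|a 0<|a 0<|a 0<|a 0<|a 0<|a 0<|a 0<|a 0<|a 0<|a 0<|a 2<|b)<|a (a 0<|a 0<|a 0<|a 0<|a 0<|a 0<|a 0<|a 0<|a 0<|a 0<|a 0<|a 0<|a 0<|a 0<|a 0<|a 0<|a 0<|a 0<|a 2<|b)<|a (a 0<|a 0<|a 0<|a 0<|a 0<|a 2<|a 0<|a 16384<|a 0<|a 1<|b)<|a (a 0<|a 0<|a 0<|a 0<|a 0<|a 0<|a 0<|a 536887296<|a 0<|a 0<|a 8796898394113<|a 0<|a 4398046543872<|a 0<|a 2<|a 0<|a 0<|a 16384<|a 16384<|a 16384<|a 536903680<|a 4398046511104<|b)<|a (a 0<|a 0<|a 0<|a 0<|a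 0<|a 0<|a 0<|a 0<|a 0<|a 0<|a 0<|a 0<|a 0<|a 0<|a 0<|a 2<|b)<|a (a 0<|a 0<|a 0<|a 0<|a 0<|a 0<|a 0<|a 0<|a 0<|a 0<|a 0<|a 0<|a 0<|a 0<|a 0<|a 0<|a 0<|a 0<|a 0<|a 2<|b)<|a (a 0<|a 0<|a 0<|a 0<|a 0<|a 0<|a 0<|a 0<|a 0<|a 0<|a 0<|a 0<|a 0<|a 0<|a 0<|a 0<|a 0<|a 0<|a 0<|a 0<|a 2<|b)<|a (a 0<|a 0<|a 0<|a 0<|a 0<|a 0<|a 0<|a 0<|a 0<|a 0<|a 0<|a 0<|a 0<|a 0<|a 0<|a 0<|a 0<|a 2<|a 0<|a 0<|a 49153<|b)<|a (a 0<|a 0<|a 0<|a 0<|a 0<|a 0<|a 0<|a 0<|a 0<|a 0<|a 0<|a 0<|a 0<|a 0<|a 0<|a 0<|a 0<|a 0<|a 0<|a 0<|a 0<|a 0<|a 2<|b)<|a (a 0<|a 0<|a 0<|a 0<|a 0<|a 0<|a 0<|a 268468225<|a 0<|a 0<|a 0<|a 0<|a 2<|a 0<|a 0<|a 0<|a 0<|a 536887296<|a 0<|a 536887296<|a 32768<|b)<|a (a 0<|a 0<|a 0<|a 0<|a 0<|a 0<|a 0<|a 0<|a 0<|a 0<|a 0<|a 0<|a 0<|a 0<|a 0<|a 0<|a 0<|a 0<|a 0<|a 0<|a 0<|a 0<|a 32769<|a 2<|b)<|a (a 0<|a 0<|a 0<|a 0<|a 0<|a 0<|a 0<|a 0<|a 0<|a 0<|a 0<|a 0<|a 0<|a 0<|a 0<|a 0<|a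 0<|a 0<|a 0<|a 0<|a 0<|a 2<|b)<|a (a 0<|a 0<|a 0<|a 0<|a 0<|a 0<|a 0<|a 3232781145093829358055967693235487277057<|a 2<|a 0<|a 5870088914411198007040920259661821657088<|a 0<|a 1276058877538121173899313313061676253184<|a 85080976640903021204385735756413403136<|a 2041720167446739250788297968963859513344<|a 0<|a 255222160101333568490436987658071703552<|a 510459896776426804291751823641558384640<|a 680621849107417524096304278251172265984<|a 850731878786735548042812019706492354560<|a 510485860479166060810484350689092829184<|a 170167144944781248682943790264325505024<|a 170161952647903371042201425701200986112<|a 255227352081279452080416547062813818880<|a 170141183460469231731687303715884105728<|b)<|a (a 0<|a 0<|a 0<|a 0<|a 0<|a 0<|a 0<|a 0<|a 0<|a 0<|a 0<|a 0<|a 0<|a 0<|a 0<|a 0<|a 0<|a 0<|a 0<|a 0<|a 0<|a 0<|a 0<|a 0<|a 2<|b)<|a (a 0<|a 0<|a 233128685702021037552990997278580290399204927412944654360116652567562992201033542828033<|a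 328330489553718828513668155062427887756395014903430561908911113978520432698924149538816<|a 2<|a 93262217786403646697644888492262742316771937594952890305744713842527526168173035405312<|a 101023644317421835972096008680426783876482169618945587513585345198723879928984418402304<|a 139886745310502258331901955092751897513783745655459208490485127253521725102486580117504<|a 124341481796856291980354203149420944230406181321973619443434060160099495816030507270144<|a 161256103819773149884103115061086369018394313158005472185562199607823195205991026147328<|a 324438036432237078117583768647041671808036130731576050439529129001092907053012331003904<|a 260328067240723785943493494878350047360014331046745141842205914186630769035160437424128<|a 186506412136050395290641596527668815503436629126512355196960151818649476544301744816128<|a 398254594260603943202116434895921672083538089487688162483066017536111359514507978227712<|a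 112675270040727691727521687250913477736939273961271894595195532308965898940589772111872<|a 50510221224516165388192250955930584616436266561912738747322407049370934855590798688256<|a 85477787036366800342507741198118689290399646971263056266962834817592957877507453878272<|a 60224632847250680427410943997697368986002244588773395571246834953243183286347056021504<|a 95192672856653881131266538171947471906535798640665400447033631790833328313106144690176<|a 3885693512223606331855789451659357628623727405155919973521424538108078880533812084736<|a 7771505610021486334575737371118718490796542671165882055802820459660088385891555344384<|a 13598919402254197863887462371636770327877707214878451924039855741536312370373293244416<|a 11656606237800616982988157212373841414845416262615698806138471179796632666442729259008<|a 9713818767238945007756921879696549638595281329069287245501301516996616729706115366912<|a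 237142198758023568227473377297792835283496928595231875152809132048206089502588928<|b)<|a (a 0<|a 0<|a 78988537642624218383805195228125460239006776923546406140833202177<|a 2<|a 0<|a 519995208536350627359989224755490023043784658061051827968937050112<|a 106963219905379721342366904517937100826677603248008283206268747776<|a 903402691345744838756007365029139988731688980053971747268322131968<|a 819500138904724112823608580617874792886170964649780662535114981376<|a 536458892039090050424047879560178291711740699346767752826049282048<|a 498624440664394662963571564766948182962912025877156492776761720832<|a 528229661801114369581424571018950557370063683416901980223659081728<|a 459112042212327725271023463065074599153531621579745619328614039552<|a 82280651937919402931762744804375369569431079068867545710270103552<|a 325829286996083154511232398269003487338226587430622665285348360192<|a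 62531282456033284255092593636319747164231847823761982541701054464<|a 87215759024128647271101766503530336273318114079802343015835500544<|a 27975184516719696713190685344464755017844566099793561071705391104<|a 151392545970050340455039648500597208907829482174731366705263542272<|a 23037565995155644178484897152690316117476537245205501164579192832<|a 18101554509722300077387140289505700539739296989953319065733824512<|a 36202205055492263781497135560080808236631545364849840537412304896<|a 1645504557321206042154969182557350504982735865633579863348609024<|a 3291109548270178271202159737745472332628129368954271151249424384<|a 3291009114642412084309938365114701009965471731267159726697218048<|b)<|a (a 0<|a 0<|a 0<|a 0<|a 0<|a 75696825406762828459917363892230022786140071775843082347613290496<|a 0<|a 1305649431026655850188894937930536220489083802573772349784064<|a 67471210865208725911443776024872218350987648713627166156586483712<|a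 21392463190737320210569260207968815266061079223381116050353422337<|a 6584227805877818355904651479274522921343705635955948574209998848<|a 2<|a 55948360275057584663478204577954419535666972362030265653455224834<|a 74048207265986416872800360018310912748782023340122134881203388417<|a 42783721098250181338713238050475685604875858356546129191447298048<|a 16456250789008212237883352949668835689192407861993807419598176256<|a 13164639060336245595610254162731672815674163646536885533675618304<|a 18101654943351188743210152013960244454659353033106081644447531008<|a 4936614111722114879841601040868713553018519881300869244604383232<|a 6582018235416302909760059008251030701800881670821403617052852224<|a 8227723666121526911489187288206071175803391768963419904388628480<|a 11518732786894669470934169829052638889575102786332137378333851648<|a 1645805870464468929758744167316440690173182247644827114474045440<|a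 3291410855283458995342379289071174409217339016490561913640452096<|a 3291209981897944458094381110376243655290787006641382575801630720<|b)<|a (a 0<|a 0<|a 0<|a 0<|a 0<|a 0<|a 0<|a 0<|a 0<|a 0<|a 0<|a 0<|a 0<|a 0<|a 0<|a 0<|a 0<|a 0<|a 0<|a 0<|a 0<|a 0<|a 0<|a 0<|a 0<|a 2<|b)<|a (a 0<|a 2<|a 9475979229598438482036540232229378919311627579230392483012840454054209004434377963600770237983795910022270772469133329665531260679637530172906160629951783345395262019387392<|a 22725282987807265013102093280309684031599761094035367421371503678287386686498669151286905829559901410016561733570279828645935862793133226120169290229405557513092115799736320<|a 55742810103837464750263543276201676122894353557974967018746548305364513041695287086938648983173892399479883618692877246783419603316606440154729920160532566386260216249319424<|a 54055723827977467374463255165323269039584640316549258380019911792294052958439148376935071075963583929842756524719671341679519516071425416819969442507118858320511744178388992<|a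 54055723827977467374463255165323269039584640316549258380019911792294052958439148376935071075963583929842756524719671341679519516071425416819969442507118858320511744178388992<|a 51337763779419968008223062507244890033314338592378818771489801735464545874333512921978115801987947299755338447742170206645388566003877361957946628011734702274948641331347456<|a 56981106951837368983803575312835243332103021292400896156592291240127905160086783286637356237617494132847294681747388357606389912746059130440355799684061390041084900929437696<|a 41284165069567810749242950150726158100110413415147547453688973406645316972038104012079885781201697042575212016432458144593307159960220237437982653764036300911350728739520512<|a 13677297983283615074836018248798751738032088991213054061867036949652719096573699153905623109013425642611600649484994386714533144948014430194720908296060446172778980179968000<|a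 40254063804697781462820562154302780291840628904750086373898703651188259499273142482819816268252943938564906473225600852875244238206430691092495075301839318669744836779704320<|a 40254063804697781462820562154302780291840628904750086373898703651188259499273142482819816268252943938564906473225600852875244238206430691092495075301839318669744836779704320<|a 44492769772785186866212602537849380095318625921536001775631391572297387258087472942064821479902194613948685857381126592962600913871756483512190327608042820809296491761893376<|a 5299026783008412404437905533568781742580104141688227046274775304239997240628003485607501024288478650162738422546717831136086744888000923512119166478098293668653554122883072<|a 3351554367337941932511473009184047076401990802088443789353804488370836085198095345896040748421910630969565279366208737323587932585279251137085689514860274628710249422389248<|a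 3351554367337941932511473009184047076401990802088443789353804488370836085198095345896040748421910630969565279366208737323587932585279251137085689514860274628710249422389248<|a 3430893963773094667007049251857613443935405436831965469027005659104508434301648364527268214822106381224186920160551149139288875498000818619569160092708818573429717981986816<|a 3430893963773094667007049251857613443935405436831965469027005659104508434301648364527268214822106381224186920160551149139288875498000818619569160092708818573429717981986816<|a 939744746048816576799000392972501065700653230274362450408798149090512561461277717012060225063666882881742815997787923027685962911075897362082104670293062478281646238859264<|a 200091651131087209863295259614710464453379364963511417405156950185163726345652750982889883010379886352461395984109927767006646992915329020270948545696311536369758061461504<|a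 22661972992700770948396125445888825021085034856447671907356874601694389357873983752222271964169313400612672089849034995614685973177230130446752508841622345855722370105344<|a 1256744691629176371710498162800583902656284148583768012261129786851571054740063463965141765049677743953011979446214303204126357499226872609821949797472194971223811506044928<|a 1003882989825530497903674612082829152110272932250404554171552590105346147148905562405993497281681479286776184744287988636153165002479942541972231915178174723964732453158912<|a 256636124875069524146698567188888914140559123468905521715456301522353491393686481308892360807337722775737492548957035200534857818393283751626371004481907393926864501211136<|a 22644465582088090000794370252013710984615954368344216584712527943214912645254905696045094859511233921006796342149996924179236704165112656630966819404885428412628244365312<|b)<|b))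

theorem xc_ok567 : xc567.ok 0 (mpOf c567.th TabE8c.bb) = true := by
  delta XC.ok XC.row
  rw [H996.Eight.Kq.decA_fun, H996.Eight.Kq.decN_fun, H996.Eight.Kq.n1_eq]
  (first | (rewrite [Cfsg.Agent.KOd6452f9.e37, Cfsg.Agent.KOd6452f9.e38.{0}, Cfsg.Agent.KOd6452f9.e30, Cfsg.Agent.KOd6452f9.e11, Cfsg.Agent.KOd6452f9.e24, Cfsg.Agent.KOd6452f9.e27, Cfsg.Agent.KOd6452f9.e39, Cfsg.Agent.KOd6452f9.e41.{0}, Cfsg.Agent.KOd6452f9.e42.{0, 0}, Cfsg.Agent.KOd6452f9.e45, Cfsg.Agent.KOd6452f9.e46.{0}, Cfsg.Agent.KOd6452f9.e49, Cfsg.Agent.KOd6452f9.e51, Cfsg.Agent.KOd6452f9.e53, Cfsg.Agent.KOd6452f9.e54]; decide +kernel) | decide +kernel)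

theorem uq567 : Uq c567.th c567.nu 0 TabE8c.bb := uq_of_xok ok567 xc_ok567

/-- the eigenvalues of the double cosets -/
def lam567 (c : Fin 26) : List ℤ := ([[1], (beta% delta% lq26b4cda9c8 fun a b _ =>
 (a (-1)<|a (-1)<|a 0<|a 0<|a (-1)<|a 0<|a 1<|a 1<|a 0<|a 2<|a 1<|a 1<|a 1<|a 1<|b) :
 List ℤ), (beta% delta% lq26b4cda9c8 fun a b _ =>
 (a 0<|a 1<|a 0<|a 0<|a 1<|a 0<|a (-1)<|a (-1)<|a (-1)<|a (-3)<|a (-2)<|a (-2)<|a (-3)<|a (-2)<|a (-1)<|a (-1)<|a (-1)<|b) :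
 List ℤ), (beta% delta% lq26b4cda9c8 fun a b _ =>
 (a 0<|a 0<|a 0<|a 0<|a 1<|a 0<|a (-1)<|a (-1)<|a 0<|a (-2)<|a (-1)<|a (-1)<|a 0<|a (-2)<|a 0<|a 0<|a 0<|a 0<|a 1<|b) :
 List ℤ), (beta% delta% lq26b4cda9c8 fun a b _ =>
 (a 0<|a 0<|a 0<|a 0<|a (-1)<|a 0<|a 1<|a 1<|a 1<|a 5<|a 3<|a 2<|a 3<|a 4<|a (-1)<|a 0<|a 0<|a (-2)<|a (-3)<|a (-1)<|a (-1)<|a (-1)<|b) :
 List ℤ), (beta% delta% lq26b4cda9c8 fun a b _ =>
 (a 0<|a 0<|a 0<|a 0<|a 0<|a 0<|a 0<|a 0<|a 0<|a (-1)<|a 0<|a 1<|a 0<|a 1<|a 3<|a 2<|a 2<|a 4<|a 2<|a 1<|a 2<|a 1<|a (-1)<|a 0<|a 0<|a (-1)<|b) :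
 List ℤ), (beta% delta% lq26b4cda9c8 fun a b _ =>
 (a 0<|a 0<|a 0<|a 0<|a 0<|a 0<|a 0<|a 0<|a 0<|a (-1)<|a 0<|a 1<|a 0<|a 1<|a 3<|a 2<|a 2<|a 4<|a 2<|a 1<|a 2<|a 1<|a (-1)<|a 0<|a 0<|a (-1)<|b) :
 List ℤ), (beta% delta% lq26b4cda9c8 fun a b _ =>
 (a 0<|a 0<|a 0<|a 0<|a 0<|a 0<|a 0<|a 0<|a 0<|a (-1)<|a (-1)<|a 0<|a 0<|a (-1)<|a 1<|a 0<|a 0<|a 0<|a 1<|b) :
 List ℤ), (beta% delta% lq26b4cda9c8 fun a b _ =>
 (a 0<|a 0<|a 0<|a 0<|a 0<|a 0<|a 0<|a 0<|a 0<|a 1<|a 0<|a (-2)<|a (-2)<|a (-3)<|a (-6)<|a (-5)<|a (-4)<|a (-6)<|a (-3)<|a 0<|a 0<|a 1<|a 4<|a 3<|a 2<|a 3<|a 1<|b) :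
 List ℤ), (beta% delta% lq26b4cda9c8 fun a b _ =>
 (a 0<|a 0<|a 0<|a 0<|a 0<|a 0<|a 0<|a 0<|a 0<|a 0<|a 0<|a 0<|a (-1)<|a 1<|a 0<|a 0<|a 0<|a 0<|a (-1)<|b) :
 List ℤ), (beta% delta% lq26b4cda9c8 fun a b _ =>
 (a 0<|a 0<|a 0<|a 0<|a 0<|a 0<|a 0<|a 0<|a 0<|a 0<|a 0<|a 0<|a 1<|a 1<|a 1<|a 2<|a 1<|a 0<|a 0<|a (-1)<|a (-3)<|a (-2)<|a (-2)<|a (-3)<|a (-1)<|a 0<|a 0<|a 1<|a 2<|a 1<|a 1<|a 1<|b) :
 List ℤ), (beta% delta% lq26b4cda9c8 fun a b _ =>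
 (a 0<|a 0<|a 0<|a 0<|a 0<|a 0<|a 0<|a 0<|a 0<|a 0<|a 0<|a 0<|a 1<|a (-1)<|a 0<|a 0<|a 0<|a (-1)<|a 1<|a 0<|a (-1)<|a 0<|a 1<|a 0<|a 0<|a 1<|b) :
 List ℤ), (beta% delta% lq26b4cda9c8 fun a b _ =>
 (a 0<|a 0<|a 0<|a 0<|a 0<|a 0<|a 0<|a 0<|a 0<|a 0<|a 0<|a 0<|a 1<|a (-1)<|a 0<|a 0<|a 0<|a (-1)<|a 1<|a 0<|a (-1)<|a 0<|a 1<|a 0<|a 0<|a 1<|b) :
 List ℤ), (beta% delta% lq26b4cda9c8 fun a b _ =>
 (a 0<|a 0<|a 0<|a 0<|a 0<|a 0<|a 0<|a 0<|a 0<|a 0<|a 0<|a 0<|a (-1)<|a 1<|a 0<|a 0<|a 0<|a 1<|a (-4)<|a (-2)<|a (-1)<|a (-4)<|a (-4)<|a (-1)<|a (-2)<|a (-4)<|a 1<|a 0<|a 0<|a 0<|a 1<|a (-1)<|b) :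
 List ℤ), (let yq320 : List ℤ := (let yq321 : List ℤ := (let yq322 : List ℤ := %[-3, -2, -2, 0, 1 | []];
  %[-6, -4, -5, -6 | yq322]);
  (let yq323 : type_of% yq321 := %[4, 1, 0, 0, -3 | yq321];
  %[1, 3, 2, 3 | yq323]));
  (let yq324 : type_of% yq320 := (let yq325 : type_of% yq320 := %[0, 0, 0, 0, 0 | yq320];
  %[0, 0, 0, 0 | yq325]);
  (let yq326 : type_of% yq324 := %[0, 0, 0, 0 | yq324];
  %[0, 0, 0, 0 | yq326]))), (beta% delta% lq26b4cda9c8 fun a b _ =>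
 (a 0<|a 0<|a 0<|a 0<|a 0<|a 0<|a 0<|a 0<|a 0<|a 0<|a 0<|a 0<|a 0<|a 0<|a 0<|a 0<|a 0<|a 0<|a 1<|a 0<|a 0<|a 1<|a 0<|a (-1)<|a 0<|a 1<|a (-1)<|a 0<|a 0<|a 0<|a (-1)<|a 1<|b) :
 List ℤ), (beta% delta% lq26b4cda9c8 fun a b _ =>
 (a 0<|a 0<|a 0<|a 0<|a 0<|a 0<|a 0<|a 0<|a 0<|a 0<|a 0<|a 0<|a 0<|a 0<|a 0<|a 0<|a 0<|a 0<|a 1<|a 0<|a 0<|a 1<|a 0<|a (-1)<|a 0<|a 1<|a (-1)<|a 0<|a 0<|a 0<|a (-1)<|a 1<|b) :
 List ℤ), (let yq327 : List ℤ := (let yq328 : List ℤ := (let yq329 : List ℤ := %[1, 0, 1, 0, -1 | []];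
  %[4, 2, 2, 3 | yq329]);
  (let yq330 : type_of% yq328 := %[-1, 1, 2, 1, 2 | yq328];
  %[0, -1, 0, 0 | yq330]));
  (let yq331 : type_of% yq327 := (let yq332 : type_of% yq327 := %[0, 0, 0, 0, 0 | yq327];
  %[0, 0, 0, 0 | yq332]);
  (let yq333 : type_of% yq331 := %[0, 0, 0, 0 | yq331];
  %[0, 0, 0, 0 | yq333]))), (let yq334 : List ℤ := (let yq335 : List ℤ := (let yq336 : List ℤ := %[1, 0, 1, 0, -1 | []];
  %[4, 2, 2, 3 | yq336]);
  (let yq337 : type_of% yq335 := %[-1, 1, 2, 1, 2 | yq335];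
  %[0, -1, 0, 0 | yq337]));
  (let yq338 : type_of% yq334 := (let yq339 : type_of% yq334 := %[0, 0, 0, 0, 0 | yq334];
  %[0, 0, 0, 0 | yq339]);
  (let yq340 : type_of% yq338 := %[0, 0, 0, 0 | yq338];
  %[0, 0, 0, 0 | yq340]))), (let yq341 : List ℤ := (let yq342 : List ℤ := (let yq343 : List ℤ := %[-1, 0, 0, -1, -1 | []];
  %[0, 0, 0, 1 | yq343]);
  (let yq344 : type_of% yq342 := %[0, 0, 0, 0, 1 | yq342];
  %[0, 0, 0, 0 | yq344]));
  (let yq345 : type_of% yq341 := (let yq346 : type_of% yq341 := %[0, 0, 0, 0, 0 | yq341];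
  %[0, 0, 0, 0 | yq346]);
  (let yq347 : type_of% yq345 := %[0, 0, 0, 0 | yq345];
  %[0, 0, 0, 0 | yq347]))), (let yq348 : List ℤ := (let yq349 : List ℤ := (let yq350 : List ℤ := %[1, 1, 1, 0, -1 | []];
  %[4, 3, 2, 3, 5 | yq350]);
  (let yq351 : type_of% yq349 := %[-3, -2, 0, 0, -1 | yq349];
  %[0, 0, -1, -1, -1 | yq351]));
  (let yq352 : type_of% yq348 := (let yq353 : type_of% yq348 := %[0, 0, 0, 0, 0 | yq348];
  %[0, 0, 0, 0, 0 | yq353]);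
  (let yq354 : type_of% yq352 := %[0, 0, 0, 0, 0 | yq352];
  %[0, 0, 0, 0, 0 | yq354]))), (let yq355 : List ℤ := (let yq356 : List ℤ := (let yq357 : List ℤ := %[-1, 0, 1, 0, 0, 1 | []];
  %[-2, -2, -3, -1, -1 | yq357]);
  (let yq358 : type_of% yq356 := %[0, -1, -1, -1, -2, -3 | yq356];
  %[0, 0, 0, 0, 0 | yq358]));
  (let yq359 : type_of% yq355 := (let yq360 : type_of% yq355 := %[0, 0, 0, 0, 0, 0 | yq355];
  %[0, 0, 0, 0, 0 | yq360]);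
  (let yq361 : type_of% yq359 := %[0, 0, 0, 0, 0 | yq359];
  %[0, 0, 0, 0, 0 | yq361]))), (beta% delta% lq26b4cda9c8 fun a b _ =>
 (a 0<|a 0<|a 0<|a 0<|a 0<|a 0<|a 0<|a 0<|a 0<|a 0<|a 0<|a 0<|a 0<|a 0<|a 0<|a 0<|a 0<|a 0<|a 0<|a 0<|a 0<|a 0<|a 0<|a 0<|a 0<|a (-1)<|a 0<|a 0<|a 0<|a 0<|a 1<|a (-1)<|b) :
 List ℤ), (let yq362 : List ℤ := (let yq363 : List ℤ := (let yq364 : List ℤ := %[0, -1, -1, 0, 1 | []];
  %[-2, 0, -1, -1, -2 | yq364]);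
  (let yq365 : type_of% yq363 := %[1, 0, 0, 0, 0 | yq363];
  %[0, 0, 0, 0, 0 | yq365]));
  (let yq366 : type_of% yq362 := (let yq367 : type_of% yq362 := %[0, 0, 0, 0, 0 | yq362];
  %[0, 0, 0, 0, 0 | yq367]);
  (let yq368 : type_of% yq366 := %[0, 0, 0, 0, 0 | yq366];
  %[0, 0, 0, 0, 0 | yq368]))), (let yq369 : List ℤ := (let yq370 : List ℤ := (let yq371 : List ℤ := %[0, -1, 0, 0, -1, -1 | []];
  %[1, 2, 0, 1, 1 | yq371]);
  (let yq372 : type_of% yq370 := %[0, 0, 0, 1, 1, 1 | yq370];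
  %[0, 0, 0, 0, 0 | yq372]));
  (let yq373 : type_of% yq369 := (let yq374 : type_of% yq369 := %[0, 0, 0, 0, 0, 0 | yq369];
  %[0, 0, 0, 0, 0 | yq374]);
  (let yq375 : type_of% yq373 := %[0, 0, 0, 0, 0, 0 | yq373];
  %[0, 0, 0, 0, 0 | yq375]))), (let yq376 : List ℤ := (let yq377 : List ℤ := (let yq378 : List ℤ := %[0, 0, 0, 0, 0, 1 | []];
  %[0, 0, 0, 0, 0 | yq378]);
  (let yq379 : type_of% yq377 := %[0, 0, 0, 0, 0, 0 | yq377];
  %[0, 0, 0, 0, 0 | yq379]));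
  (let yq380 : type_of% yq376 := (let yq381 : type_of% yq376 := %[0, 0, 0, 0, 0, 0 | yq376];
  %[0, 0, 0, 0, 0 | yq381]);
  (let yq382 : type_of% yq380 := %[0, 0, 0, 0, 0, 0 | yq380];
  %[0, 0, 0, 0, 0 | yq382])))] : List (List ℤ)).getD c []

theorem lam_ok567 : ∀ c, pEq (pMul (lam567 c) (c567.nu 0)) (pMul (TabE8c.kk c) (c567.nu c)) = true := by
  (simp only [Cfsg.Agent.H996.Eight.Kq.pEq_eq]; decide +kernel)

end Cfsg.Agent.H632.PQ.CrtE8m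
end

-- part: H582/Sph/BF
section
/-!
# A bound for the number of classes of central `p`-elements, from one rational character

`M` is `p`-modular, `χ` an irreducible rational valued character in the principal block, `p ^ h`
divides the degree of `χ`, `1 ≤ h`, `p ^ d` is the `p`-part of `|G|`.

`cr p u χ = |C(u)|⁻¹ ∑_{y ∈ C(u) p-regular} ‖χ (u y)‖ ^ 2` is the contribution of the section of the
`p`-element `u` to the norm of `χ`.

* `le_cr`: `p ^ (h + 1) ≤ p ^ d * cr p u χ` if `p` does not divide the length of the class of `u`;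
* `card_mul_le`: `T.card * p ^ (h + 1) ≤ p ^ d` for a set `T` of pairwise non-conjugate
  `p`-elements with class lengths prime to `p`;
* `not_mem_principalBlock`: the form used to exclude `χ` from the principal block;
* `add_lt`: if `G` has an element `y` of order `p ^ a`, `1 ≤ a`, with class length prime to `p`, then
  `h + a < d`; `not_mem_of_le_add`: the contrapositive.
-/

set_option autoImplicit false
set_option linter.unusedSectionVars false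

open Cfsg
open scoped ComplexConjugate

namespace Cfsg.Agent.H582.Sph.BF

open Cfsg.Agent.Blocks.Blau Cfsg.Agent.Blocks.Local Cfsg.Agent.Characters
open Cfsg.Agent.H613.RegGram Cfsg.Agent.H613.Contrib Cfsg.Agent.H613.ContribVal

section defs

variable {G : Type*} [Group G]

open Classical in
/-- The contribution of the section of `u` to the norm of `χ`. -/
noncomputable def cr [Fintype G] (p : ℕ) (u : G) (χ : G → ℂ) : ℝ :=
  (Nat.card (Subgroup.centralizer ({u} : Set G)) : ℝ)⁻¹ *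
    ∑ y ∈ Finset.univ.filter (fun y : G => Commute u y ∧ ¬ p ∣ orderOf y), ‖χ (u * y)‖ ^ 2

open Classical in
theorem sum_filter_commute [Fintype G] (p : ℕ) {u : G} {H : Subgroup G} [Fintype H]
    (hH : H = Subgroup.centralizer ({u} : Set G)) {A : Type*} [AddCommMonoid A] (f : G → A) :
    ∑ y ∈ Finset.univ.filter (fun y : G => Commute u y ∧ ¬ p ∣ orderOf y), f y =
      ∑ y : H with ¬ p ∣ orderOf y, f (y : G) := by
  symm
  refine Finset.sum_bij (fun y _ => (y : G)) ?_ ?_ ?_ ?_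
  · intro y hy
    have h1 := (Finset.mem_filter.1 hy).2
    have h2 : (y : G) ∈ Subgroup.centralizer ({u} : Set G) := by rw [← hH]; exact y.2
    rw [Subgroup.mem_centralizer_singleton_iff] at h2
    refine Finset.mem_filter.2 ⟨Finset.mem_univ _, h2.symm, ?_⟩
    rwa [Subgroup.orderOf_coe]
  · intro a _ b _ hab
    exact Subtype.ext hab
  · intro y hy
    obtain ⟨h1, h2⟩ := (Finset.mem_filter.1 hy).2
    have h3 : y ∈ H := by
      rw [hH, Subgroup.mem_centralizer_singleton_iff]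
      exact h1.symm.eq
    refine ⟨⟨y, h3⟩, Finset.mem_filter.2 ⟨Finset.mem_univ _, ?_⟩, rfl⟩
    rwa [Subgroup.orderOf_mk]
  · intro _ _
    rfl

/-- `cr` as a Hermitian product over the `p`-regular elements of the centralizer. -/
theorem cr_eq_rg [Fintype G] (p : ℕ) {u : G} {H : Subgroup G} [Fintype H]
    (hH : H = Subgroup.centralizer ({u} : Set G)) (χ : G → ℂ) :
    ((cr p u χ : ℝ) : ℂ) = rg p (fun c : H => χ (u * (c : G))) (fun c : H => χ (u * (c : G))) := by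
  classical
  unfold cr
  rw [sum_filter_commute p hH, rg_def, pair_eq_sum_filter, ← hH]
  push_cast
  congr 1
  refine Finset.sum_congr rfl fun y _ => ?_
  rw [Complex.mul_conj, Complex.normSq_eq_norm_sq]
  push_cast
  rfl

theorem cr_pos [Fintype G] {p : ℕ} (hp : p.Prime) {u : G} {χ : G → ℂ} (h : χ u ≠ 0) :
    0 < cr p u χ := by
  classical
  unfold cr
  have h1 : (0 : ℝ) < (Nat.card (Subgroup.centralizer ({u} : Set G)) : ℝ) := by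
    exact_mod_cast Nat.card_pos
  refine mul_pos (inv_pos.2 h1) (Finset.sum_pos' (fun _ _ => by positivity) ⟨1, ?_, ?_⟩)
  · refine Finset.mem_filter.2 ⟨Finset.mem_univ _, Commute.one_right u, ?_⟩
    rw [orderOf_one]
    exact hp.one_lt.not_ge ∘ Nat.le_of_dvd Nat.one_pos
  · rw [mul_one]
    have := norm_pos_iff.2 h
    positivity

/-- The contributions of sections with disjoint classes. -/
theorem sum_cr_le [Fintype G] (p : ℕ) [Fact p.Prime] (χ : IrrCharacter G) (T : Finset G)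
    (hT : ∀ u ∈ T, ∃ k : ℕ, orderOf u = p ^ k)
    (hTT : ∀ u ∈ T, ∀ v ∈ T, IsConj u v → u = v) :
    ∑ u ∈ T, cr p u (χ : G → ℂ) ≤ 1 := by
  classical
  have hχ := Core.isIrr_isClassFunction χ.2
  have hG : (0 : ℝ) < (Nat.card G : ℝ) := by exact_mod_cast Nat.card_pos
  let B : G → ℝ := fun x =>
    ∑ y ∈ Finset.univ.filter (fun y : G => Commute x y ∧ ¬ p ∣ orderOf y), ‖(χ : G → ℂ) (x * y)‖ ^ 2
  have hB0 : ∀ x, 0 ≤ B x := fun x => Finset.sum_nonneg fun _ _ => by positivity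
  have htot : ∑ x ∈ Finset.univ.filter (fun x : G => ∃ k : ℕ, orderOf x = p ^ k), B x =
      (Nat.card G : ℝ) := by
    rw [← Blocks.SectionSum.sum_norm_sq χ, Blocks.SectionSum.sum_eq_sum_sections p]
  have hBconj : ∀ u x : G, IsConj u x → B x = B u := by
    intro u x hux
    obtain ⟨c, rfl⟩ := isConj_iff.1 hux
    symm
    refine Finset.sum_bij (fun y _ => c * y * c⁻¹) ?_ ?_ ?_ ?_
    · intro y hy
      obtain ⟨h1, h2⟩ := (Finset.mem_filter.1 hy).2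
      refine Finset.mem_filter.2 ⟨Finset.mem_univ _, ?_, ?_⟩
      · rw [Commute, SemiconjBy]
        calc c * u * c⁻¹ * (c * y * c⁻¹) = c * (u * y) * c⁻¹ := by group
          _ = c * (y * u) * c⁻¹ := by rw [h1.eq]
          _ = c * y * c⁻¹ * (c * u * c⁻¹) := by group
      · have h3 : orderOf (c * y * c⁻¹) = orderOf y := by
          have := orderOf_injective (MulAut.conj c).toMonoidHom (MulAut.conj c).injective y
          simpa using this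
        rwa [h3]
    · intro a _ b _ hab
      simpa only [_root_.mul_left_inj, _root_.mul_right_inj] using hab
    · intro z hz
      obtain ⟨h1, h2⟩ := (Finset.mem_filter.1 hz).2
      refine ⟨c⁻¹ * z * c, Finset.mem_filter.2 ⟨Finset.mem_univ _, ?_, ?_⟩, by group⟩
      · have h3 : c * u * c⁻¹ * z = z * (c * u * c⁻¹) := h1.eq
        rw [Commute, SemiconjBy]
        calc u * (c⁻¹ * z * c) = c⁻¹ * (c * u * c⁻¹ * z) * c := by group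
          _ = c⁻¹ * (z * (c * u * c⁻¹)) * c := by rw [h3]
          _ = c⁻¹ * z * c * u := by group
      · have h3 : orderOf (c⁻¹ * z * c) = orderOf z := by
          have := orderOf_injective (MulAut.conj c⁻¹).toMonoidHom (MulAut.conj c⁻¹).injective z
          simpa only [_root_.map_inv, _root_.MulEquiv.toMonoidHom_eq_coe, _root_.MonoidHom.coe_coe, _root_.MulAut.inv_apply, _root_.MulAut.conj_symm_apply] using this
        rwa [h3]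
    · intro y _
      have h4 : c * u * c⁻¹ * (c * y * c⁻¹) = c * (u * y) * c⁻¹ := by group
      rw [h4, hχ]
  have hcr : ∀ u : G, (Nat.card G : ℝ) * cr p u (χ : G → ℂ) =
      ∑ x ∈ Finset.univ.filter (fun x : G => IsConj u x), B x := by
    intro u
    have h1 : ∀ x ∈ Finset.univ.filter (fun x : G => IsConj u x), B x = B u := fun x hx =>
      hBconj u x (Finset.mem_filter.1 hx).2
    rw [Finset.sum_congr rfl h1, Finset.sum_const, nsmul_eq_mul]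
    have h2 : (Finset.univ.filter (fun x : G => IsConj u x)).card =
        (Subgroup.centralizer ({u} : Set G)).index := by
      rw [← Blocks.Induced.ncard_conj_eq_index, ← Set.ncard_coe_finset]
      congr 1
      ext y
      simp only [_root_.isConj_iff, _root_.Finset.univ_filter_exists, _root_.Finset.coe_image, _root_.Finset.coe_univ, _root_.Set.image_univ, _root_.Set.mem_range, _root_.Set.mem_ofPred_eq]
    have h3 : (Nat.card (Subgroup.centralizer ({u} : Set G)) : ℝ) ≠ 0 := by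
      exact_mod_cast Nat.card_pos.ne'
    have h4 : (Nat.card G : ℝ) = (Subgroup.centralizer ({u} : Set G)).index *
        (Nat.card (Subgroup.centralizer ({u} : Set G)) : ℝ) := by
      exact_mod_cast (Subgroup.index_mul_card _).symm
    rw [h2, h4]
    unfold cr
    change _ * _ * (_ * B u) = _
    field_simp
  have hdis : ∀ u ∈ T, ∀ v ∈ T, u ≠ v →
      Disjoint (Finset.univ.filter (fun x : G => IsConj u x))
        (Finset.univ.filter (fun x : G => IsConj v x)) := by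
    intro u hu v hv huv
    rw [Finset.disjoint_left]
    intro x hx hx'
    exact huv (hTT u hu v hv ((Finset.mem_filter.1 hx).2.trans (Finset.mem_filter.1 hx').2.symm))
  have h1 : (Nat.card G : ℝ) * ∑ u ∈ T, cr p u (χ : G → ℂ) ≤ (Nat.card G : ℝ) := by
    rw [Finset.mul_sum, Finset.sum_congr rfl fun u _ => hcr u, ← Finset.sum_biUnion hdis]
    conv_rhs => rw [← htot]
    refine Finset.sum_le_sum_of_subset_of_nonneg ?_ fun x _ _ => hB0 x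
    intro x hx
    obtain ⟨u, hu, hux⟩ := Finset.mem_biUnion.1 hx
    obtain ⟨k, hk⟩ := hT u hu
    obtain ⟨c, rfl⟩ := isConj_iff.1 (Finset.mem_filter.1 hux).2
    refine Finset.mem_filter.2 ⟨Finset.mem_univ _, k, ?_⟩
    have := orderOf_injective (MulAut.conj c).toMonoidHom (MulAut.conj c).injective u
    rw [← hk]
    simpa using this
  have h2 : (Nat.card G : ℝ) * ∑ u ∈ T, cr p u (χ : G → ℂ) ≤ (Nat.card G : ℝ) * 1 := by
    rwa [mul_one]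
  exact le_of_mul_le_mul_left h2 hG

end defs

section main

variable {G : Type*} [Group G] [Fintype G] {p : ℕ} [Fact p.Prime] {M : Ideal AlgInt}

/-- The contribution times the `p`-part of the order is an algebraic integer. -/
theorem isIntegral_pow_mul_cr {u : G} (hu : ∃ k : ℕ, orderOf u = p ^ k) (χ : IrrCharacter G) :
    IsIntegral ℤ ((p : ℂ) ^ (Nat.card G).factorization p * ((cr p u (χ : G → ℂ) : ℝ) : ℂ)) := by
  classical
  have hp : p.Prime := Fact.out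
  let H : Subgroup G := Subgroup.centralizer ({u} : Set G)
  have := Fintype.ofFinite H
  have := Core.finite_irr (G := H)
  have := Fintype.ofFinite (IrrCharacter H)
  obtain ⟨j, n, e, hE⟩ := H658.exists_exp' hu (H := H) rfl
  have hf : (fun c : H => (χ : G → ℂ) (u * (c : G))) =
      ∑ ξ : IrrCharacter H, ((n χ ξ : ℂ) * e ξ) • (ξ : H → ℂ) := by
    funext c
    have h1 := hE.expand χ 1 c
    rw [pow_one] at h1
    rw [h1, Finset.sum_apply]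
    refine Finset.sum_congr rfl fun ξ _ => ?_
    rw [pow_one]
    rfl
  have hsum : rg p (fun c : H => (χ : G → ℂ) (u * (c : G)))
      (fun c : H => (χ : G → ℂ) (u * (c : G))) =
      ∑ ξ : IrrCharacter H, ∑ η : IrrCharacter H, ((n χ ξ : ℂ) * e ξ) *
        (conj ((n χ η : ℂ) * e η) * rg p (ξ : H → ℂ) (η : H → ℂ)) := by
    conv_lhs => rw [hf]
    rw [rg_sum_smul_left]
    refine Finset.sum_congr rfl fun ξ _ => ?_
    rw [← conj_rg, rg_sum_smul_left, map_sum, Finset.mul_sum]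
    refine Finset.sum_congr rfl fun η _ => ?_
    rw [map_mul, conj_rg]
  rw [cr_eq_rg p (H := H) rfl, hsum, Finset.mul_sum]
  have hdvd : (Nat.card H).factorization p ≤ (Nat.card G).factorization p :=
    (Nat.factorization_le_iff_dvd Nat.card_pos.ne' Nat.card_pos.ne').2
      (Subgroup.card_subgroup_dvd_card H) p
  obtain ⟨t, ht⟩ := Nat.exists_eq_add_of_le hdvd
  have hq : p ^ j ≠ 0 := pow_ne_zero _ hp.ne_zero
  refine IsIntegral.sum _ fun ξ _ => ?_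
  rw [Finset.mul_sum]
  refine IsIntegral.sum _ fun η _ => ?_
  obtain ⟨k, hk⟩ := exists_int_card_mul_rg (p := p) ξ η
  have h1 : (p : ℂ) ^ (Nat.card G).factorization p * (((n χ ξ : ℂ) * e ξ) *
        (conj ((n χ η : ℂ) * e η) * rg p (ξ : H → ℂ) (η : H → ℂ))) =
      ((p : ℤ) ^ t : ℤ) * (k : ℂ) * (((n χ ξ : ℤ) : ℂ) * e ξ) *
        (((n χ η : ℤ) : ℂ) * conj (e η)) := by
    rw [← hk, ht, pow_add]
    push_cast
    rw [map_mul, Complex.conj_natCast]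
    ring
  rw [h1]
  have hi : ∀ z : ℤ, IsIntegral ℤ (z : ℂ) := fun z => isIntegral_algebraMap (R := ℤ) (x := z)
  have he : ∀ ξ : IrrCharacter H, IsIntegral ℤ (e ξ) := fun ξ =>
    H658.isIntegral_of_pow_eq_one hq (hE.root ξ)
  exact (((hi _).mul (hi _)).mul ((hi _).mul (he ξ))).mul ((hi _).mul
    (H658.isIntegral_conj (he η)))

/-- The normalised contribution: an algebraic integer in the local ideal. -/
theorem scaled (hM : IsPModular p M) {u : G} (hu : ∃ k : ℕ, orderOf u = p ^ k)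
    {χ : IrrCharacter G} (hχ : χ ∈ principalBlock M G) (hdeg : p ∣ charDegree (χ : G → ℂ)) :
    IsIntegral ℤ ((Nat.card G : ℂ) * ((cr p u (χ : G → ℂ) : ℝ) : ℂ) / (χ : G → ℂ) 1) ∧
      MemLocalIdeal M ((Nat.card G : ℂ) * ((cr p u (χ : G → ℂ) : ℝ) : ℂ) / (χ : G → ℂ) 1) := by
  classical
  have := isPrime_of_isPModular hM
  have hp : p.Prime := Fact.out
  let H : Subgroup G := Subgroup.centralizer ({u} : Set G)
  have := Fintype.ofFinite H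
  have hcf := Core.isIrr_isClassFunction χ.2
  have hcH : IsClassFunction H (fun c : H => (χ : G → ℂ) (u * (c : G))) :=
    isClassFunction_mul rfl hcf
  have hχ1 := apply_one_ne_zero χ
  obtain ⟨F, hF, hFi, hFs⟩ := H658.lift_exists hu (H := H) rfl
    (fun y => conj (regPart p (fun c : H => (χ : G → ℂ) (u * (c : G))) y))
    (by
      intro g h
      change conj _ = conj _
      rw [regPart_isClassFunction hcH g h])
    (by
      intro y hy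
      rw [regPart_of_dvd hy, map_zero])
    (by
      intro y
      refine H658.isIntegral_conj ?_
      by_cases hy : p ∣ orderOf y
      · rw [regPart_of_dvd hy]; exact isIntegral_zero
      · rw [regPart_of_not_dvd hy]; exact Blocks.Central.isIntegral_irr χ.2 _)
  obtain ⟨F', hF', hFi', hFs'⟩ := H658.lift_exists hu (H := H) rfl
    (regPart p (fun _ : H => (1 : ℂ)))
    (regPart_isClassFunction (fun _ _ => rfl))
    (fun y hy => regPart_of_dvd hy)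
    (by
      intro y
      by_cases hy : p ∣ orderOf y
      · rw [regPart_of_dvd hy]; exact isIntegral_zero
      · rw [regPart_of_not_dvd hy]; exact isIntegral_one)
  have h1 : ∑ g : G, F g * (χ : G → ℂ) g =
      (Nat.card G : ℂ) * ((cr p u (χ : G → ℂ) : ℝ) : ℂ) := by
    rw [hFs _ hcf, cr_eq_rg p (H := H) rfl, rg_def, pair_eq_sum_filter]
    congr 2
    rw [Finset.sum_filter]
    refine Finset.sum_congr rfl fun y _ => ?_
    by_cases hy : p ∣ orderOf y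
    · rw [regPart_of_dvd hy, if_neg (not_not.2 hy), map_zero, mul_zero]
    · rw [regPart_of_not_dvd hy, if_pos hy]
  have h2 : ∑ g : G, F g = conj (∑ g : G, F' g * (χ : G → ℂ) g) := by
    have h3 := hFs (fun _ => 1) (fun _ _ => rfl)
    simp only [mul_one, one_mul] at h3
    rw [h3, hFs' _ hcf, map_mul, map_mul, map_inv₀, Complex.conj_natCast, Complex.conj_natCast,
      map_sum]
    congr 2
    refine Finset.sum_congr rfl fun y _ => ?_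
    by_cases hy : p ∣ orderOf y
    · rw [regPart_of_dvd hy, regPart_of_dvd hy, mul_zero]
    · rw [regPart_of_not_dvd hy, regPart_of_not_dvd hy, mul_one]
  have h3 := Blocks.SepCentral.isIntegral_lin_div' χ.2 hF' hFi'
  rw [Blocks.ConvCentral.lin_def] at h3
  have h4 : MemLocalIdeal M (∑ g : G, F g) := by
    obtain ⟨m, hm⟩ := hdeg
    have h5 : ∑ g : G, F g = (p : ℂ) * ((m : ℂ) *
        conj ((∑ g : G, F' g * (χ : G → ℂ) g) / (χ : G → ℂ) 1)) := by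
      have h6 : (χ : G → ℂ) 1 = (p : ℂ) * (m : ℂ) := by
        rw [apply_one_eq_charDegree, hm]
        push_cast
        rfl
      rw [h2, map_div₀, h6, map_mul, Complex.conj_natCast, Complex.conj_natCast]
      have h7 : (p : ℂ) * (m : ℂ) ≠ 0 := by rw [← h6]; exact hχ1
      have h8 : (p : ℂ) ≠ 0 := left_ne_zero_of_mul h7
      have h9 : (m : ℂ) ≠ 0 := right_ne_zero_of_mul h7
      field_simp
    rw [h5]
    exact memLocalIdeal_mul_right (memLocalIdeal_p hM) (memLocalRing_mul (memLocalRing_natCast _)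
      (memLocalRing_of_isIntegral (H658.isIntegral_conj h3)))
  have h5 : SameBlock M (fun _ : G => (1 : ℂ)) (χ : G → ℂ) := hχ
  have h6 := Blocks.ClassSum.memLocalIdeal_of_sameBlock (ψ := (χ : G → ℂ))
    (fun _ _ => rfl) hcf h5 hF
    (fun g => memLocalRing_of_isIntegral (hFi g))
  have h7 : ∑ g : G, F g * ((χ : G → ℂ) g / (χ : G → ℂ) 1) =
      (Nat.card G : ℂ) * ((cr p u (χ : G → ℂ) : ℝ) : ℂ) / (χ : G → ℂ) 1 := by
    rw [← h1, Finset.sum_div]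
    exact Finset.sum_congr rfl fun g _ => by rw [mul_div_assoc]
  constructor
  · have h8 := Blocks.SepCentral.isIntegral_lin_div' χ.2 hF hFi
    rw [Blocks.ConvCentral.lin_def, h1] at h8
    exact h8
  · rw [h7] at h6
    simp only [div_one, mul_one] at h6
    exact (memLocalIdeal_iff_of_sub h6).1 h4

/-- The value at a `p`-element with class length prime to `p`. -/
theorem apply_ne_zero (hM : IsPModular p M) {u : G}
    {χ : IrrCharacter G} (hχ : χ ∈ principalBlock M G)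
    (hlen : ¬ p ∣ (Subgroup.centralizer ({u} : Set G)).index) : (χ : G → ℂ) u ≠ 0 := by
  have := isPrime_of_isPModular hM
  intro h0
  have h5 : SameBlock M (fun _ : G => (1 : ℂ)) (χ : G → ℂ) := hχ
  have h := h5 u
  unfold centralChar at h
  rw [h0] at h
  simp only [mul_zero, zero_div, sub_zero, mul_one, div_one] at h
  exact hlen ((memLocalIdeal_natCast_iff hM _).1 h)

/-- The lower bound for one section. -/
theorem le_cr (hM : IsPModular p M) {u : G} (hu : ∃ k : ℕ, orderOf u = p ^ k)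
    {χ : IrrCharacter G} (hχ : χ ∈ principalBlock M G)
    (hrat : ∀ g, ∃ q : ℚ, (χ : G → ℂ) g = q) {h : ℕ} (hh : 1 ≤ h)
    (hdeg : p ^ h ∣ charDegree (χ : G → ℂ))
    (hlen : ¬ p ∣ (Subgroup.centralizer ({u} : Set G)).index) :
    (p : ℝ) ^ (h + 1) ≤ (p : ℝ) ^ (Nat.card G).factorization p * cr p u (χ : G → ℂ) := by
  classical
  have hp : p.Prime := Fact.out
  have hpos : 0 < cr p u (χ : G → ℂ) := cr_pos hp (apply_ne_zero hM hχ hlen)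
  obtain ⟨hi1, hi2⟩ := scaled hM hu hχ (dvd_trans (dvd_pow_self p (by omega)) hdeg)
  have hi3 := isIntegral_pow_mul_cr hu χ
  -- rationality
  obtain ⟨q, hq⟩ : ∃ q : ℚ, cr p u (χ : G → ℂ) = (q : ℝ) := by
    choose v hv using hrat
    refine ⟨(Nat.card (Subgroup.centralizer ({u} : Set G)) : ℚ)⁻¹ *
      ∑ y ∈ Finset.univ.filter (fun y : G => Commute u y ∧ ¬ p ∣ orderOf y), (v (u * y)) ^ 2, ?_⟩
    unfold cr
    push_cast
    congr 1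
    refine Finset.sum_congr rfl fun y _ => ?_
    rw [hv]
    have h1 : ‖((v (u * y) : ℚ) : ℂ)‖ = |((v (u * y) : ℚ) : ℝ)| := by
      rw [← Complex.ofReal_ratCast, Complex.norm_real, Real.norm_eq_abs]
    rw [h1, sq_abs]
  have hdne : charDegree (χ : G → ℂ) ≠ 0 := charDegree_ne_zero χ
  obtain ⟨r, hr⟩ : ∃ r : ℤ, (p : ℂ) ^ (Nat.card G).factorization p *
      ((cr p u (χ : G → ℂ) : ℝ) : ℂ) = r := by
    refine SchurBound.exists_int_of_rat hi3 (q := (p : ℚ) ^ (Nat.card G).factorization p * q) ?_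
    rw [hq]
    push_cast
    rfl
  obtain ⟨k, hk⟩ : ∃ k : ℤ, (Nat.card G : ℂ) * ((cr p u (χ : G → ℂ) : ℝ) : ℂ) / (χ : G → ℂ) 1 = k := by
    refine SchurBound.exists_int_of_rat hi1
      (q := (Nat.card G : ℚ) * q / (charDegree (χ : G → ℂ) : ℚ)) ?_
    rw [hq, apply_one_eq_charDegree]
    push_cast
    rfl
  rw [hk, memLocalIdeal_intCast_iff hM] at hi2
  -- `|G| = p ^ d * m`
  set d := (Nat.card G).factorization p with hd
  obtain ⟨m, hm⟩ : p ^ d ∣ Nat.card G := Nat.ordProj_dvd _ _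
  have hmp : ¬ p ∣ m := by
    have h1 := Nat.not_dvd_ordCompl hp (Nat.card_pos (α := G)).ne'
    rw [← hd, hm, Nat.mul_div_cancel_left _ (pow_pos hp.pos d)] at h1
    exact h1
  obtain ⟨n, hn⟩ := hdeg
  obtain ⟨k', rfl⟩ := hi2
  have hχ1 := apply_one_ne_zero χ
  have e1 : (m : ℤ) * r = (p : ℤ) ^ (h + 1) * ((n : ℤ) * k') := by
    have h1 : (m : ℂ) * (r : ℂ) = (χ : G → ℂ) 1 * (((p : ℤ) * k' : ℤ) : ℂ) := by
      rw [← hk, ← hr, mul_div_cancel₀ _ hχ1, hm]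
      push_cast
      ring
    rw [apply_one_eq_charDegree, hn] at h1
    have h2 : (((m : ℤ) * r : ℤ) : ℂ) = (((p : ℤ) ^ (h + 1) * ((n : ℤ) * k') : ℤ) : ℂ) := by
      push_cast at h1 ⊢
      rw [h1]
      ring
    exact_mod_cast h2
  have e2 : (p : ℤ) ^ (h + 1) ∣ r := by
    have h1 : (p : ℤ) ^ (h + 1) ∣ (m : ℤ) * r := ⟨_, e1⟩
    refine IsCoprime.dvd_of_dvd_mul_left ?_ h1
    refine IsCoprime.pow_left ?_
    rw [Nat.isCoprime_iff_coprime]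
    exact (Nat.Prime.coprime_iff_not_dvd hp).2 hmp
  have e3 : (p : ℝ) ^ d * cr p u (χ : G → ℂ) = (r : ℝ) := by
    have h1 : (((p : ℝ) ^ d * cr p u (χ : G → ℂ) : ℝ) : ℂ) = ((r : ℝ) : ℂ) := by
      push_cast
      exact hr
    exact_mod_cast h1
  have e4 : 0 < r := by
    have h1 : (0 : ℝ) < (r : ℝ) := by
      rw [← e3]
      have : (0 : ℝ) < (p : ℝ) ^ d := by
        have := hp.pos
        positivity
      (clear * - hpos this; positivity)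
    exact_mod_cast h1
  have e5 := Int.le_of_dvd e4 e2
  rw [e3]
  exact_mod_cast e5

/-- **The bound.** -/
theorem card_mul_le (hM : IsPModular p M) {χ : IrrCharacter G} (hχ : χ ∈ principalBlock M G)
    (hrat : ∀ g, ∃ q : ℚ, (χ : G → ℂ) g = q) {h : ℕ} (hh : 1 ≤ h)
    (hdeg : p ^ h ∣ charDegree (χ : G → ℂ)) (T : Finset G)
    (hT : ∀ u ∈ T, ∃ k : ℕ, orderOf u = p ^ k)
    (hlen : ∀ u ∈ T, ¬ p ∣ (Subgroup.centralizer ({u} : Set G)).index)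
    (hTT : ∀ u ∈ T, ∀ v ∈ T, IsConj u v → u = v) :
    T.card * p ^ (h + 1) ≤ p ^ (Nat.card G).factorization p := by
  have h1 := sum_cr_le p χ T hT hTT
  have h2 : ∑ u ∈ T, (p : ℝ) ^ (h + 1) ≤ ∑ u ∈ T,
      (p : ℝ) ^ (Nat.card G).factorization p * cr p u (χ : G → ℂ) :=
    Finset.sum_le_sum fun u hu => le_cr hM (hT u hu) hχ hrat hh hdeg (hlen u hu)
  rw [Finset.sum_const, nsmul_eq_mul, ← Finset.mul_sum] at h2
  have h3 : (p : ℝ) ^ (Nat.card G).factorization p * ∑ u ∈ T, cr p u (χ : G → ℂ) ≤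
      (p : ℝ) ^ (Nat.card G).factorization p * 1 :=
    mul_le_mul_of_nonneg_left h1 (by positivity)
  have h4 := h2.trans h3
  rw [mul_one] at h4
  exact_mod_cast h4

end main

section cyclic

variable {G : Type*} [Group G] [Fintype G] {p : ℕ} [Fact p.Prime] {M : Ideal AlgInt}

theorem zpowers_eq_of_mem {x y : G} (h : x ∈ Subgroup.zpowers y) (ho : orderOf x = orderOf y) :
    Subgroup.zpowers x = Subgroup.zpowers y := by
  refine Subgroup.eq_of_le_of_card_ge ((Subgroup.zpowers_le).2 h) ?_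
  rw [Nat.card_zpowers, Nat.card_zpowers, ho]

theorem centralizer_zpowers (y : G) :
    Subgroup.centralizer ((Subgroup.zpowers y : Subgroup G) : Set G) =
      Subgroup.centralizer ({y} : Set G) := by
  ext x
  rw [Subgroup.mem_centralizer_singleton_iff]
  constructor
  · intro h
    exact (Subgroup.mem_centralizer_iff.1 h y (Subgroup.mem_zpowers y)).symm
  · intro h
    rw [Subgroup.mem_centralizer_iff]
    rintro w ⟨n, rfl⟩
    exact (show Commute y x from h.symm).zpow_left n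

/-- The automizer of `⟨y⟩` has order at most `p - 1`. -/
theorem card_range_le {y : G} {a : ℕ} (ha : 1 ≤ a) (hy : orderOf y = p ^ a)
    (hlen : ¬ p ∣ (Subgroup.centralizer ({y} : Set G)).index) :
    Nat.card (Subgroup.normalizerMonoidHom (Subgroup.zpowers y)).range ≤ p - 1 := by
  have hp : p.Prime := Fact.out
  set A : Subgroup G := Subgroup.zpowers y with hA
  have h1 : Nat.card (Subgroup.normalizerMonoidHom A).range ∣ Nat.card (MulAut A) :=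
    Subgroup.card_subgroup_dvd_card _
  rw [IsCyclic.card_mulAut, hA, Nat.card_zpowers, hy, Nat.totient_prime_pow hp ha, ← hA] at h1
  have h2 : Nat.card (Subgroup.normalizerMonoidHom A).range =
      (Subgroup.centralizer (A : Set G)).relIndex (Subgroup.normalizer (A : Set G)) := by
    rw [← Subgroup.index_ker, Subgroup.normalizerMonoidHom_ker]
    rfl
  have h3 : Nat.card (Subgroup.normalizerMonoidHom A).range ∣
      (Subgroup.centralizer ({y} : Set G)).index := by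
    rw [h2, ← centralizer_zpowers y, ← hA]
    exact Subgroup.relIndex_dvd_index_of_le (Subgroup.centralizer_le_normalizer _)
  have h4 : ¬ p ∣ Nat.card (Subgroup.normalizerMonoidHom A).range := fun h => hlen (h.trans h3)
  have h5 : Nat.card (Subgroup.normalizerMonoidHom A).range ∣ p - 1 := by
    refine Nat.Coprime.dvd_of_dvd_mul_left ?_ h1
    exact (Nat.Coprime.pow_left _ ((Nat.Prime.coprime_iff_not_dvd hp).2 h4)).symm
  exact Nat.le_of_dvd (Nat.sub_pos_of_lt hp.one_lt) h5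

open Classical in
theorem card_filter_isConj_le {y : G} {a : ℕ} (ha : 1 ≤ a) (hy : orderOf y = p ^ a)
    (hlen : ¬ p ∣ (Subgroup.centralizer ({y} : Set G)).index) {x₀ : G}
    (h₀ : x₀ ∈ Subgroup.zpowers y ∧ orderOf x₀ = p ^ a) :
    Nat.card {x : G // (x ∈ Subgroup.zpowers y ∧ orderOf x = p ^ a) ∧ IsConj x₀ x} ≤ p - 1 := by
  refine le_trans ?_ (card_range_le ha hy hlen)
  set A : Subgroup G := Subgroup.zpowers y with hA
  have hz0 : Subgroup.zpowers x₀ = A := zpowers_eq_of_mem h₀.1 (h₀.2.trans hy.symm)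
  have key : ∀ x : {x : G // (x ∈ A ∧ orderOf x = p ^ a) ∧ IsConj x₀ x},
      ∃ φ : (Subgroup.normalizerMonoidHom A).range,
        (((φ : MulAut A) ⟨x₀, h₀.1⟩ : A) : G) = (x : G) := by
    rintro ⟨x, ⟨hx1, hx2⟩, hx3⟩
    obtain ⟨g, hg⟩ := isConj_iff.1 hx3
    have hz : Subgroup.zpowers x = A := zpowers_eq_of_mem hx1 (hx2.trans hy.symm)
    have hgN : g ∈ Subgroup.normalizer (A : Set G) := by
      rw [Subgroup.mem_normalizer_iff]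
      have h1 : ∀ w : G, w ∈ A → g * w * g⁻¹ ∈ A := by
        intro w hw
        rw [← hz0, Subgroup.mem_zpowers_iff] at hw
        obtain ⟨k, rfl⟩ := hw
        rw [← conj_zpow, hg]
        exact A.zpow_mem hx1 k
      have h2 : ∀ w : G, w ∈ A → g⁻¹ * w * g ∈ A := by
        intro w hw
        rw [← hz, Subgroup.mem_zpowers_iff] at hw
        obtain ⟨k, rfl⟩ := hw
        have h3 : g⁻¹ * x ^ k * g = x₀ ^ k := by
          rw [← hg, conj_zpow]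
          group
        rw [h3]
        exact A.zpow_mem h₀.1 k
      intro w
      refine ⟨h1 w, fun hw => ?_⟩
      have h3 := h2 _ hw
      have h4 : g⁻¹ * (g * w * g⁻¹) * g = w := by group
      rwa [h4] at h3
    refine ⟨⟨Subgroup.normalizerMonoidHom A ⟨g, hgN⟩, ⟨g, hgN⟩, rfl⟩, ?_⟩
    exact hg
  choose f hf using key
  refine Nat.card_le_card_of_injective f fun x x' h => ?_
  apply Subtype.ext
  rw [← hf x, ← hf x', h]

open Classical in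
theorem card_generators {y : G} {a : ℕ} (hy : orderOf y = p ^ a) :
    (Finset.univ.filter (fun x : G => x ∈ Subgroup.zpowers y ∧ orderOf x = p ^ a)).card =
      (p ^ a).totient := by
  have h1 := IsCyclic.card_orderOf_eq_totient (α := Subgroup.zpowers y) (d := p ^ a)
    (by rw [← Nat.card_eq_fintype_card, Nat.card_zpowers, hy])
  rw [← h1]
  symm
  refine Finset.card_bij (fun x _ => (x : G)) ?_ ?_ ?_
  · intro x hx
    refine Finset.mem_filter.2 ⟨Finset.mem_univ _, x.2, ?_⟩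
    rw [Subgroup.orderOf_coe]
    exact (Finset.mem_filter.1 hx).2
  · intro x _ x' _ h
    exact Subtype.ext h
  · intro x hx
    obtain ⟨h2, h3⟩ := (Finset.mem_filter.1 hx).2
    refine ⟨⟨x, h2⟩, Finset.mem_filter.2 ⟨Finset.mem_univ _, ?_⟩, rfl⟩
    rw [Subgroup.orderOf_mk]
    exact h3

/-- An element of order `p ^ a` with class length prime to `p` bounds the height. -/
theorem add_lt (hM : IsPModular p M) {χ : IrrCharacter G} (hχ : χ ∈ principalBlock M G)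
    (hrat : ∀ g, ∃ q : ℚ, (χ : G → ℂ) g = q) {h : ℕ} (hh : 1 ≤ h)
    (hdeg : p ^ h ∣ charDegree (χ : G → ℂ)) {y : G} {a : ℕ} (ha : 1 ≤ a)
    (hy : orderOf y = p ^ a)
    (hlen : ¬ p ∣ (Subgroup.centralizer ({y} : Set G)).index) :
    h + a < (Nat.card G).factorization p := by
  classical
  have hp : p.Prime := Fact.out
  let S : Finset G := Finset.univ.filter (fun x : G => x ∈ Subgroup.zpowers y ∧ orderOf x = p ^ a)
  have hS : ∀ x, x ∈ S ↔ (x ∈ Subgroup.zpowers y ∧ orderOf x = p ^ a) := fun x => by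
    simp [S]
  obtain ⟨T, hTS, hinj, himg⟩ := Finset.exists_subset_injOn_image_eq_of_surjOn
    (f := fun x : G => ConjClasses.mk x) (S : Set G) (S.image (fun x : G => ConjClasses.mk x))
    (by
      intro c hc
      rw [Finset.coe_image] at hc
      exact hc)
  have hTS' : ∀ x ∈ T, x ∈ S := fun x hx => hTS hx
  have hcard : S.card ≤ (p - 1) * T.card := by
    have h1 : T.card = (S.image (fun x : G => ConjClasses.mk x)).card := by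
      rw [← himg, Finset.card_image_of_injOn hinj]
    rw [h1]
    refine Finset.card_le_mul_card_image S (p - 1) fun b hb => ?_
    obtain ⟨x₀, hx₀, rfl⟩ := Finset.mem_image.1 hb
    have h2 := card_filter_isConj_le ha hy hlen ((hS x₀).1 hx₀)
    refine le_trans (le_of_eq ?_) h2
    rw [Nat.card_eq_fintype_card, Fintype.card_subtype]
    (with_reducible congr 1)
    ext x
    simp only [Finset.mem_filter, Finset.mem_univ, true_and, hS]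
    refine and_congr_right fun _ => ?_
    rw [ConjClasses.mk_eq_mk_iff_isConj]
    exact isConj_comm
  have hScard : S.card = p ^ (a - 1) * (p - 1) := by
    rw [← Nat.totient_prime_pow hp ha]
    exact card_generators hy
  have hTcard : p ^ (a - 1) ≤ T.card := by
    rw [hScard, mul_comm] at hcard
    exact Nat.le_of_mul_le_mul_left hcard (Nat.sub_pos_of_lt hp.one_lt)
  have h1T : (1 : G) ∉ T := by
    intro h1
    have h2 := ((hS 1).1 (hTS' 1 h1)).2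
    rw [orderOf_one] at h2
    exact absurd h2 (Nat.one_lt_pow (by omega) hp.one_lt).ne
  have hind : ∀ u ∈ T, ¬ p ∣ (Subgroup.centralizer ({u} : Set G)).index := by
    intro u hu
    obtain ⟨h2, h3⟩ := (hS u).1 (hTS' u hu)
    rw [← centralizer_zpowers, zpowers_eq_of_mem h2 (h3.trans hy.symm), centralizer_zpowers]
    exact hlen
  have hmain := card_mul_le hM hχ hrat hh hdeg (insert 1 T)
    (by
      intro u hu
      rcases Finset.mem_insert.1 hu with rfl | hu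
      · exact ⟨0, by simp⟩
      · exact ⟨a, ((hS u).1 (hTS' u hu)).2⟩)
    (by
      intro u hu
      rcases Finset.mem_insert.1 hu with rfl | hu
      · have h2 : Subgroup.centralizer ({(1 : G)} : Set G) = ⊤ := by
          ext x
          rw [Subgroup.mem_centralizer_singleton_iff]
          simp
        rw [h2, Subgroup.index_top]
        exact hp.one_lt.not_ge ∘ Nat.le_of_dvd Nat.one_pos
      · exact hind u hu)
    (by
      intro u hu v hv huv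
      rcases Finset.mem_insert.1 hu with rfl | hu
      · exact (isConj_one_right.1 huv).symm
      · rcases Finset.mem_insert.1 hv with rfl | hv
        · exact isConj_one_left.1 huv
        · exact hinj hu hv (ConjClasses.mk_eq_mk_iff_isConj.2 huv))
  rw [Finset.card_insert_of_notMem h1T] at hmain
  have h5 : p ^ (h + a) < p ^ (Nat.card G).factorization p := by
    refine lt_of_lt_of_le ?_ hmain
    have h6 : p ^ (h + a) = p ^ (a - 1) * p ^ (h + 1) := by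
      rw [← pow_add]
      congr 1
      omega
    rw [h6]
    exact Nat.mul_lt_mul_of_pos_right (by omega) (pow_pos hp.pos _)
  exact (Nat.pow_lt_pow_iff_right hp.one_lt).1 h5

/-- The form used to exclude `χ` from the principal block. -/
theorem not_mem_of_le_add (hM : IsPModular p M) {χ : IrrCharacter G}
    (hrat : ∀ g, ∃ q : ℚ, (χ : G → ℂ) g = q) {h : ℕ} (hh : 1 ≤ h)
    (hdeg : p ^ h ∣ charDegree (χ : G → ℂ)) {y : G} {a : ℕ} (ha : 1 ≤ a)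
    (hy : orderOf y = p ^ a)
    (hlen : ¬ p ∣ (Subgroup.centralizer ({y} : Set G)).index)
    (hle : (Nat.card G).factorization p ≤ h + a) : χ ∉ principalBlock M G := fun hχ =>
  absurd (add_lt hM hχ hrat hh hdeg ha hy hlen) (not_lt.2 hle)

end cyclic

end Cfsg.Agent.H582.Sph.BF
end

-- part: H363/PQ/SylTor
section
/-!
# Sylow subgroups in twisted tori (helper363)

* `exists_orderOf_tX` : the twisted torus contains an element of order `r ^ v`, `r ^ v ∣ Φ_n(Q)`;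
* `sylow_noBad` : for `NoBad degs n`: `T` abelian, `r ∤ |X : T|`, an element of order `r ^ v`, `|X| = r ^ (v a) m`, `r ∤ m`;
* `syl_E8` : type `E₈`, `n = 3, 6` (and all other `n` without bad primes).
-/

set_option autoImplicit false
set_option linter.unusedSectionVars false
set_option linter.unusedVariables false

namespace Cfsg.Agent.H363.PQ

open CoxeterSystem Cfsg Cfsg.Lie Cfsg.Lie.ChevalleyDatum
open Cfsg.Agent.ChevalleyStructure Cfsg.Agent.ChevalleyStructure.Elts Cfsg.Agent.ChevalleyStructure.CoxeterGeom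
  Cfsg.Agent.ChevalleyStructure.CoxeterGeomTypes Cfsg.Agent.ChevalleyStructure.NPerm
open Cfsg.Agent.Tits.Roots Cfsg.Agent.Tits.Core Cfsg.Agent.Nodes Cfsg.Agent.Nodes.Reps Cfsg.Agent.Nodes.BNOf
  Cfsg.Agent.Nodes.RGDChev Cfsg.Agent.Nodes.Bruhat Cfsg.Agent.Nodes.SubComb Cfsg.Agent.Nodes.Coroot
open Cfsg.Agent.KFacts.RgdField Cfsg.Agent.KFacts.RgdChevCoord Cfsg.Agent.BpExc.TorCent Cfsg.Agent.BpExc.TorChev
open Cfsg.Agent.GpExc.Field Cfsg.Agent.BpExc.Tow Cfsg.Agent.BpExc.TowChev Cfsg.Agent.BpExc.Fr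
  Cfsg.Agent.BpExc.LangFr Cfsg.Agent.LangThm Cfsg.Agent.BpExc Cfsg.Agent.H129.TorusChar Cfsg.Agent.H129.TorusMain
open Cfsg.Agent.H129.TorAct (cX_tau tau_mem exists_theta)
open Cfsg.Agent.H630.NH Cfsg.Agent.H630.Exc Cfsg.Agent.H755.PQ
open Cfsg.Agent.H130.WeylCk Cfsg.Agent.H130.PolyL Cfsg.Agent.H130.WeylTab
open Polynomial (cyclotomic aeval natDegree_cyclotomic)

universe u v

section Main

variable {D : ChevalleyDatum} {l : ℕ} {M : CoxeterMatrix (Fin l)} (hp : IsType D l M) {k : Type u} [Field k]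
  {W : Type*} [Group W] (cs : CoxeterSystem M W)

variable {p e : ℕ} [Fact p.Prime] [CharP k p] {σ : MulAut ↥(D.group k)} {g : (Fin l → ℤ) ≃+ (Fin l → ℤ)}
  {X : Type v} [Group X] {e0 : X →* ↥(D.group k)} {d : ℕ} (S : Setup hp cs p e σ g e0 d)
  {w : W} {R : Module.End ℤ (Fin l → ℤ)} {ε : ℤ}

include S

open Polynomial in
/-- **An element of order `r ^ v` in a twisted torus.** -/
theorem exists_orderOf_tX [IsAlgClosed k] [Finite W] [Finite X] {hN : NSys M (TT D k) (nc hp k)}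
    (hε : ε = 1 ∨ ε = -1) (h : ∀ x, theta hp cs w g x = ε • R x)
    {n' z : ↥(D.group k)} (hn' : Rp cs hN w n') (hz : n' = z⁻¹ * σ z) {r : ℕ} (hr : r.Prime) (hrp : r ≠ p)
    (hrd : ¬ r ∣ d) (hr2 : r ≠ 2) {Q : ℤ} (hQ : Q = ε * (p ^ e : ℕ)) {n N : ℕ} (hn : orderOf (Q : ZMod r) = n)
    (hR : R ^ N = 1) (hnN : n ∣ N) (hrN : ¬ r ∣ N)
    (x : Fin l → ℤ) (y : (Fin l → ℤ) →ₗ[ℤ] ℤ) (c : ℤ)
    (hc : ¬ (r : ℤ) ∣ c) (hx : aeval R (cyclotomic n ℤ) x = 0)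
    (hy : ∀ j < (cyclotomic n ℤ).natDegree, y ((R ^ j) x) =
      if j + 1 = (cyclotomic n ℤ).natDegree then c else 0)
    {v : ℕ} (hv : ((r ^ v : ℕ) : ℤ) ∣ (cyclotomic n ℤ).eval Q) : ∃ x' ∈ tX D k e0 z, orderOf x' = r ^ v := by
  classical
  have : Fact r.Prime := ⟨hr⟩
  obtain ⟨m, hm⟩ : ∃ m, m = r ^ v := ⟨_, rfl⟩
  rw [← hm] at hv ⊢
  have hrZ := Nat.prime_iff_prime_int.1 hr
  have hpp : p.Prime := Fact.out
  have hcr : ¬ r ∣ p := fun h => hrp ((Nat.prime_dvd_prime_iff_eq hr hpp).1 h)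
  have hQr : ¬ (r : ℤ) ∣ Q := by
    intro h2
    apply hcr
    have h3 : r ∣ Q.natAbs := Int.natCast_dvd.1 h2
    have h4 : Q.natAbs = p ^ e := by
      rw [hQ, Int.natAbs_mul]
      rcases hε with rfl | rfl <;> simp
    rw [h4] at h3
    exact hr.dvd_of_dvd_pow h3
  have hn0 : 0 < n := by rw [← hn]; exact ord_pos hr hQr
  have hrk : (r : k) ≠ 0 := by
    rw [Ne, CharP.cast_eq_zero_iff k p]
    intro h
    exact hrp ((Nat.prime_dvd_prime_iff_eq hpp hr).1 h).symm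
  have hmk : (m : k) ≠ 0 := by rw [hm, Nat.cast_pow]; exact pow_ne_zero _ hrk
  have hm0 : 0 < m := by rw [hm]; exact pow_pos hr.pos _
  have hmQn : (m : ℤ) ∣ Q ^ N - 1 := by
    have h1 : (cyclotomic n ℤ) ∣ Polynomial.X ^ n - 1 := cyclotomic.dvd_X_pow_sub_one n ℤ
    have h2 := eval_dvd (x := Q) h1
    rw [eval_sub, eval_pow, eval_X, eval_one] at h2
    obtain ⟨N', rfl⟩ := hnN
    have h3 : Q ^ n - 1 ∣ Q ^ (n * N') - 1 := by
      rw [pow_mul]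
      have := sub_dvd_pow_sub_pow (Q ^ n) 1 N'
      rwa [one_pow] at this
    exact (hv.trans h2).trans h3
  have hmq : (m : ℤ) ∣ ((p ^ e : ℕ) : ℤ) ^ (2 * N) - 1 := by
    have h1 : ((p ^ e : ℕ) : ℤ) ^ (2 * N) = Q ^ (2 * N) := by rw [hQ, mul_pow, eps_pow_two hε, one_mul]
    rw [h1]
    exact hmQn.trans ⟨Q ^ N + 1, by ring⟩
  have hθ : ∀ x, (theta hp cs w g)^[2 * N] x = x := theta_powR hp cs hε h hR
  obtain ⟨B, d', hd', hB⟩ := S.inv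
  obtain ⟨ζ, hζ, hz0, hchar⟩ := exists_char hp hB hd' (q := p ^ e) (n := 2 * N) hθ hmk hmq
  obtain ⟨t, ht, h1, h2, h3⟩ := hchar y.toAddMonoidHom
  obtain ⟨x', hx'⟩ := S.exists_of_tau hp cs hz ((tau_iff hp cs S.lf S.frob S.fr hn' ht).2 h1) hr hrd ⟨v, by
    rw [← hm]; exact h2⟩
  have hPm : (cyclotomic n ℤ).Monic := cyclotomic.monic n ℤ
  have hPd : 0 < (cyclotomic n ℤ).natDegree := by
    rw [natDegree_cyclotomic]
    exact Nat.totient_pos.2 hn0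
  have hxm : x' ^ m = 1 := by
    apply S.inj
    have h4 := S.conj_pow_eq hp cs (y := x') (z := z) m
    rw [hx', h2] at h4
    rw [map_one]
    have h5 : e0 (x' ^ m) = z * (z⁻¹ * e0 (x' ^ m) * z) * z⁻¹ := by group
    rw [h5, ← h4]; group
  refine ⟨x', by rw [mem_tX, hx']; exact ht, ?_⟩
  obtain ⟨u, hu⟩ : ∃ u : ℤ, Lq y.toAddMonoidHom (theta hp cs w g) (p ^ e) (2 * N)
      (aeval R (cyclotomic n ℤ /ₘ (Polynomial.X - C Q)) x) = ((Q ^ N + 1) * (N * Q ^ N * c)) + m * u := by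
    set! L : (Fin l → ℤ) →+ ℤ := y.toAddMonoidHom with hL; rewrite [← hL] at h3 ⊢
    set! zi := aeval R (cyclotomic n ℤ /ₘ (Polynomial.X - C Q)) x with hzi; rewrite [← hzi]
    have hLz : L zi = c := by
      exact H130.Cok.functional hPm hPd Q y x _ fun j hj => hy j hj
    have h3 : ∀ j : ℕ, ∃ u : ℤ, L ((R ^ j) zi) = Q ^ j * L zi + m * u := by
      intro j
      obtain ⟨u, hu⟩ := exists_eig hv hx j
      exact ⟨L u, by rw [hzi, hu, map_add, map_zsmul, map_zsmul, smul_eq_mul, smul_eq_mul]⟩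
    choose u hu using h3
    refine ⟨(Q ^ N + 1) * ∑ j ∈ Finset.range N, Q ^ (N - j) * u j, ?_⟩
    rw [Lq_eqR hp cs hε h hR _ hQ]
    have h4 : ∀ j ∈ Finset.range N, Q ^ (N - j) * L ((R ^ j) zi) =
        Q ^ N * L zi + m * (Q ^ (N - j) * u j) := by
      intro j hj
      rw [Finset.mem_range] at hj
      rw [hu j, mul_add, ← mul_assoc, ← pow_add, Nat.sub_add_cancel hj.le]
      ring
    rw [Finset.sum_congr rfl h4, Finset.sum_add_distrib, Finset.sum_const, Finset.card_range, ← Finset.mul_sum, hLz,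
      nsmul_eq_mul]
    ring
  have hcop : IsCoprime (m : ℤ) ((Q ^ N + 1) * (N * Q ^ N * c)) := by
    rw [hm, Nat.cast_pow]
    apply IsCoprime.pow_left
    rw [hrZ.irreducible.coprime_iff_not_dvd]
    intro h
    rcases hrZ.dvd_mul.1 h with h | h
    · have h3 : (r : ℤ) ∣ Q ^ N - 1 := (dvd_pow_sub_one_iff N).2 (by rw [hn]; exact hnN)
      have h4 := dvd_sub h h3
      have h5 : Q ^ N + 1 - (Q ^ N - 1) = 2 := by ring
      rw [h5] at h4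
      have h6 : r ∣ 2 := by exact_mod_cast h4
      exact hr2 ((Nat.prime_dvd_prime_iff_eq hr Nat.prime_two).1 h6)
    · rcases hrZ.dvd_mul.1 h with h | h
      · rcases hrZ.dvd_mul.1 h with h | h
        · exact hrN (Int.natCast_dvd_natCast.1 h)
        · exact hQr (hrZ.dvd_of_dvd_pow h)
      · exact hc h
  apply Nat.dvd_antisymm (orderOf_dvd_of_pow_eq_one hxm)
  have h6 : t ^ orderOf x' = 1 := by
    have h4 := S.conj_pow_eq hp cs (y := x') (z := z) (orderOf x')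
    rw [hx', pow_orderOf_eq_one, map_one] at h4
    rw [h4]
    group
  have h7 := congrArg (fun t => cX hp t (aeval R (cyclotomic n ℤ /ₘ (Polynomial.X - C Q)) x)) h6
  rw [cX_pow hp ht, cX_one, h3, ← zpow_natCast, ← zpow_mul, hζ.zpow_eq_one_iff_dvd, hu] at h7
  have h8 : (m : ℤ) ∣ ((Q ^ N + 1) * (N * Q ^ N * c)) * (orderOf x' : ℤ) := by
    have h9 := dvd_sub h7 (dvd_mul_right (m : ℤ) (u * (orderOf x' : ℤ)))
    have h10 : ((Q ^ N + 1) * (N * Q ^ N * c) + m * u) * (orderOf x' : ℤ) - m * (u * (orderOf x' : ℤ)) =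
      ((Q ^ N + 1) * (N * Q ^ N * c)) * (orderOf x' : ℤ) := by ring
    rwa [h10] at h9
  exact Int.natCast_dvd_natCast.1 (hcop.dvd_of_dvd_mul_left h8)

end Main

section NB

variable {D : ChevalleyDatum} {l : ℕ} {M : CoxeterMatrix (Fin l)} (hp : IsType D l M)
  {W : Type*} [Group W] (cs : CoxeterSystem M W)

variable {k : Type u} [Field k] {p e : ℕ} [hpF : Fact p.Prime] [CharP k p] {σ : MulAut ↥(D.group k)}
  {g : (Fin l → ℤ) ≃+ (Fin l → ℤ)}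
  {X : Type v} [Group X] {e0 : X →* ↥(D.group k)} {d : ℕ} (S : Setup hp cs p e σ g e0 d)

include S

/-- **The Sylow `r`-subgroup for `NoBad degs n`.** -/
theorem sylow_noBad [IsAlgClosed k] [Finite W] [Finite X] {ε : ℤ} (hε : ε = 1 ∨ ε = -1)
    {Al : List (List ℤ)} (hA : MatList (cartanOf D l) Al) (hT : ∀ w1, HasTor hp cs g ε w1) {Q : ℤ}
    (hQ : Q = ε * (p ^ e : ℕ)) {n : ℕ} (hn : 0 < n ∧ n ∈ H130.PolyL.idx) {degs : List ℕ} (hb : NoBad degs n)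
    (H : HasF Al l degs n) {N' g' : ℕ}
    (hcard : g' * Nat.card X = (p ^ e) ^ N' * ((degs.map (fun i => Q ^ i - 1)).prod).natAbs)
    {r : ℕ} (hr : r.Prime) (hr2 : r ≠ 2) (hrp : r ≠ p)
    (hrd : ¬ r ∣ d) (hrn : orderOf (Q : ZMod r) = n) {v : ℕ} {b : ℤ}
    (hv : (cyclotomic n ℤ).eval Q = ((r ^ v : ℕ) : ℤ) * b) (hvb : ¬ (r : ℤ) ∣ b) :
    ∃ T : Subgroup X, IsMulCommutative T ∧ ¬ r ∣ T.index ∧ (∃ x ∈ T, orderOf x = r ^ v) ∧
      ∃ C : ℤ, ((degs.map (fun i => Q ^ i - 1)).prod) =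
        (cyclotomic n ℤ).eval Q ^ (degs.filter (fun i => n ∣ i)).length * C ∧ ¬ (r : ℤ) ∣ C := by
  obtain ⟨word, j, c, xs, ys, hC, hc⟩ := H
  have hQr := not_dvd_Q (p := p) (e := e) Fact.out hr hrp hε hQ
  have hnr : n ∣ r - 1 := by rw [← hrn]; exact H630.Exc.ord_dvd hr hQr
  have key : ¬ (r : ℤ) ∣ c := by
    intro h8
    have h9 := h8.trans hc
    have h10 : (r : ℤ) ∣ (((degs.filter (fun i => n ∣ i)).prod : ℕ) : ℤ) := h9
    have h11 : r ∣ (degs.filter (fun i => n ∣ i)).prod := Int.natCast_dvd_natCast.1 h10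
    obtain ⟨i, hi, hri⟩ := (Prime.dvd_prod_iff (Nat.prime_iff.1 hr)).1 h11
    rw [List.mem_filter] at hi
    exact hb.not_dvd hr hr2 hnr i hi.1 (of_decide_eq_true hi.2) hri
  have hlen := length_ne hb.2.1
  obtain ⟨T, hTor⟩ := exists_isTor hp cs S (hT (cs.wordProd word ^ j))
  have hRn := rep_pow_eq_one hp cs hA word j n hC.1
  obtain ⟨x, y, hx, hy⟩ := cert_data hp cs hA hn.2 hC
  have hrn' : ¬ r ∣ n := by rw [← hrn]; exact not_dvd_ord hr hQr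
  have hfs := _root_.Cfsg.Agent.H630.Exc.exists_prod hr hQr degs (by rw [hrn]; exact hb.not_dvd hr hr2 hnr)
  rw [hrn] at hfs
  have hi := IsTor.not_dvd_index hp cs hTor hε hr hrp hrd hr2 hQ hn.1 hrn hRn dvd_rfl hrn' x y c key hx hy hcard hfs
  have hTc := IsTor.isMulCommutative hp cs hTor
  obtain ⟨w, n', z, hw, hn', hz, rfl⟩ := hTor
  refine ⟨_, hTc, hi, ?_, hfs⟩
  exact exists_orderOf_tX hp cs S hε hw hn' hz hr hrp hrd hr2 hQ hrn hRn dvd_rfl hrn'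
    (x ⟨0, Nat.pos_of_ne_zero hlen⟩) (y ⟨0, Nat.pos_of_ne_zero hlen⟩) c key (hx _)
    (fun j hj => by rw [hy _ _ j hj]; simp) ⟨b, hv⟩

end NB

/-- **Type `E₈`**: for `n` without bad primes (`n = 3, 6, …`), `r` of order `n`, `r ^ v ∥ Φ_n(q)`: there is an
abelian subgroup `T` of index prime to `r` with an element of order `r ^ v`, and `|G| = r ^ (v a) m`, `r ∤ m`. -/
theorem syl_E8 (F : Type u) [Field F] [Fintype F] {n : ℕ}
    (hn : n ∈ (beta% delta% lq26b4cda9c8 fun a b _ =>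
 (a 3<|a 5<|a 6<|a 7<|a 8<|a 9<|a 10<|a 12<|a 14<|a 15<|a 18<|a 20<|a 24<|a 30<|b) :
 List ℕ)) {r : ℕ} (hr : r.Prime) (hr2 : r ≠ 2)
    (hro : orderOf ((Fintype.card F : ℕ) : ZMod r) = n) {v : ℕ} {b : ℤ}
    (hv : (cyclotomic n ℤ).eval ((Fintype.card F : ℕ) : ℤ) = ((r ^ v : ℕ) : ℤ) * b) (hvb : ¬ (r : ℤ) ∣ b) :
    ∃ T : Subgroup ↥(chevE8.group F), IsMulCommutative T ∧ ¬ r ∣ T.index ∧ (∃ x ∈ T, orderOf x = r ^ v) ∧
      ∃ m : ℕ, Nat.card ↥(chevE8.group F) =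
        r ^ (v * (([2, 8, 12, 14, 18, 20, 24, 30].filter (fun i => n ∣ i)).length)) * m ∧ ¬ r ∣ m := by
  obtain ⟨k, _, _, f, p, hpp, hkp, e, hk, hka, he0, hcF⟩ := H378.TorFin.exists_closure F
  have cs := CoxeterMatrix.E₈.toCoxeterSystem
  have hW := finite_W e8T cs
  have hcF' : Fintype.card F = p ^ e := by rw [← Nat.card_eq_fintype_card, hcF]
  have hd1 : Nat.gcd 1 (Nat.card F - 1) = 1 := Nat.gcd_one_left _
  have S := setup_untw e8T cs hk f he0 hcF' invC_E8 one_ne_zero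
  rw [hd1] at S
  have hcard : 1 * Nat.card ↥(chevE8.group F) = (p ^ e) ^ 120 *
      (([2, 8, 12, 14, 18, 20, 24, 30].map (fun i => ((p ^ e : ℕ) : ℤ) ^ i - 1)).prod).natAbs := by
    rw [natAbs_prod _ (pow_pos hpp.out.pos _), one_mul, S1065.result hcF']
    simp only [List.map_cons, List.map_nil, List.prod_cons, List.prod_nil, mul_one]
    ring
  have h1 : (1 : ℤ) = 1 ∨ (1 : ℤ) = -1 := Or.inl rfl
  have hn' : n ∈ (beta% delta% lq26b4cda9c8 fun a b _ =>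
 (a 1<|a 2<|a 3<|a 4<|a 5<|a 6<|a 7<|a 8<|a 9<|a 10<|a 12<|a 14<|a 15<|a 18<|a 20<|a 24<|a 30<|b) :
 List ℕ) := by
    have : ∀ n ∈ (beta% delta% lq26b4cda9c8 fun a b _ =>
 (a 3<|a 5<|a 6<|a 7<|a 8<|a 9<|a 10<|a 12<|a 14<|a 15<|a 18<|a 20<|a 24<|a 30<|b) :
 List ℕ),
      n ∈ (beta% delta% lq26b4cda9c8 fun a b _ =>
 (a 1<|a 2<|a 3<|a 4<|a 5<|a 6<|a 7<|a 8<|a 9<|a 10<|a 12<|a 14<|a 15<|a 18<|a 20<|a 24<|a 30<|b) :
 List ℕ) := by decide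
    exact this n hn
  have hn0 : 0 < n := by
    have : ∀ n ∈ (beta% delta% lq26b4cda9c8 fun a b _ =>
 (a 3<|a 5<|a 6<|a 7<|a 8<|a 9<|a 10<|a 12<|a 14<|a 15<|a 18<|a 20<|a 24<|a 30<|b) :
 List ℕ), 0 < n := by decide
    exact this n hn
  have hrp : r ≠ p := by
    rintro rfl
    have : Fact r.Prime := ⟨hr⟩
    have h1 : ((Fintype.card F : ℕ) : ZMod r) = 0 := by
      rw [ZMod.natCast_eq_zero_iff, hcF']
      exact dvd_pow_self _ he0.ne'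
    have h2 : orderOf ((Fintype.card F : ℕ) : ZMod r) = 0 := by
      rw [h1, orderOf_eq_zero_iff']
      intro m hm
      rw [zero_pow hm.ne']
      exact zero_ne_one
    omega
  have hrd : ¬ r ∣ 1 := fun h => hr.one_lt.ne' (Nat.dvd_one.1 h)
  rw [hcF'] at hro hv
  obtain ⟨T, hTc, hi, hx, C, hC, hrC⟩ := sylow_noBad e8T cs S h1 lists_E8 (hasTor_E8 cs 1 h1) (one_mul _).symm
    (idx_E8 n hn') (noBad_E8 n hn) (hasF_E8 n hn') hcard hr hr2 hrp hrd (by rw [cast_ord]; exact hro) hv hvb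
  refine ⟨T, hTc, hi, hx, (p ^ e) ^ 120 * (b.natAbs ^
    (([2, 8, 12, 14, 18, 20, 24, 30].filter (fun i => n ∣ i)).length) * C.natAbs), ?_, ?_⟩
  · rw [← one_mul (Nat.card _), hcard, hC, hv, Int.natAbs_mul, Int.natAbs_pow, Int.natAbs_mul, Int.natAbs_natCast,
      mul_pow, ← pow_mul]
    ring
  · intro h
    rcases (Nat.Prime.dvd_mul hr).1 h with h | h
    · exact hrp ((Nat.prime_dvd_prime_iff_eq hr hpp.out).1 (hr.dvd_of_dvd_pow (hr.dvd_of_dvd_pow h)))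
    · rcases (Nat.Prime.dvd_mul hr).1 h with h | h
      · exact hvb (Int.natCast_dvd.2 (hr.dvd_of_dvd_pow h))
      · exact hrC (Int.natCast_dvd.2 h)

end Cfsg.Agent.H363.PQ
end

-- part: H329/PQ/NotE8
section
/-!
# Characters of `E₈(q)` which are not in the principal block (helper329, for S4612)

`not_mem_E8`: a rational character whose degree is divisible by `Φ_e(q) ^ 3`, `e = 3` or `6`, is not in the principal
`l`-block, `l` of order `e` (`Φ_e(q) ^ 4` is the `l`-part of the order).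
-/

set_option autoImplicit false

namespace Cfsg.Agent.H329.PQ

open Cfsg Cfsg.Lie Cfsg.Agent.H317.PQ Cfsg.Agent.Blocks.Basic Cfsg.Agent.Blocks.Local Cfsg.Agent.ChevalleyStructure

universe u

/-- abelian subgroup of index prime to `l` with an element of large order: characters of large height are not in the
principal block -/
theorem not_mem_of_abelian {G : Type u} [Group G] [Finite G] {l : ℕ} (hl : l.Prime) {χ : IrrCharacter G}
    (hrat : ∀ g, ∃ q : ℚ, (χ : G → ℂ) g = q) {T : Subgroup G} (hT : IsMulCommutative T) (hi : ¬ l ∣ T.index)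
    {v : ℕ} (hv : 1 ≤ v) {x : G} (hxT : x ∈ T) (hx : orderOf x = l ^ v) {k m : ℕ} (hk : 1 ≤ k)
    (hcard : Nat.card G = l ^ (v * (k + 1)) * m) (hm : ¬ l ∣ m) (hdeg : l ^ (v * k) ∣ charDegree (χ : G → ℂ)) :
    χ ∉ B0 l G := by
  have := Fintype.ofFinite G
  have : Fact l.Prime := ⟨hl⟩
  obtain ⟨M, hM⟩ := Cfsg.Agent.Blocks.ExistsModular.exists_isPModular hl
  rw [B0_eq hl hM]
  refine H582.Sph.BF.not_mem_of_le_add hM hrat (h := v * k) (Nat.one_le_iff_ne_zero.2 (Nat.mul_ne_zero (by omega)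
    (by omega))) hdeg (y := x) hv hx ?_ ?_
  · intro h
    apply hi
    refine h.trans (Subgroup.index_dvd_of_le ?_)
    intro y hy
    rw [Subgroup.mem_centralizer_singleton_iff]
    exact congrArg Subtype.val (hT.is_comm.comm (⟨y, hy⟩ : T) ⟨x, hxT⟩)
  · have hm0 : m ≠ 0 := by
      rintro rfl
      exact hm (dvd_zero _)
    rw [hcard, Nat.factorization_mul (pow_ne_zero _ hl.ne_zero) hm0, Nat.Prime.factorization_pow hl,
      Finsupp.add_apply, Finsupp.single_eq_same, Nat.factorization_eq_zero_of_not_dvd hm, mul_add, mul_one, add_zero]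

/-- **A rational character of `E₈(q)` of degree divisible by `Φ_e(q) ^ 3`.** -/
theorem not_mem_E8 (F : Type u) [Field F] [Fintype F] {l : ℕ} (hl : l.Prime) (hl2 : l ≠ 2) {e : ℕ}
    (he : e = 3 ∨ e = 6) (ho : ord (Fintype.card F) l = e) {χ : IrrCharacter ↥(chevE8.group F)}
    (hrat : ∀ g, ∃ q : ℚ, (χ : ↥(chevE8.group F) → ℂ) g = q)
    (hdeg : ((Polynomial.cyclotomic e ℤ).eval ((Fintype.card F : ℕ) : ℤ)) ^ 3 ∣
      (charDegree (χ : ↥(chevE8.group F) → ℂ) : ℤ)) : χ ∉ B0 l ↥(chevE8.group F) := by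
  have : Finite ↥(chevE8.group F) := inferInstance
  have hq : 1 < (((Fintype.card F : ℕ) : ℤ)).natAbs := by
    rw [Int.natAbs_natCast]
    exact Fintype.one_lt_card
  have he0 : 0 < e := by omega
  obtain ⟨v, b, hv, hb⟩ := H630.Exc.exists_part hl (H630.Exc.cyclotomic_eval_ne_zero he0 hq)
  have hlen : (([2, 8, 12, 14, 18, 20, 24, 30].filter (fun i => e ∣ i)).length) = 3 + 1 := by
    rcases he with rfl | rfl <;> rfl
  obtain ⟨T, hT, hi, ⟨x, hxT, hx⟩, m, hm, hlm⟩ := H363.PQ.syl_E8 F (n := e)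
    (by rcases he with rfl | rfl <;> decide) hl hl2 ho hv hb
  rw [hlen] at hm
  have hdvd : (l : ℤ) ∣ (Polynomial.cyclotomic e ℤ).eval ((Fintype.card F : ℕ) : ℤ) := by
    have : Fact l.Prime := ⟨hl⟩
    have h1 := ho
    rw [ord] at h1
    have hq0 : ((Fintype.card F : ℕ) : ZMod l) ≠ 0 := by
      intro h2
      rw [h2, orderOf_eq_zero_iff'.2 fun n hn h3 => by rw [zero_pow hn.ne'] at h3; exact zero_ne_one h3] at h1
      omega
    have h2 : (Polynomial.cyclotomic e (ZMod l)).IsRoot ((Fintype.card F : ℕ) : ZMod l) := by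
      have : NeZero ((e : ℕ) : ZMod l) := by
        constructor
        intro h3
        rw [ZMod.natCast_eq_zero_iff] at h3
        have h4 : e ∣ l - 1 := by
          rw [← h1]
          exact ZMod.orderOf_dvd_card_sub_one hq0
        have h5 := Nat.le_of_dvd he0 h3
        have h6 := Nat.le_of_dvd (Nat.sub_pos_of_lt hl.one_lt) h4
        omega
      rw [Polynomial.isRoot_cyclotomic_iff, ← h1]
      exact IsPrimitiveRoot.orderOf _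
    rw [← ZMod.intCast_zmod_eq_zero_iff_dvd]
    rw [Polynomial.IsRoot.def, ← Polynomial.map_cyclotomic_int, Polynomial.eval_map, Polynomial.eval₂_at_natCast] at h2
    exact h2
  have hv1 : 1 ≤ v := by
    rcases Nat.eq_zero_or_pos v with h0 | h0
    · exfalso
      rw [h0, pow_zero] at hv
      push_cast at hv
      rw [one_mul] at hv
      exact hb (hv ▸ hdvd)
    · exact h0
  refine not_mem_of_abelian hl hrat hT hi hv1 hxT hx (by omega) hm hlm ?_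
  have h1 : ((l ^ (v * 3) : ℕ) : ℤ) ∣ (charDegree (χ : ↥(chevE8.group F) → ℂ) : ℤ) := by
    refine dvd_trans ?_ hdeg
    rw [hv, mul_pow]
    push_cast
    rw [← pow_mul]
    exact dvd_mul_right _ _
  exact Int.natCast_dvd_natCast.1 h1

end Cfsg.Agent.H329.PQ
end

-- part: H632/PQ/KillE8m
section
/-!
# `E₈`: the orders `2`, `6`, and the prime `2` with the order `3` (helper632, for S4612)

Constituents of the permutation character on the cosets of the maximal parabolic subgroup of type `E₆ A₁`: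
* `χ₈` of degree `q P4² P8 P12 P20 P24` is congruent to `1` modulo `P6`,
* `χ₈` is congruent to `χ₅₆₇` of degree `q⁶ P3³ P6³ P7 P9 P12² P14 P15 P18 P24 P30` modulo `P2`,
* `χ₅₆₇` is not in the principal `l`-block for `l` of order `3`, `6` (helper329's `not_mem_E8`).
-/

set_option autoImplicit false
set_option maxRecDepth 20000

namespace Cfsg.Agent.H632.PQ

open Cfsg Cfsg.Lie Cfsg.Agent.H317.PQ Cfsg.Agent.H632.PQ.Arith Cfsg.Agent.H996.PQ Cfsg.Agent.H996.Eight.Cert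
  Cfsg.Agent.H64.Dl.Sph Cfsg.Agent.H35.ExcIdx
open Cfsg.Agent.ChevalleyStructure Cfsg.Agent.ChevalleyStructure.CoxeterGeomTypes Cfsg.Agent.Nodes.RGDChev
open CoxeterSystem Cfsg.Agent.ChevalleyStructure.CoxeterGeom Cfsg.Agent.Tits.Roots Cfsg.Agent.Tits.Core
open CrtE8m

universe u

namespace E8m

/-- `(χ₈ - 1) / P6` -/
def q6 (c : Fin 26) : List ℤ := ([[], (beta% delta% lq26b4cda9c8 fun a b _ =>
 (a (-1)<|a (-2)<|a (-2)<|a (-1)<|a 0<|a 1<|a 1<|a 0<|a (-1)<|a 0<|a 1<|a 1<|a 0<|a (-1)<|a (-2)<|a (-2)<|a (-1)<|b) :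
 List ℤ), (beta% delta% lq26b4cda9c8 fun a b _ =>
 (a 0<|a 0<|a (-1)<|a (-2)<|a (-3)<|a (-4)<|a (-5)<|a (-5)<|a (-5)<|a (-5)<|a (-4)<|a (-2)<|a (-1)<|a 0<|a 1<|a 1<|a 0<|a (-1)<|a (-2)<|a (-4)<|a (-5)<|a (-5)<|a (-5)<|a (-5)<|a (-4)<|a (-3)<|a (-2)<|a (-1)<|b) :
 List ℤ), (beta% delta% lq26b4cda9c8 fun a b _ =>
 (a 0<|a 0<|a 0<|a 0<|a 0<|a (-1)<|a (-2)<|a (-2)<|a (-1)<|a (-1)<|a (-1)<|a (-1)<|a (-1)<|a (-1)<|a 1<|a 2<|a 1<|a (-1)<|a (-1)<|a (-1)<|a (-1)<|a (-1)<|a (-1)<|a (-2)<|a (-2)<|a (-1)<|b) :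
 List ℤ), (let yq383 : List ℤ := (let yq384 : List ℤ := (let yq385 : List ℤ := %[-14, -11, -8, -4, -1 | []];
  %[-17, -17, -18, -17 | yq385]);
  (let yq386 : type_of% yq384 := %[1, -1, -3, -9, -15 | yq384];
  %[-8, -6, -1, 2 | yq386]));
  (let yq387 : type_of% yq383 := (let yq388 : type_of% yq383 := %[-17, -18, -19, -16, -11 | yq383];
  %[-5, -7, -11, -15 | yq388]);
  (let yq389 : type_of% yq387 := %[0, 0, -1, -3 | yq387];
  %[0, 0, 0, 0 | yq389]))), (let yq390 : List ℤ := (let yq391 : List ℤ := (let yq392 : List ℤ := %[-13, -10, -7, -5, -3, -1 | []];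
  %[-13, -16, -18, -17, -15 | yq392]);
  (let yq393 : type_of% yq391 := %[-2, -2, -4, -8, -11 | yq391];
  %[-13, -11, -8, -4, -2 | yq393]));
  (let yq394 : type_of% yq390 := (let yq395 : type_of% yq390 := %[-10, -13, -15, -17, -18, -16 | yq390];
  %[0, -1, -3, -5, -7 | yq395]);
  (let yq396 : type_of% yq394 := %[0, 0, 0, 0, 0 | yq394];
  %[0, 0, 0, 0, 0 | yq396]))), (let yq397 : List ℤ := (let yq398 : List ℤ := (let yq399 : List ℤ := %[-13, -10, -7, -5, -3, -1 | []];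
  %[-13, -16, -18, -17, -15 | yq399]);
  (let yq400 : type_of% yq398 := %[-2, -2, -4, -8, -11 | yq398];
  %[-13, -11, -8, -4, -2 | yq400]));
  (let yq401 : type_of% yq397 := (let yq402 : type_of% yq397 := %[-10, -13, -15, -17, -18, -16 | yq397];
  %[0, -1, -3, -5, -7 | yq402]);
  (let yq403 : type_of% yq401 := %[0, 0, 0, 0, 0 | yq401];
  %[0, 0, 0, 0, 0 | yq403]))), (let yq404 : List ℤ := (let yq405 : List ℤ := (let yq406 : List ℤ := %[-1, -1, -2, -2, -1 | []];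
  %[-1, -1, -1, -1 | yq406]);
  (let yq407 : type_of% yq405 := %[-1, -1, 1, 2, 1 | yq405];
  %[-1, -1, -1, -1 | yq407]));
  (let yq408 : type_of% yq404 := (let yq409 : type_of% yq404 := %[0, 0, -1, -2, -2 | yq404];
  %[0, 0, 0, 0 | yq409]);
  (let yq410 : type_of% yq408 := %[0, 0, 0, 0, 0 | yq408];
  %[0, 0, 0, 0 | yq410]))), (let yq411 : List ℤ := (let yq412 : List ℤ := (let yq413 : List ℤ := %[-24, -17, -12, -8, -4, -1 | []];
  %[-34, -39, -43, -42, -37, -31 | yq413]);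
  (let yq414 : type_of% yq412 := %[-5, -5, -7, -12, -21, -29 | yq412];
  %[-44, -40, -32, -25, -18, -10 | yq414]));
  (let yq415 : type_of% yq411 := (let yq416 : type_of% yq411 := %[-13, -19, -26, -33, -38, -42 | yq411];
  %[0, 0, 0, 0, -2, -7 | yq416]);
  (let yq417 : type_of% yq415 := %[0, 0, 0, 0, 0, 0 | yq415];
  %[0, 0, 0, 0, 0, 0 | yq417]))), (beta% delta% lq26b4cda9c8 fun a b _ =>
 (a 0<|a 0<|a 0<|a 0<|a 0<|a 0<|a 0<|a 0<|a 0<|a 0<|a 0<|a 0<|a 0<|a 0<|a 0<|a 0<|a 0<|a 0<|a (-1)<|a (-1)<|a 0<|a 1<|a 1<|a 1<|a 0<|a (-1)<|a (-1)<|b) :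
 List ℤ), (let yq418 : List ℤ := (let yq419 : List ℤ := (let yq420 : List ℤ := %[-21, -15, -11, -7, -4, -2, -1 | []];
  %[-31, -35, -38, -39, -36, -32, -27 | yq420]);
  (let yq421 : type_of% yq419 := %[-15, -10, -8, -10, -13, -18, -25 | yq419];
  %[-35, -38, -39, -38, -34, -27, -21 | yq421]));
  (let yq422 : type_of% yq418 := (let yq423 : type_of% yq418 := %[-1, -3, -6, -11, -17, -23, -29 | yq418];
  %[0, 0, 0, 0, 0, 0, 0 | yq423]);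
  (let yq424 : type_of% yq422 := %[0, 0, 0, 0, 0, 0, 0 | yq422];
  %[0, 0, 0, 0, 0, 0 | yq424]))), (let yq425 : List ℤ := (let yq426 : List ℤ := (let yq427 : List ℤ := %[-2, -2, -3, -4, -3, -1 | []];
  %[1, -2, -3, -2, -2 | yq427]);
  (let yq428 : type_of% yq426 := %[-3, -2, -1, -1, 0, 2 | yq426];
  %[-2, -3, -3, -2, -2 | yq428]));
  (let yq429 : type_of% yq425 := (let yq430 : type_of% yq425 := %[0, 0, 0, -1, -2, -2 | yq425];
  %[0, 0, 0, 0, 0 | yq430]);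
  (let yq431 : type_of% yq429 := %[0, 0, 0, 0, 0, 0 | yq429];
  %[0, 0, 0, 0, 0 | yq431]))), (let yq432 : List ℤ := (let yq433 : List ℤ := (let yq434 : List ℤ := %[-2, -2, -3, -4, -3, -1 | []];
  %[1, -2, -3, -2, -2 | yq434]);
  (let yq435 : type_of% yq433 := %[-3, -2, -1, -1, 0, 2 | yq433];
  %[-2, -3, -3, -2, -2 | yq435]));
  (let yq436 : type_of% yq432 := (let yq437 : type_of% yq432 := %[0, 0, 0, -1, -2, -2 | yq432];
  %[0, 0, 0, 0, 0 | yq437]);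
  (let yq438 : type_of% yq436 := %[0, 0, 0, 0, 0, 0 | yq436];
  %[0, 0, 0, 0, 0 | yq438]))), (let yq439 : List ℤ := (let yq440 : List ℤ := (let yq441 : List ℤ := %[-24, -19, -14, -11, -8, -4, -1 | []];
  %[-16, -18, -21, -28, -32, -30, -27 | yq441]);
  (let yq442 : type_of% yq440 := %[-23, -14, -7, -7, -7, -6, -10 | yq440];
  %[-23, -26, -30, -30, -27, -26 | yq442]));
  (let yq443 : type_of% yq439 := (let yq444 : type_of% yq439 := %[0, -1, -3, -5, -8, -14, -20 | yq439];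
  %[0, 0, 0, 0, 0, 0 | yq444]);
  (let yq445 : type_of% yq443 := %[0, 0, 0, 0, 0, 0, 0 | yq443];
  %[0, 0, 0, 0, 0, 0 | yq445]))), (let yq446 : List ℤ := (let yq447 : List ℤ := (let yq448 : List ℤ := (let yq449 : List ℤ := %[-12, -8, -4, -1 | []];
  %[-40, -32, -24, -17 | yq449]);
  %[-31, -41, -48, -51, -53, -53, -48 | yq448]);
  (let yq450 : type_of% yq447 := (let yq451 : type_of% yq447 := %[-12, -12, -17, -23 | yq447];
  %[-42, -31, -23, -17 | yq451]);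
  %[-30, -38, -46, -52, -54, -54, -51 | yq450]));
  (let yq452 : type_of% yq446 := (let yq453 : type_of% yq446 := (let yq454 : type_of% yq446 := %[-3, -6, -12, -21 | yq446];
  %[0, 0, 0, -1 | yq454]);
  %[0, 0, 0, 0, 0, 0, 0 | yq453]);
  (let yq455 : type_of% yq452 := (let yq456 : type_of% yq452 := %[0, 0, 0, 0 | yq452];
  %[0, 0, 0, 0 | yq456]);
  %[0, 0, 0, 0, 0, 0, 0 | yq455]))), (let yq457 : List ℤ := (let yq458 : List ℤ := (let yq459 : List ℤ := %[-4, -3, -2, -3, -4, -3, -1 | []];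
  %[-2, -1, 1, 0, -3, -4, -4 | yq459]);
  (let yq460 : type_of% yq458 := %[-4, -4, -3, -3, -2, 0, 0 | yq458];
  %[0, -1, -3, -4, -3, -3 | yq460]));
  (let yq461 : type_of% yq457 := (let yq462 : type_of% yq457 := %[0, 0, 0, 0, 0, 0, 0 | yq457];
  %[0, 0, 0, 0, 0, 0, 0 | yq462]);
  (let yq463 : type_of% yq461 := %[0, 0, 0, 0, 0, 0, 0 | yq461];
  %[0, 0, 0, 0, 0, 0 | yq463]))), (let yq464 : List ℤ := (let yq465 : List ℤ := (let yq466 : List ℤ := %[-4, -3, -2, -3, -4, -3, -1 | []];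
  %[-2, -1, 1, 0, -3, -4, -4 | yq466]);
  (let yq467 : type_of% yq465 := %[-4, -4, -3, -3, -2, 0, 0 | yq465];
  %[0, -1, -3, -4, -3, -3 | yq467]));
  (let yq468 : type_of% yq464 := (let yq469 : type_of% yq464 := %[0, 0, 0, 0, 0, 0, 0 | yq464];
  %[0, 0, 0, 0, 0, 0, 0 | yq469]);
  (let yq470 : type_of% yq468 := %[0, 0, 0, 0, 0, 0, 0 | yq468];
  %[0, 0, 0, 0, 0, 0 | yq470]))), (let yq471 : List ℤ := (let yq472 : List ℤ := (let yq473 : List ℤ := (let yq474 : List ℤ := %[-10, -7, -5, -3, -1 | []];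
  %[-26, -22, -18, -14 | yq474]);
  (let yq475 : type_of% yq473 := %[-27, -28, -28, -28 | yq473];
  %[-12, -15, -18, -23 | yq475]));
  (let yq476 : type_of% yq472 := (let yq477 : type_of% yq472 := %[-13, -11, -9, -9 | yq472];
  %[-28, -27, -23, -17 | yq477]);
  (let yq478 : type_of% yq476 := %[-22, -26, -29, -29 | yq476];
  %[-5, -8, -13, -18 | yq478])));
  (let yq479 : type_of% yq471 := (let yq480 : type_of% yq471 := (let yq481 : type_of% yq471 := %[0, 0, -1, -3 | yq471];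
  %[0, 0, 0, 0 | yq481]);
  (let yq482 : type_of% yq480 := %[0, 0, 0, 0 | yq480];
  %[0, 0, 0, 0 | yq482]));
  (let yq483 : type_of% yq479 := (let yq484 : type_of% yq479 := %[0, 0, 0, 0 | yq479];
  %[0, 0, 0, 0 | yq484]);
  (let yq485 : type_of% yq483 := %[0, 0, 0, 0 | yq483];
  %[0, 0, 0, 0 | yq485])))), (let yq486 : List ℤ := (let yq487 : List ℤ := (let yq488 : List ℤ := (let yq489 : List ℤ := %[-10, -7, -5, -3, -1 | []];
  %[-26, -22, -18, -14 | yq489]);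
  (let yq490 : type_of% yq488 := %[-27, -28, -28, -28 | yq488];
  %[-12, -15, -18, -23 | yq490]));
  (let yq491 : type_of% yq487 := (let yq492 : type_of% yq487 := %[-13, -11, -9, -9 | yq487];
  %[-28, -27, -23, -17 | yq492]);
  (let yq493 : type_of% yq491 := %[-22, -26, -29, -29 | yq491];
  %[-5, -8, -13, -18 | yq493])));
  (let yq494 : type_of% yq486 := (let yq495 : type_of% yq486 := (let yq496 : type_of% yq486 := %[0, 0, -1, -3 | yq486];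
  %[0, 0, 0, 0 | yq496]);
  (let yq497 : type_of% yq495 := %[0, 0, 0, 0 | yq495];
  %[0, 0, 0, 0 | yq497]));
  (let yq498 : type_of% yq494 := (let yq499 : type_of% yq494 := %[0, 0, 0, 0 | yq494];
  %[0, 0, 0, 0 | yq499]);
  (let yq500 : type_of% yq498 := %[0, 0, 0, 0 | yq498];
  %[0, 0, 0, 0 | yq500])))), (let yq501 : List ℤ := (let yq502 : List ℤ := (let yq503 : List ℤ := (let yq504 : List ℤ := %[-1, -2, -2, -1 | []];
  %[-3, -3, -2, -1 | yq504]);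
  (let yq505 : type_of% yq503 := %[1, 1, -1, -3 | yq503];
  %[0, 0, -1, -1 | yq505]));
  (let yq506 : type_of% yq502 := (let yq507 : type_of% yq502 := %[-3, -2, -1, -1 | yq502];
  %[-2, -2, -2, -3 | yq507]);
  %[0, 0, 0, 0, 0, 0, -1 | yq506]));
  (let yq508 : type_of% yq501 := (let yq509 : type_of% yq501 := (let yq510 : type_of% yq501 := %[0, 0, 0, 0 | yq501];
  %[0, 0, 0, 0 | yq510]);
  %[0, 0, 0, 0, 0, 0, 0 | yq509]);
  (let yq511 : type_of% yq508 := (let yq512 : type_of% yq508 := %[0, 0, 0, 0 | yq508];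
  %[0, 0, 0, 0 | yq512]);
  %[0, 0, 0, 0, 0, 0, 0 | yq511]))), (let yq513 : List ℤ := (let yq514 : List ℤ := (let yq515 : List ℤ := (let yq516 : List ℤ := %[-14, -11, -8, -4, -1 | []];
  %[-35, -30, -25, -19 | yq516]);
  (let yq517 : type_of% yq515 := %[-35, -36, -38, -41, -40 | yq515];
  %[-15, -17, -21, -29 | yq517]));
  (let yq518 : type_of% yq514 := (let yq519 : type_of% yq514 := %[-28, -25, -19, -12, -11 | yq514];
  %[-40, -43, -42, -35 | yq519]);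
  (let yq520 : type_of% yq518 := %[-13, -18, -25, -33, -38 | yq518];
  %[0, 0, -2, -7 | yq520])));
  (let yq521 : type_of% yq513 := (let yq522 : type_of% yq513 := (let yq523 : type_of% yq513 := %[0, 0, 0, 0, 0 | yq513];
  %[0, 0, 0, 0 | yq523]);
  (let yq524 : type_of% yq522 := %[0, 0, 0, 0, 0 | yq522];
  %[0, 0, 0, 0 | yq524]));
  (let yq525 : type_of% yq521 := (let yq526 : type_of% yq521 := %[0, 0, 0, 0, 0 | yq521];
  %[0, 0, 0, 0 | yq526]);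
  (let yq527 : type_of% yq525 := %[0, 0, 0, 0 | yq525];
  %[0, 0, 0, 0 | yq527])))), (let yq528 : List ℤ := (let yq529 : List ℤ := (let yq530 : List ℤ := (let yq531 : List ℤ := %[-6, -4, -3, -2, -1 | []];
  %[-15, -14, -12, -10, -8 | yq531]);
  (let yq532 : type_of% yq530 := %[-13, -15, -17, -17, -16 | yq530];
  %[-7, -7, -8, -10, -12 | yq532]));
  (let yq533 : type_of% yq529 := (let yq534 : type_of% yq529 := %[-15, -14, -12, -9, -7 | yq529];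
  %[-13, -15, -17, -18, -17 | yq534]);
  (let yq535 : type_of% yq533 := %[-1, -3, -5, -7, -10 | yq533];
  %[0, 0, 0, 0 | yq535])));
  (let yq536 : type_of% yq528 := (let yq537 : type_of% yq528 := (let yq538 : type_of% yq528 := %[0, 0, 0, 0, 0 | yq528];
  %[0, 0, 0, 0, 0 | yq538]);
  (let yq539 : type_of% yq537 := %[0, 0, 0, 0, 0 | yq537];
  %[0, 0, 0, 0, 0 | yq539]));
  (let yq540 : type_of% yq536 := (let yq541 : type_of% yq536 := %[0, 0, 0, 0, 0 | yq536];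
  %[0, 0, 0, 0, 0 | yq541]);
  (let yq542 : type_of% yq540 := %[0, 0, 0, 0, 0 | yq540];
  %[0, 0, 0, 0 | yq542])))), (let yq543 : List ℤ := (let yq544 : List ℤ := (let yq545 : List ℤ := %[0, 1, 2, 1, -1, -2, -1 | []];
  %[-1, -1, 0, 1, 0, -1, -1 | yq545]);
  (let yq546 : type_of% yq544 := %[0, 0, 0, 0, 0, 0, 0 | yq544];
  %[0, 0, 0, 0, 0, 0, 0 | yq546]));
  (let yq547 : type_of% yq543 := (let yq548 : type_of% yq543 := %[0, 0, 0, 0, 0, 0, 0 | yq543];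
  %[0, 0, 0, 0, 0, 0, 0 | yq548]);
  (let yq549 : type_of% yq547 := %[0, 0, 0, 0, 0, 0, 0 | yq547];
  %[0, 0, 0, 0, 0, 0 | yq549]))), (let yq550 : List ℤ := (let yq551 : List ℤ := (let yq552 : List ℤ := (let yq553 : List ℤ := %[-2, -3, -4, -3, -1 | []];
  %[-6, -6, -5, -3 | yq553]);
  (let yq554 : type_of% yq552 := %[-3, -1, 0, -2, -5 | yq552];
  %[-3, -2, -1, -2 | yq554]));
  (let yq555 : type_of% yq551 := (let yq556 : type_of% yq551 := %[-5, -6, -5, -3, -2 | yq551];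
  %[-1, -2, -4, -5 | yq556]);
  (let yq557 : type_of% yq555 := %[0, 0, -1, -2, -2 | yq555];
  %[0, 0, 0, 0 | yq557])));
  (let yq558 : type_of% yq550 := (let yq559 : type_of% yq550 := (let yq560 : type_of% yq550 := %[0, 0, 0, 0, 0 | yq550];
  %[0, 0, 0, 0 | yq560]);
  (let yq561 : type_of% yq559 := %[0, 0, 0, 0, 0 | yq559];
  %[0, 0, 0, 0 | yq561]));
  (let yq562 : type_of% yq558 := (let yq563 : type_of% yq558 := %[0, 0, 0, 0, 0 | yq558];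
  %[0, 0, 0, 0 | yq563]);
  (let yq564 : type_of% yq562 := %[0, 0, 0, 0, 0 | yq562];
  %[0, 0, 0, 0 | yq564])))), (let yq565 : List ℤ := (let yq566 : List ℤ := (let yq567 : List ℤ := (let yq568 : List ℤ := %[-3, -2, -3, -4, -3, -1 | []];
  %[-3, -5, -6, -6, -5 | yq568]);
  (let yq569 : type_of% yq567 := %[0, -2, -4, -3, -2 | yq567];
  %[-4, -3, -3, -3, -1 | yq569]));
  (let yq570 : type_of% yq566 := (let yq571 : type_of% yq566 := %[-4, -6, -6, -5, -5 | yq566];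
  %[0, -1, -2, -2, -2 | yq571]);
  (let yq572 : type_of% yq570 := %[0, 0, 0, 0, 0 | yq570];
  %[0, 0, 0, 0, 0 | yq572])));
  (let yq573 : type_of% yq565 := (let yq574 : type_of% yq565 := (let yq575 : type_of% yq565 := %[0, 0, 0, 0, 0 | yq565];
  %[0, 0, 0, 0, 0 | yq575]);
  (let yq576 : type_of% yq574 := %[0, 0, 0, 0, 0 | yq574];
  %[0, 0, 0, 0, 0 | yq576]));
  (let yq577 : type_of% yq573 := (let yq578 : type_of% yq573 := %[0, 0, 0, 0, 0 | yq573];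
  %[0, 0, 0, 0, 0 | yq578]);
  (let yq579 : type_of% yq577 := %[0, 0, 0, 0, 0 | yq577];
  %[0, 0, 0, 0, 0 | yq579])))), (let yq580 : List ℤ := (let yq581 : List ℤ := (let yq582 : List ℤ := (let yq583 : List ℤ := %[0, 1, 1, 0, -1, -1 | []];
  %[1, 1, 0, -1, -1 | yq583]);
  (let yq584 : type_of% yq582 := %[0, 0, -1, -1, 0 | yq582];
  %[0, 0, 0, 0, 0 | yq584]));
  (let yq585 : type_of% yq581 := (let yq586 : type_of% yq581 := %[0, 0, 0, 0, 0 | yq581];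
  %[0, 0, 0, 0, 0 | yq586]);
  (let yq587 : type_of% yq585 := %[0, 0, 0, 0, 0 | yq585];
  %[0, 0, 0, 0, 0 | yq587])));
  (let yq588 : type_of% yq580 := (let yq589 : type_of% yq580 := (let yq590 : type_of% yq580 := %[0, 0, 0, 0, 0, 0 | yq580];
  %[0, 0, 0, 0, 0 | yq590]);
  (let yq591 : type_of% yq589 := %[0, 0, 0, 0, 0 | yq589];
  %[0, 0, 0, 0, 0 | yq591]));
  (let yq592 : type_of% yq588 := (let yq593 : type_of% yq588 := %[0, 0, 0, 0, 0 | yq588];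
  %[0, 0, 0, 0, 0 | yq593]);
  (let yq594 : type_of% yq592 := %[0, 0, 0, 0, 0 | yq592];
  %[0, 0, 0, 0, 0 | yq594]))))] : List (List ℤ)).getD c []

/-- `(χ₈ - χ₅₆₇) / P2` -/
def q2 (c : Fin 26) : List ℤ := ([[], (beta% delta% lq26b4cda9c8 fun a b _ =>
 (a 0<|a 1<|a 0<|a 1<|a 1<|a 2<|a 1<|a 2<|a 2<|a 2<|a 2<|a 1<|a 2<|a 1<|a 1<|a 0<|a 1<|b) :
 List ℤ), (beta% delta% lq26b4cda9c8 fun a b _ =>
 (a 0<|a (-1)<|a 0<|a (-1)<|a (-1)<|a (-1)<|a 0<|a 0<|a 1<|a 3<|a 3<|a 6<|a 6<|a 8<|a 8<|a 9<|a 8<|a 8<|a 7<|a 5<|a 5<|a 3<|a 2<|a 1<|a 1<|b) :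
 List ℤ), (beta% delta% lq26b4cda9c8 fun a b _ =>
 (a 0<|a 0<|a 0<|a 0<|a (-1)<|a 0<|a 0<|a 0<|a (-1)<|a 1<|a 0<|a 2<|a (-1)<|a 4<|a 0<|a 4<|a 0<|a 4<|a 1<|a 3<|a 0<|a 3<|a 0<|a 1<|a 0<|a 1<|b) :
 List ℤ), (beta% delta% lq26b4cda9c8 fun a b _ =>
 (a 0<|a 0<|a 0<|a 0<|a 1<|a (-1)<|a (-1)<|a (-2)<|a (-2)<|a (-8)<|a (-4)<|a (-8)<|a (-5)<|a (-10)<|a 0<|a (-4)<|a 6<|a 3<|a 15<|a 13<|a 20<|a 16<|a 23<|a 18<|a 17<|a 13<|a 13<|a 7<|a 5<|a 3<|a 2<|b) :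
 List ℤ), (let yq595 : List ℤ := (let yq596 : List ℤ := (let yq597 : List ℤ := %[6, 4, 2, 1, 1 | []];
  %[13, 13, 12, 10, 7 | yq597]);
  (let yq598 : type_of% yq596 := %[3, 8, 9, 12, 14 | yq596];
  %[-7, -5, -3, 1 | yq598]));
  (let yq599 : type_of% yq595 := (let yq600 : type_of% yq595 := %[-5, -5, -7, -8, -7 | yq595];
  %[1, -1, -1, -1, -3 | yq600]);
  (let yq601 : type_of% yq599 := %[0, 0, 0, 0, 0 | yq599];
  %[0, 0, 0, 0 | yq601]))), (let yq602 : List ℤ := (let yq603 : List ℤ := (let yq604 : List ℤ := %[6, 4, 2, 1, 1 | []];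
  %[13, 13, 12, 10, 7 | yq604]);
  (let yq605 : type_of% yq603 := %[3, 8, 9, 12, 14 | yq603];
  %[-7, -5, -3, 1 | yq605]));
  (let yq606 : type_of% yq602 := (let yq607 : type_of% yq602 := %[-5, -5, -7, -8, -7 | yq602];
  %[1, -1, -1, -1, -3 | yq607]);
  (let yq608 : type_of% yq606 := %[0, 0, 0, 0, 0 | yq606];
  %[0, 0, 0, 0 | yq608]))), (beta% delta% lq26b4cda9c8 fun a b _ =>
 (a 0<|a 0<|a 0<|a 0<|a 0<|a 0<|a 0<|a 0<|a 0<|a 1<|a 0<|a 0<|a 0<|a 1<|a (-2)<|a 1<|a (-2)<|a 1<|a (-3)<|a 1<|a (-2)<|a 2<|a (-2)<|a 2<|a 0<|a 2<|a 0<|a 2<|a 1<|a 1<|a 0<|a 1<|b) :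
 List ℤ), (let yq609 : List ℤ := (let yq610 : List ℤ := (let yq611 : List ℤ := %[12, 9, 6, 3, 1, 1 | []];
  %[25, 24, 23, 21, 17 | yq611]);
  (let yq612 : type_of% yq610 := %[-10, -4, 4, 11, 16, 21 | yq610];
  %[-15, -19, -18, -19, -14 | yq612]));
  (let yq613 : type_of% yq609 := (let yq614 : type_of% yq609 := %[1, 1, 0, -5, -8, -12 | yq609];
  %[1, 1, 1, 2, 4 | yq614]);
  (let yq615 : type_of% yq613 := %[0, 0, 0, 0, -1 | yq613];
  %[0, 0, 0, 0, 0 | yq615]))), (beta% delta% lq26b4cda9c8 fun a b _ =>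
 (a 0<|a 0<|a 0<|a 0<|a 0<|a 0<|a 0<|a 0<|a 0<|a 0<|a 0<|a 0<|a 1<|a (-2)<|a 2<|a (-2)<|a 2<|a (-2)<|a 2<|a (-2)<|a 2<|a (-2)<|a 2<|a (-1)<|a 1<|a (-1)<|a 1<|b) :
 List ℤ), (let yq616 : List ℤ := (let yq617 : List ℤ := (let yq618 : List ℤ := %[10, 7, 5, 3, 1, 1 | []];
  %[12, 15, 17, 16, 15, 13 | yq618]);
  (let yq619 : type_of% yq617 := %[-16, -12, -8, -3, 3, 8 | yq617];
  %[-7, -10, -13, -16, -17, -17 | yq619]));
  (let yq620 : type_of% yq616 := (let yq621 : type_of% yq616 := %[0, 1, 1, -1, -1, -4 | yq616];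
  %[-1, 0, -1, -1, 0, 0 | yq621]);
  (let yq622 : type_of% yq620 := %[0, 0, 0, 0, 0, 0 | yq620];
  %[0, 0, 0, 0, 0, 0 | yq622]))), (let yq623 : List ℤ := (let yq624 : List ℤ := (let yq625 : List ℤ := %[3, 1, 1, 1, 1 | []];
  %[-1, 3, 1, 2, 1 | yq625]);
  (let yq626 : type_of% yq624 := %[1, -4, 1, -1, 1 | yq624];
  %[-3, 2, -5, 2, -4 | yq626]));
  (let yq627 : type_of% yq623 := (let yq628 : type_of% yq623 := %[2, -2, 3, -4, 3 | yq623];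
  %[0, 0, -1, 2, -2 | yq628]);
  (let yq629 : type_of% yq627 := %[0, 0, 0, 0, 0 | yq627];
  %[0, 0, 0, 0, 0 | yq629]))), (let yq630 : List ℤ := (let yq631 : List ℤ := (let yq632 : List ℤ := %[3, 1, 1, 1, 1 | []];
  %[-1, 3, 1, 2, 1 | yq632]);
  (let yq633 : type_of% yq631 := %[1, -4, 1, -1, 1 | yq631];
  %[-3, 2, -5, 2, -4 | yq633]));
  (let yq634 : type_of% yq630 := (let yq635 : type_of% yq630 := %[2, -2, 3, -4, 3 | yq630];
  %[0, 0, -1, 2, -2 | yq635]);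
  (let yq636 : type_of% yq634 := %[0, 0, 0, 0, 0 | yq634];
  %[0, 0, 0, 0, 0 | yq636]))), (let yq637 : List ℤ := (let yq638 : List ℤ := (let yq639 : List ℤ := %[7, 7, 4, 2, 1, 1 | []];
  %[11, 13, 11, 14, 13, 10 | yq639]);
  (let yq640 : type_of% yq638 := %[-12, -11, -6, 0, 0, 6 | yq638];
  %[0, -10, -8, -15, -12, -13 | yq640]));
  (let yq641 : type_of% yq637 := (let yq642 : type_of% yq637 := %[7, -5, 5, -3, 4, -9 | yq637];
  %[1, -2, 2, -2, 2, -3 | yq642]);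
  (let yq643 : type_of% yq641 := %[0, 0, 0, 0, 0, 0 | yq641];
  %[0, 0, 0, 0, 0, 0 | yq643]))), (let yq644 : List ℤ := (let yq645 : List ℤ := (let yq646 : List ℤ := %[16, 14, 12, 8, 5, 3, 2 | []];
  %[-4, 4, 10, 13, 17, 18 | yq646]);
  (let yq647 : type_of% yq645 := %[-20, -24, -24, -25, -21, -16, -11 | yq645];
  %[2, -2, -2, -7, -11, -16 | yq647]));
  (let yq648 : type_of% yq644 := (let yq649 : type_of% yq644 := %[0, -3, -1, 0, 0, 0, 2 | yq644];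
  %[0, 0, 0, 0, -1, -2 | yq649]);
  (let yq650 : type_of% yq648 := %[0, 0, 0, 0, 0, 0, 0 | yq648];
  %[0, 0, 0, 0, 0, 0 | yq650]))), (let yq651 : List ℤ := (let yq652 : List ℤ := (let yq653 : List ℤ := %[2, 0, 2, 1, 1, 0, 1 | []];
  %[0, -2, 2, -2, 2, 1 | yq653]);
  (let yq654 : type_of% yq652 := %[1, -4, 0, -4, 1, -4 | yq652];
  %[-1, 0, 1, -1, 0, -2 | yq654]));
  (let yq655 : type_of% yq651 := (let yq656 : type_of% yq651 := %[-1, 1, -1, 0, 0, 1 | yq651];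
  %[0, 0, 0, 0, 0, 0 | yq656]);
  (let yq657 : type_of% yq655 := %[0, 0, 0, 0, 0, 0 | yq655];
  %[0, 0, 0, 0, 0, 0 | yq657]))), (let yq658 : List ℤ := (let yq659 : List ℤ := (let yq660 : List ℤ := %[2, 0, 2, 1, 1, 0, 1 | []];
  %[0, -2, 2, -2, 2, 1 | yq660]);
  (let yq661 : type_of% yq659 := %[1, -4, 0, -4, 1, -4 | yq659];
  %[-1, 0, 1, -1, 0, -2 | yq661]));
  (let yq662 : type_of% yq658 := (let yq663 : type_of% yq658 := %[-1, 1, -1, 0, 0, 1 | yq658];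
  %[0, 0, 0, 0, 0, 0 | yq663]);
  (let yq664 : type_of% yq662 := %[0, 0, 0, 0, 0, 0 | yq662];
  %[0, 0, 0, 0, 0, 0 | yq664]))), (let yq665 : List ℤ := (let yq666 : List ℤ := (let yq667 : List ℤ := (let yq668 : List ℤ := %[3, 2, 1, 1 | []];
  %[7, 6, 5, 5 | yq668]);
  %[-9, -7, -4, 0, 3, 4, 6 | yq667]);
  (let yq669 : type_of% yq666 := %[-7, -10, -12, -13, -13, -14, -12 | yq666];
  %[-2, -1, -1, -1, -3, -3, -6 | yq669]));
  (let yq670 : type_of% yq665 := (let yq671 : type_of% yq665 := %[0, -1, -1, 0, -2, -2, 0 | yq665];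
  %[0, 0, 0, 0, 1, -1, 1 | yq671]);
  (let yq672 : type_of% yq670 := %[0, 0, 0, 0, 0, 0, 0 | yq670];
  %[0, 0, 0, 0, 0, 0, 0 | yq672]))), (let yq673 : List ℤ := (let yq674 : List ℤ := (let yq675 : List ℤ := (let yq676 : List ℤ := %[3, 2, 1, 1 | []];
  %[7, 6, 5, 5 | yq676]);
  %[-9, -7, -4, 0, 3, 4, 6 | yq675]);
  (let yq677 : type_of% yq674 := %[-7, -10, -12, -13, -13, -14, -12 | yq674];
  %[-2, -1, -1, -1, -3, -3, -6 | yq677]));
  (let yq678 : type_of% yq673 := (let yq679 : type_of% yq673 := %[0, -1, -1, 0, -2, -2, 0 | yq673];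
  %[0, 0, 0, 0, 1, -1, 1 | yq679]);
  (let yq680 : type_of% yq678 := %[0, 0, 0, 0, 0, 0, 0 | yq678];
  %[0, 0, 0, 0, 0, 0, 0 | yq680]))), (let yq681 : List ℤ := (let yq682 : List ℤ := (let yq683 : List ℤ := %[1, -1, 2, 0, 1, 0, 1 | []];
  %[-4, 1, -3, 1, -3, 1, -1 | yq683]);
  (let yq684 : type_of% yq682 := %[3, -2, 3, -3, 2, -3, 2 | yq682];
  %[1, -1, 1, -2, 3, -3 | yq684]));
  (let yq685 : type_of% yq681 := (let yq686 : type_of% yq681 := %[0, 0, 0, 0, 0, 0, -1 | yq681];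
  %[0, 0, 0, 0, 0, 0 | yq686]);
  (let yq687 : type_of% yq685 := %[0, 0, 0, 0, 0, 0, 0 | yq685];
  %[0, 0, 0, 0, 0, 0 | yq687]))), (let yq688 : List ℤ := (let yq689 : List ℤ := (let yq690 : List ℤ := (let yq691 : List ℤ := %[3, 2, 1, 1 | []];
  %[5, 6, 4, 6 | yq691]);
  (let yq692 : type_of% yq690 := %[-7, 0, -2, 6 | yq690];
  %[-22, -13, -19, -8 | yq692]));
  (let yq693 : type_of% yq689 := (let yq694 : type_of% yq689 := %[-19, -11, -24, -17 | yq689];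
  %[-8, 1, -13, -7 | yq694]);
  %[2, -4, 1, -6, 5, -6, 3 | yq693]));
  (let yq695 : type_of% yq688 := (let yq696 : type_of% yq688 := (let yq697 : type_of% yq688 := %[0, 0, 1, -5 | yq688];
  %[0, 1, 2, 0 | yq697]);
  (let yq698 : type_of% yq696 := %[0, 0, 0, 1 | yq696];
  %[0, 0, 0, 0 | yq698]));
  (let yq699 : type_of% yq695 := (let yq700 : type_of% yq695 := %[0, 0, 0, 0 | yq695];
  %[0, 0, 0, 0 | yq700]);
  %[0, 0, 0, 0, 0, 0, 0 | yq699]))), (let yq701 : List ℤ := (let yq702 : List ℤ := (let yq703 : List ℤ := (let yq704 : List ℤ := %[1, 1, 1, 0, 1 | []];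
  %[-3, -1, 0, 0 | yq704]);
  (let yq705 : type_of% yq703 := %[-8, -7, -5, -4 | yq703];
  %[-7, -8, -8, -8 | yq705]));
  (let yq706 : type_of% yq702 := (let yq707 : type_of% yq702 := %[-2, -3, -5, -5 | yq702];
  %[-1, 0, -1, -1 | yq707]);
  (let yq708 : type_of% yq706 := %[0, 0, -1, 1 | yq706];
  %[2, 1, 0, 1 | yq708])));
  (let yq709 : type_of% yq701 := (let yq710 : type_of% yq701 := (let yq711 : type_of% yq701 := %[0, 1, 1, 2, 0 | yq701];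
  %[0, 0, 0, 1 | yq711]);
  (let yq712 : type_of% yq710 := %[0, 0, 0, 0 | yq710];
  %[0, 0, 0, 0 | yq712]));
  (let yq713 : type_of% yq709 := (let yq714 : type_of% yq709 := %[0, 0, 0, 0 | yq709];
  %[0, 0, 0, 0 | yq714]);
  (let yq715 : type_of% yq713 := %[0, 0, 0, 0 | yq713];
  %[0, 0, 0, 0 | yq715])))), (let yq716 : List ℤ := (let yq717 : List ℤ := (let yq718 : List ℤ := %[2, -2, 1, -1, 1, -1, 1 | []];
  %[3, -3, 3, -3, 2, -2 | yq718]);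
  (let yq719 : type_of% yq717 := %[3, -3, 3, -3, 3, -3 | yq717];
  %[1, -1, 1, -1, 1, -2 | yq719]));
  (let yq720 : type_of% yq716 := (let yq721 : type_of% yq716 := %[0, 0, 0, 0, 0, 0, 0 | yq716];
  %[0, 0, 0, 0, 0, 0 | yq721]);
  (let yq722 : type_of% yq720 := %[0, 0, 0, 0, 0, 0 | yq720];
  %[0, 0, 0, 0, 0, 0 | yq722]))), (let yq723 : List ℤ := (let yq724 : List ℤ := (let yq725 : List ℤ := (let yq726 : List ℤ := %[0, 1, 0, 1 | []];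
  %[-2, 1, -2, 2 | yq726]);
  (let yq727 : type_of% yq725 := %[-5, 1, -5, 1 | yq725];
  %[-6, 3, -7, 1 | yq727]));
  (let yq728 : type_of% yq724 := (let yq729 : type_of% yq724 := %[-6, 5, -6, 3 | yq724];
  %[-6, 6, -6, 5 | yq729]);
  (let yq730 : type_of% yq728 := %[-5, 6, -5, 5 | yq728];
  %[-3, 4, -3, 5 | yq730])));
  (let yq731 : type_of% yq723 := (let yq732 : type_of% yq723 := (let yq733 : type_of% yq723 := %[-1, 1, -1, 3 | yq723];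
  %[0, 0, -1, 1 | yq733]);
  (let yq734 : type_of% yq732 := %[0, 0, 0, 0 | yq732];
  %[0, 0, 0, 0 | yq734]));
  (let yq735 : type_of% yq731 := (let yq736 : type_of% yq731 := %[0, 0, 0, 0 | yq731];
  %[0, 0, 0, 0 | yq736]);
  %[0, 0, 0, 0, 0, 0, 0 | yq735]))), (let yq737 : List ℤ := (let yq738 : List ℤ := (let yq739 : List ℤ := (let yq740 : List ℤ := %[0, -1, 0, -1, 1 | []];
  %[-1, -3, -1, -3 | yq740]);
  (let yq741 : type_of% yq739 := %[0, -4, 0, -5 | yq739];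
  %[2, -3, 2, -4 | yq741]));
  (let yq742 : type_of% yq738 := (let yq743 : type_of% yq738 := %[-3, 3, -3, 3, -3 | yq738];
  %[-2, 3, -3, 3 | yq743]);
  (let yq744 : type_of% yq742 := %[-2, 3, -3, 3 | yq742];
  %[-2, 2, -3, 2 | yq744])));
  (let yq745 : type_of% yq737 := (let yq746 : type_of% yq737 := (let yq747 : type_of% yq737 := %[0, -1, 0, -1, 0 | yq737];
  %[0, 0, 0, 0 | yq747]);
  (let yq748 : type_of% yq746 := %[0, 0, 0, 0 | yq746];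
  %[0, 0, 0, 0 | yq748]));
  (let yq749 : type_of% yq745 := (let yq750 : type_of% yq745 := %[0, 0, 0, 0, 0 | yq745];
  %[0, 0, 0, 0 | yq750]);
  (let yq751 : type_of% yq749 := %[0, 0, 0, 0 | yq749];
  %[0, 0, 0, 0 | yq751])))), (let yq752 : List ℤ := (let yq753 : List ℤ := (let yq754 : List ℤ := (let yq755 : List ℤ := %[-1, 1, -1, 1, -1 | []];
  %[-1, 1, -1, 1 | yq755]);
  (let yq756 : type_of% yq754 := %[-1, 1, -1, 1 | yq754];
  %[-1, 1, -1, 1 | yq756]));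
  (let yq757 : type_of% yq753 := (let yq758 : type_of% yq753 := %[1, -1, 1, -1, 1 | yq753];
  %[0, -1, 1, -1 | yq758]);
  (let yq759 : type_of% yq757 := %[0, 0, 0, 0 | yq757];
  %[0, 0, 0, 0 | yq759])));
  (let yq760 : type_of% yq752 := (let yq761 : type_of% yq752 := (let yq762 : type_of% yq752 := %[0, 0, 0, 0, 0 | yq752];
  %[0, 0, 0, 0 | yq762]);
  (let yq763 : type_of% yq761 := %[0, 0, 0, 0 | yq761];
  %[0, 0, 0, 0 | yq763]));
  (let yq764 : type_of% yq760 := (let yq765 : type_of% yq760 := %[0, 0, 0, 0, 0 | yq760];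
  %[0, 0, 0, 0 | yq765]);
  (let yq766 : type_of% yq764 := %[0, 0, 0, 0 | yq764];
  %[0, 0, 0, 0 | yq766]))))] : List (List ℤ)).getD c []

theorem q6_ok : ∀ c, pEq (pAdd (lam8 c) (pNeg (TabE8c.kk c))) (pMul (Phi 6) (q6 c)) = true := by (simp only [Cfsg.Agent.H996.Eight.Kq.pEq_eq]; decide +kernel)

theorem q2_ok : ∀ c, pEq (pAdd (lam8 c) (pNeg (lam567 c))) (pMul (Phi 2) (q2 c)) = true := by (simp only [Cfsg.Agent.H996.Eight.Kq.pEq_eq]; decide +kernel)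

/-- the degree of `χ₅₆₇` without `P3³` -/
def r3 : List ℤ := (let yq767 : List ℤ := (let yq768 : List ℤ := (let yq769 : List ℤ := (let yq770 : List ℤ := %[-4, -1, 4, -3, 1 | []];
  %[17, -14, 3, 5 | yq770]);
  (let yq771 : type_of% yq769 := %[-29, 5, 14, -11, -5 | yq769];
  %[21, -20, -9, 34 | yq771]));
  (let yq772 : type_of% yq768 := (let yq773 : type_of% yq768 := %[-33, -3, 47, -50, 15 | yq768];
  %[53, -70, 32, 22 | yq773]);
  (let yq774 : type_of% yq772 := %[47, 18, -43, 7 | yq772];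
  %[-43, 18, 47, -79 | yq774])));
  (let yq775 : type_of% yq767 := (let yq776 : type_of% yq767 := (let yq777 : type_of% yq767 := %[22, 32, -70, 53, 7 | yq767];
  %[-50, 47, -3, -33 | yq777]);
  (let yq778 : type_of% yq776 := %[-9, -20, 21, 15 | yq776];
  %[14, 5, -29, 34 | yq778]));
  (let yq779 : type_of% yq775 := (let yq780 : type_of% yq775 := %[3, -14, 17, -5, -11 | yq775];
  %[4, -1, -4, 5 | yq780]);
  (let yq781 : type_of% yq779 := %[0, 0, 1, -3 | yq779];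
  %[0, 0, 0, 0 | yq781]))))

/-- the degree of `χ₅₆₇` without `P6³` -/
def r6 : List ℤ := (let yq782 : List ℤ := (let yq783 : List ℤ := (let yq784 : List ℤ := (let yq785 : List ℤ := %[-4, 1, 4, 3, 1 | []];
  %[17, 14, 3, -5 | yq785]);
  (let yq786 : type_of% yq784 := %[29, 5, -14, -11, 5 | yq784];
  %[-21, -20, 9, 34 | yq786]));
  (let yq787 : type_of% yq783 := (let yq788 : type_of% yq783 := %[-33, 3, 47, 50, 15 | yq783];
  %[53, 70, 32, -22 | yq788]);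
  (let yq789 : type_of% yq787 := %[47, -18, -43, -7 | yq787];
  %[-43, -18, 47, 79 | yq789])));
  (let yq790 : type_of% yq782 := (let yq791 : type_of% yq782 := (let yq792 : type_of% yq782 := %[-22, 32, 70, 53, -7 | yq782];
  %[50, 47, 3, -33 | yq792]);
  (let yq793 : type_of% yq791 := %[9, -20, -21, 15 | yq791];
  %[-14, 5, 29, 34 | yq793]));
  (let yq794 : type_of% yq790 := (let yq795 : type_of% yq790 := %[3, 14, 17, 5, -11 | yq790];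
  %[4, 1, -4, -5 | yq795]);
  (let yq796 : type_of% yq794 := %[0, 0, 1, 3 | yq794];
  %[0, 0, 0, 0 | yq796]))))

theorem r3_ok : pEq c567.dn (pMul (pPow (Phi 3) 3) r3) = true := by (simp only [Cfsg.Agent.H996.Eight.Kq.pEq_eq]; decide +kernel)

theorem r6_ok : pEq c567.dn (pMul (pPow (Phi 6) 3) r6) = true := by (simp only [Cfsg.Agent.H996.Eight.Kq.pEq_eq]; decide +kernel)

theorem hA : cartanOf chevE8 8 = TabE8c.A := by
  funext i k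
  revert i k
  decide +kernel

theorem cls0 : TabE8c.data.t.cls TabE8c.data.t.o = 0 := by decide +kernel

/-- the degree of `χ₅₆₇` -/
theorem val567 {x : ℕ} (hx : 2 ≤ x) : ((val c567.den c567.dn x : ℕ) : ℤ) = evZ x c567.dn := by
  have h1 := deg_polOf' ok567.2.2.2.2 ok567.2.1 dvd567 hx (0 : Fin 1)
  have h2 : ((polOf c567).den 0 : ℤ) = 1 := rfl
  rw [h2, one_mul] at h1
  exact h1

/-- the degree of a character with the certificate of `χ₅₆₇` -/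
theorem deg567 {G : Type u} [Group G] {χ : IrrCharacter G} {x : ℕ} (hx : 2 ≤ x)
    (h : charDegree (χ : G → ℂ) = val c567.den c567.dn x) : (charDegree (χ : G → ℂ) : ℤ) = evZ x c567.dn := by
  rw [h]
  exact val567 hx

theorem cube3 {G : Type u} [Group G] {χ : IrrCharacter G} {x : ℕ} (hx : 2 ≤ x)
    (h : charDegree (χ : G → ℂ) = val c567.den c567.dn x) :
    ((Polynomial.cyclotomic 3 ℤ).eval (x : ℤ)) ^ 3 ∣ (charDegree (χ : G → ℂ) : ℤ) := by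
  have h1 : (Polynomial.cyclotomic 3 ℤ).eval (x : ℤ) = evZ x (Phi 3) := by
    rw [Polynomial.cyclotomic_three, ev3]
    simp
  rw [deg567 hx h, h1, evZ_of_pEq (x : ℤ) r3_ok, evZ_pMul, evZ_pPow]
  exact dvd_mul_right _ _

theorem cube6 {G : Type u} [Group G] {χ : IrrCharacter G} {x : ℕ} (hx : 2 ≤ x)
    (h : charDegree (χ : G → ℂ) = val c567.den c567.dn x) :
    ((Polynomial.cyclotomic 6 ℤ).eval (x : ℤ)) ^ 3 ∣ (charDegree (χ : G → ℂ) : ℤ) := by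
  have h1 : (Polynomial.cyclotomic 6 ℤ).eval (x : ℤ) = evZ x (Phi 6) := by
    rw [Polynomial.cyclotomic_six, ev6]
    simp
  rw [deg567 hx h, h1, evZ_of_pEq (x : ℤ) r6_ok, evZ_pMul, evZ_pPow]
  exact dvd_mul_right _ _

end E8m

/-- **Type `E₈`, the orders `2` and `6`.** -/
theorem kill_E8_26 (K : Type u) [Field K] [Fintype K] : Kill ↥(chevE8.group K) (Fintype.card K) 2 6 := by
  intro p l hp hl _ hl2 _ _ _ hp' hl' hS
  have : Finite ↥(chevE8.group K) := inferInstance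
  have hx : 2 ≤ Fintype.card K := Fintype.one_lt_card
  have hS' : B0 p ↥(chevE8.group K) = B0 l ↥(chevE8.group K) := hS
  obtain ⟨P, hP⟩ := split_mod hpE8 K E8m.hA TabE8c.data (by decide +kernel) E8m.cls0
  obtain ⟨χ, h1⟩ := hP.ex c8 ok8 uq8 dvd8
  obtain ⟨ψ, h2⟩ := hP.ex c567 ok567 uq567 dvd567
  have h3 : χ ∈ B0 l ↥(chevE8.group K) :=
    hP.sl h1 lam_ok8 hl (dvd_of_quo E8m.q6_ok (dvd_Phi hl hl' (by decide)))
  rw [← hS'] at h3
  have h4 : ψ ∈ B0 p ↥(chevE8.group K) :=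
    (hP.link h1 h2 lam_ok8 lam_ok567 hp (dvd_of_quo E8m.q2_ok (dvd_Phi hp hp' (by decide)))).1 h3
  rw [hS'] at h4
  exact H329.PQ.not_mem_E8 K hl hl2 (Or.inr rfl) hl' (hP.rat h2) (E8m.cube6 hx (hP.deg h2)) h4

/-- **Type `E₈`, the prime `2` and the order `3`.** -/
theorem killTwo_E8_3 (K : Type u) [Field K] [Fintype K] (hodd : Fintype.card K % 2 = 1) :
    KillTwo ↥(chevE8.group K) (Fintype.card K) 3 := by
  intro l hl hl2 _ hl' hS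
  have : Finite ↥(chevE8.group K) := inferInstance
  have hx : 2 ≤ Fintype.card K := Fintype.one_lt_card
  have hS' : B0 2 ↥(chevE8.group K) = B0 l ↥(chevE8.group K) := hS
  obtain ⟨P, hP⟩ := split_mod hpE8 K E8m.hA TabE8c.data (by decide +kernel) E8m.cls0
  obtain ⟨ψ, h2⟩ := hP.ex c567 ok567 uq567 dvd567
  have h1 : ∀ g, ∃ k : ℤ, (ψ : ↥(chevE8.group K) → ℂ) g = k := fun g =>
    Cfsg.Agent.Characters.GaloisBasic.exists_int_of_rat (Characters.Core.isIrr_isCharacter ψ.2) g (hP.rat h2 g)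
  choose v hv using h1
  have h3 : v 1 = evZ (Fintype.card K : ℕ) c567.dn := by
    have h4 := Blocks.Basic.irr_one_eq_charDegree ψ.2
    rw [hv] at h4
    have h5 : v 1 = (charDegree (ψ : ↥(chevE8.group K) → ℂ) : ℤ) := by exact_mod_cast h4
    rw [h5, E8m.deg567 hx (hP.deg h2)]
  have h4 : ψ ∈ B0 2 ↥(chevE8.group K) := by
    refine mem_B0_two hv ?_
    rw [h3, Int.odd_iff]
    have h5 : ((Fintype.card K : ℕ) : ℤ) % 2 = 1 := by exact_mod_cast hodd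
    rw [evZ_emod, h5]
    decide +kernel
  rw [hS'] at h4
  exact H329.PQ.not_mem_E8 K hl hl2 (Or.inl rfl) hl' (hP.rat h2) (E8m.cube3 hx (hP.deg h2)) h4

end Cfsg.Agent.H632.PQ
end

private theorem dce_52e5cf6f3ffa : _root_.True := by
  try have : _root_.True := by simp only [_root_.Cfsg.Agent.H632.PQ.E8n.od.eq_1]
  exact _root_.True.intro
end
end
end
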